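import Mathlib
import Cfsg.Agent.PLocal.CoprimeLift
import Cfsg.Agent.H58.Rec.Outer_m3
import Cfsg.Agent.H371.OutPow
import Cfsg.Agent.S2061
import Cfsg.Agent.S2602
import Cfsg.Agent.CoThreeStd.NonSplit_m3
import Cfsg.Agent.Schreier.MTwelve
import Cfsg.Agent.H43.Eleven.Local
import Cfsg.Agent.H456.Rec.J3
import Cfsg.Agent.H58.Rec.KillTwo
import Cfsg.Agent.H537.CopSuzEl
import Cfsg.Agent.H94.Sp.AC
import Cfsg.Agent.H564.PSL
import Cfsg.Agent.H603.SporElim
import Cfsg.Agent.H270.Crit.Base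
import Cfsg.Agent.S2063
import Cfsg.Agent.H852.USixElts
import Cfsg.Agent.S0016
import Cfsg.Agent.S0144
import Cfsg.Agent.S0205
import Cfsg.Agent.H915.GNDefs_m3
import Cfsg.Agent.H180.KM11Cube
import Cfsg.Agent.H251.Small.U5
import Cfsg.Agent.H270.Crit.LTwo
import Cfsg.Agent.ClassicalGeometry.PSL2ElemOrder
import Cfsg.Agent.S2060
import Cfsg.Agent.H541.RecU52
import Cfsg.Agent.H893.Rec.M12Facts
import Cfsg.Agent.SporadicA.FieldFour
import Cfsg.Agent.TypeM.FactsMcL
import Cfsg.Agent.TypeM.FactsAut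
import Cfsg.Agent.H904.McLCent
import Cfsg.Agent.H852.FrobElts
import Cfsg.Agent.H559.SixMain
import Cfsg.Agent.H359.Rec.SuzTwo_m3
import Cfsg.Agent.H423.SpMod_m3
import Cfsg.Agent.FastGrp
import Cfsg.Agent.Prune
set_option linter.all false

section
prune_inst 0x7f00000000000000000000000000000000000000000000000000000000000000000000000000000000000000000000000000000000000000000000000000000000000000000000000000000000000000003fffffffffffffffffffffffffffbeffbdffffffff

-- part: H844/Rec/Out12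
section
set_option linter.all false
open scoped Cfsg.Agent.FastGrp

-- part: H844/Rec/ModA
section
/-!
# Modules for PSL(2,11) in characteristic two (helper844)

`V` an elementary abelian 2-group with an action of `SL(2,11)` (through `PSL(2,11)`) such that the norms of all cyclic
subgroups of order 6 and 11 vanish. A vector `a` fixed by the torus of order 5 gives vectors `bb a P Q` for each pair of
points of the projective line; they are symmetric and satisfy the triangle relation.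
-/

set_option autoImplicit false

namespace Cfsg.Agent.H844.Rec

open Matrix Finset

/-- `SL(2,11)` -/
abbrev SL := Matrix.SpecialLinearGroup (Fin 2) (ZMod 11)

instance fact11 : Fact (Nat.Prime 11) := ⟨by norm_num⟩

/-- the conditions on the module -/
structure Good (V : Type*) [AddCommGroup V] [DistribMulAction SL V] : Prop where
  neg : ∀ v : V, (-1 : SL) • v = v
  two : ∀ v : V, v + v = 0
  e11 : ∀ g : SL, g ^ 11 = 1 → g ≠ 1 → ∀ v : V, ∑ i ∈ range 11, g ^ i • v = 0
  e6 : ∀ g : SL, g ^ 6 = -1 → g ^ 2 ≠ -1 → ∀ v : V, ∑ i ∈ range 6, g ^ i • v = 0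

/-- the torus -/
def yy : SL := ⟨!![2, 0; 0, 6], by decide⟩

/-- the unipotent element -/
def uu : SL := ⟨!![1, 1; 0, 1], by decide⟩

section Basic

variable {V : Type*} [AddCommGroup V] [DistribMulAction SL V]

theorem me (A B : SL) (i j : Fin 2) : (A * B) i j = A i 0 * B 0 j + A i 1 * B 1 j := by
  have h : (A * B) i j = ((A : Matrix (Fin 2) (Fin 2) (ZMod 11)) * (B : Matrix (Fin 2) (Fin 2) (ZMod 11))) i j := rfl
  rw [h, Matrix.mul_apply, Fin.sum_univ_two]

theorem yy_pow (k : ℕ) : ((yy ^ k : SL) : Matrix (Fin 2) (Fin 2) (ZMod 11)) = !![2 ^ k, 0; 0, 6 ^ k] := by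
  induction k with
  | zero => simp [Matrix.one_fin_two]
  | succ k ih =>
    rw [pow_succ]
    simp only [Matrix.SpecialLinearGroup.coe_mul, ih]
    simp [yy, pow_succ]

theorem diag_smul {a : V} (ha : yy • a = a) (g : SL) (h01 : g 0 1 = 0) (h10 : g 1 0 = 0) : g • a = a := by
  have hk : ∀ k : ℕ, (yy ^ k) • a = a := by
    intro k
    induction k with
    | zero => rw [pow_zero, one_smul]
    | succ k ih => rw [pow_succ, mul_smul, ha, ih]
  have hdet : g 0 0 * g 1 1 = 1 := by
    have h := g.det_coe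
    rw [Matrix.det_fin_two] at h
    rw [h10, mul_zero, sub_zero] at h
    exact h
  have key : ∀ s t : ZMod 11, s * t = 1 → ∃ k ∈ Finset.range 10, s = 2 ^ k ∧ t = 6 ^ k := by decide +kernel
  obtain ⟨k, -, h1, h2⟩ := key _ _ hdet
  have hg : g = yy ^ k := by
    apply Subtype.ext
    rw [yy_pow]
    ext i j
    fin_cases i <;> fin_cases j
    · exact h1
    · exact h01
    · exact h10
    · exact h2
  rw [hg, hk]

theorem key_smul {a : V} (ha : yy • a = a) (M M' : SL) (h0 : M 0 0 * M' 1 0 = M 1 0 * M' 0 0)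
    (h1 : M 0 1 * M' 1 1 = M 1 1 * M' 0 1) : M' • a = M • a := by
  have hM : M' = M * (M⁻¹ * M') := by group
  rw [hM, mul_smul]
  congr 1
  apply diag_smul ha
  · simp only [Matrix.SpecialLinearGroup.coe_mul, Matrix.SpecialLinearGroup.coe_inv, Matrix.adjugate_fin_two, Matrix.mul_apply, Fin.sum_univ_two, Matrix.of_apply, Matrix.cons_val_zero, Matrix.cons_val_one,
      Matrix.cons_val']
    linear_combination -h1
  · simp only [Matrix.SpecialLinearGroup.coe_mul, Matrix.SpecialLinearGroup.coe_inv, Matrix.adjugate_fin_two, Matrix.mul_apply, Fin.sum_univ_two, Matrix.of_apply, Matrix.cons_val_zero, Matrix.cons_val_one,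
      Matrix.cons_val']
    linear_combination h0

/-- homogeneous coordinates of the points of the projective line; `11` is infinity -/
def px : Fin 12 → ZMod 11 := ![0, 1, 2, 3, 4, 5, 6, 7, 8, 9, 10, 1]

def pz : Fin 12 → ZMod 11 := ![1, 1, 1, 1, 1, 1, 1, 1, 1, 1, 1, 0]

def dt (P Q : Fin 12) : ZMod 11 := px P * pz Q - px Q * pz P

theorem dt_ne : ∀ P Q : Fin 12, P ≠ Q → dt P Q ≠ 0 := by decide +kernel

/-- a matrix with columns `P`, `Q` -/
def mm (P Q : Fin 12) (h : P ≠ Q) : SL :=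
  ⟨!![px P, px Q * (dt P Q)⁻¹; pz P, pz Q * (dt P Q)⁻¹], by
    rw [Matrix.det_fin_two_of]
    have h1 := dt_ne P Q h
    have h2 : px P * (pz Q * (dt P Q)⁻¹) - px Q * (dt P Q)⁻¹ * pz P = dt P Q * (dt P Q)⁻¹ := by
      unfold dt; ring
    rw [h2, mul_inv_cancel₀ h1]⟩

/-- the vector of the pair `(P, Q)` -/
def bb (a : V) (P Q : Fin 12) : V := if h : P ≠ Q then mm P Q h • a else 0

/-- `gp` is the permutation of the projective line induced by `g` -/
def Eqv (g : SL) (gp : Fin 12 → Fin 12) : Prop :=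
  (∀ P, (g 0 0 * px P + g 0 1 * pz P) * pz (gp P) = (g 1 0 * px P + g 1 1 * pz P) * px (gp P)) ∧
    ∀ P Q, gp P = gp Q → P = Q

instance decEqv (g : SL) (gp : Fin 12 → Fin 12) : Decidable (Eqv g gp) := by
  unfold Eqv; infer_instance

theorem bb_smul {a : V} (ha : yy • a = a) {g : SL} {gp : Fin 12 → Fin 12} (h : Eqv g gp) (P Q : Fin 12) :
    g • bb a P Q = bb a (gp P) (gp Q) := by
  unfold bb
  by_cases hPQ : P = Q
  · subst hPQ
    simp
  · have hPQ' : gp P ≠ gp Q := fun h1 => hPQ (h.2 P Q h1)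
    rw [dif_pos hPQ, dif_pos hPQ', ← mul_smul]
    apply key_smul ha
    · rw [me, me]
      show px (gp P) * (g 1 0 * px P + g 1 1 * pz P) = pz (gp P) * (g 0 0 * px P + g 0 1 * pz P)
      linear_combination -(h.1 P)
    · rw [me, me]
      show px (gp Q) * (dt (gp P) (gp Q))⁻¹ * (g 1 0 * (px Q * (dt P Q)⁻¹) + g 1 1 * (pz Q * (dt P Q)⁻¹)) =
        pz (gp Q) * (dt (gp P) (gp Q))⁻¹ * (g 0 0 * (px Q * (dt P Q)⁻¹) + g 0 1 * (pz Q * (dt P Q)⁻¹))
      linear_combination (-((dt (gp P) (gp Q))⁻¹ * (dt P Q)⁻¹)) * (h.1 Q)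

theorem pow_bb {a : V} (ha : yy • a = a) {g : SL} {gp : Fin 12 → Fin 12} (h : Eqv g gp) (P Q : Fin 12) (i : ℕ) :
    g ^ i • bb a P Q = bb a (gp^[i] P) (gp^[i] Q) := by
  induction i with
  | zero => simp
  | succ i ih =>
    rw [pow_succ', mul_smul, ih, bb_smul ha h, Function.iterate_succ_apply', Function.iterate_succ_apply']

theorem rel6 (hV : Good V) {a : V} (ha : yy • a = a) {g : SL} {gp : Fin 12 → Fin 12} (h : Eqv g gp)
    (h6 : g ^ 6 = -1) (h2 : g ^ 2 ≠ -1) (P Q : Fin 12) :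
    bb a P Q + bb a (gp P) (gp Q) + bb a (gp (gp P)) (gp (gp Q)) + bb a (gp (gp (gp P))) (gp (gp (gp Q))) +
      bb a (gp (gp (gp (gp P)))) (gp (gp (gp (gp Q)))) +
      bb a (gp (gp (gp (gp (gp P))))) (gp (gp (gp (gp (gp Q))))) = 0 := by
  have h1 := hV.e6 g h6 h2 (bb a P Q)
  simp only [pow_bb ha h] at h1
  rw [Finset.sum_range_succ, Finset.sum_range_succ, Finset.sum_range_succ, Finset.sum_range_succ,
    Finset.sum_range_succ, Finset.sum_range_succ, Finset.sum_range_zero, zero_add] at h1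
  exact h1

theorem rel11 (hV : Good V) {a : V} (ha : yy • a = a) {g : SL} {gp : Fin 12 → Fin 12} (h : Eqv g gp)
    (h6 : g ^ 11 = 1) (h2 : g ≠ 1) (P Q : Fin 12) :
    ∑ i ∈ range 11, bb a (gp^[i] P) (gp^[i] Q) = 0 := by
  have h1 := hV.e11 g h6 h2 (bb a P Q)
  simp only [pow_bb ha h] at h1
  exact h1

end Basic

end Cfsg.Agent.H844.Rec
end

-- part: H844/Rec/ModB
section
/-!
# Modules for PSL(2,11) in characteristic two, part B (helper844)

The vectors `bb a P Q` are symmetric and satisfy the triangle relation (generated certificates).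
-/

set_option autoImplicit false
set_option maxHeartbeats 1000000

namespace Cfsg.Agent.H844.Rec

open Matrix Finset

variable {V : Type*} [AddCommGroup V] [DistribMulAction SL V]

def yp : Fin 12 → Fin 12 := ![0, 4, 8, 1, 5, 9, 2, 6, 10, 3, 7, 11]
def up : Fin 12 → Fin 12 := ![1, 2, 3, 4, 5, 6, 7, 8, 9, 10, 0, 11]
theorem ey : Eqv yy yp := by decide +kernel
theorem eu : Eqv uu up := by decide +kernel

theorem img6 {a : V} (ha : yy • a = a) {g : SL} {gp : Fin 12 → Fin 12} (h : Eqv g gp)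
    {P1 Q1 P2 Q2 P3 Q3 P4 Q4 P5 Q5 P6 Q6 : Fin 12}
    (h1 : bb a P1 Q1 + bb a P2 Q2 + bb a P3 Q3 + bb a P4 Q4 + bb a P5 Q5 + bb a P6 Q6 = 0) :
    bb a (gp P1) (gp Q1) + bb a (gp P2) (gp Q2) + bb a (gp P3) (gp Q3) + bb a (gp P4) (gp Q4) +
      bb a (gp P5) (gp Q5) + bb a (gp P6) (gp Q6) = 0 := by
  have h2 := congrArg (fun v => g • v) h1
  simp only [smul_add, bb_smul ha h, smul_zero] at h2
  exact h2


def ga1 : SL := ⟨!![0, 1; 10, 5], by decide⟩
def pa1 : Fin 12 → Fin 12 := ![9, 3, 4, 6, 1, 11, 10, 5, 7, 8, 2, 0]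
theorem ea1 : Eqv ga1 pa1 := by decide +kernel
theorem sa1 : ga1 ^ 6 = -1 := by decide
theorem ta1 : ga1 ^ 2 ≠ -1 := by decide

def ga2 : SL := ⟨!![2, 1; 7, 4], by decide⟩
def pa2 : Fin 12 → Fin 12 := ![3, 11, 7, 6, 2, 0, 1, 9, 10, 8, 4, 5]
theorem ea2 : Eqv ga2 pa2 := by decide +kernel
theorem sa2 : ga2 ^ 6 = -1 := by decide
theorem ta2 : ga2 ^ 2 ≠ -1 := by decide

theorem symm0 (hV : Good V) {a : V} (ha : yy • a = a) : bb a 11 0 + bb a 0 11 = 0 := by
  have r0_0 : bb a 0 7 + bb a 9 5 + bb a 8 11 + bb a 7 0 + bb a 5 9 + bb a 11 8 = 0 :=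
    rel6 hV ha ea1 sa1 ta1 0 7
  have r0_1 : bb a 0 6 + bb a 3 9 + bb a 10 11 + bb a 6 0 + bb a 9 3 + bb a 11 10 = 0 :=
    (img6 ha ey r0_0 :)
  have r0_2 : bb a 0 2 + bb a 1 3 + bb a 7 11 + bb a 2 0 + bb a 3 1 + bb a 11 7 = 0 :=
    (img6 ha ey r0_1 :)
  have r0_3 : bb a 0 8 + bb a 4 1 + bb a 6 11 + bb a 8 0 + bb a 1 4 + bb a 11 6 = 0 :=
    (img6 ha ey r0_2 :)
  have r0_4 : bb a 0 10 + bb a 5 4 + bb a 2 11 + bb a 10 0 + bb a 4 5 + bb a 11 2 = 0 :=
    (img6 ha ey r0_3 :)
  have r1_0 : bb a 0 6 + bb a 3 1 + bb a 6 11 + bb a 1 5 + bb a 11 0 + bb a 5 3 = 0 :=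
    rel6 hV ha ea2 sa2 ta2 0 6
  have r1_1 : bb a 0 2 + bb a 1 4 + bb a 2 11 + bb a 4 9 + bb a 11 0 + bb a 9 1 = 0 :=
    (img6 ha ey r1_0 :)
  have r1_2 : bb a 0 8 + bb a 4 5 + bb a 8 11 + bb a 5 3 + bb a 11 0 + bb a 3 4 = 0 :=
    (img6 ha ey r1_1 :)
  have r1_3 : bb a 0 10 + bb a 5 9 + bb a 10 11 + bb a 9 1 + bb a 11 0 + bb a 1 5 = 0 :=
    (img6 ha ey r1_2 :)
  have r1_4 : bb a 0 7 + bb a 9 3 + bb a 7 11 + bb a 3 4 + bb a 11 0 + bb a 4 9 = 0 :=
    (img6 ha ey r1_3 :)
  have r2_0 : bb a 0 11 + bb a 3 5 + bb a 6 0 + bb a 1 3 + bb a 11 6 + bb a 5 1 = 0 :=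
    rel6 hV ha ea2 sa2 ta2 0 11
  have r2_1 : bb a 0 11 + bb a 1 9 + bb a 2 0 + bb a 4 1 + bb a 11 2 + bb a 9 4 = 0 :=
    (img6 ha ey r2_0 :)
  have r2_2 : bb a 0 11 + bb a 4 3 + bb a 8 0 + bb a 5 4 + bb a 11 8 + bb a 3 5 = 0 :=
    (img6 ha ey r2_1 :)
  have r2_3 : bb a 0 11 + bb a 5 1 + bb a 10 0 + bb a 9 5 + bb a 11 10 + bb a 1 9 = 0 :=
    (img6 ha ey r2_2 :)
  have r2_4 : bb a 0 11 + bb a 9 4 + bb a 7 0 + bb a 3 9 + bb a 11 7 + bb a 4 3 = 0 :=
    (img6 ha ey r2_3 :)
  have key : bb a 11 0 + bb a 0 11 + ((bb a 0 2 + bb a 0 2) + (bb a 0 6 + bb a 0 6) + (bb a 0 7 + bb a 0 7) + (bb a 0 8 + bb a 0 8) +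
      (bb a 0 10 + bb a 0 10) + (bb a 0 11 + bb a 0 11) + (bb a 0 11 + bb a 0 11) + (bb a 1 3 + bb a 1 3) +
      (bb a 1 4 + bb a 1 4) + (bb a 1 5 + bb a 1 5) + (bb a 1 9 + bb a 1 9) + (bb a 2 0 + bb a 2 0) +
      (bb a 2 11 + bb a 2 11) + (bb a 3 1 + bb a 3 1) + (bb a 3 4 + bb a 3 4) + (bb a 3 5 + bb a 3 5) +
      (bb a 3 9 + bb a 3 9) + (bb a 4 1 + bb a 4 1) + (bb a 4 3 + bb a 4 3) + (bb a 4 5 + bb a 4 5) +
      (bb a 4 9 + bb a 4 9) + (bb a 5 1 + bb a 5 1) + (bb a 5 3 + bb a 5 3) + (bb a 5 4 + bb a 5 4) +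
      (bb a 5 9 + bb a 5 9) + (bb a 6 0 + bb a 6 0) + (bb a 6 11 + bb a 6 11) + (bb a 7 0 + bb a 7 0) +
      (bb a 7 11 + bb a 7 11) + (bb a 8 0 + bb a 8 0) + (bb a 8 11 + bb a 8 11) + (bb a 9 1 + bb a 9 1) +
      (bb a 9 3 + bb a 9 3) + (bb a 9 4 + bb a 9 4) + (bb a 9 5 + bb a 9 5) + (bb a 10 0 + bb a 10 0) +
      (bb a 10 11 + bb a 10 11) + (bb a 11 0 + bb a 11 0) + (bb a 11 0 + bb a 11 0) + (bb a 11 2 +
      bb a 11 2) + (bb a 11 6 + bb a 11 6) + (bb a 11 7 + bb a 11 7) + (bb a 11 8 + bb a 11 8) +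
      (bb a 11 10 + bb a 11 10)) =
      (bb a 0 7 + bb a 9 5 + bb a 8 11 + bb a 7 0 + bb a 5 9 + bb a 11 8) +
      (bb a 0 6 + bb a 3 9 + bb a 10 11 + bb a 6 0 + bb a 9 3 + bb a 11 10) +
      (bb a 0 2 + bb a 1 3 + bb a 7 11 + bb a 2 0 + bb a 3 1 + bb a 11 7) +
      (bb a 0 8 + bb a 4 1 + bb a 6 11 + bb a 8 0 + bb a 1 4 + bb a 11 6) +
      (bb a 0 10 + bb a 5 4 + bb a 2 11 + bb a 10 0 + bb a 4 5 + bb a 11 2) +
      (bb a 0 6 + bb a 3 1 + bb a 6 11 + bb a 1 5 + bb a 11 0 + bb a 5 3) +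
      (bb a 0 2 + bb a 1 4 + bb a 2 11 + bb a 4 9 + bb a 11 0 + bb a 9 1) +
      (bb a 0 8 + bb a 4 5 + bb a 8 11 + bb a 5 3 + bb a 11 0 + bb a 3 4) +
      (bb a 0 10 + bb a 5 9 + bb a 10 11 + bb a 9 1 + bb a 11 0 + bb a 1 5) +
      (bb a 0 7 + bb a 9 3 + bb a 7 11 + bb a 3 4 + bb a 11 0 + bb a 4 9) +
      (bb a 0 11 + bb a 3 5 + bb a 6 0 + bb a 1 3 + bb a 11 6 + bb a 5 1) +
      (bb a 0 11 + bb a 1 9 + bb a 2 0 + bb a 4 1 + bb a 11 2 + bb a 9 4) +
      (bb a 0 11 + bb a 4 3 + bb a 8 0 + bb a 5 4 + bb a 11 8 + bb a 3 5) +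
      (bb a 0 11 + bb a 5 1 + bb a 10 0 + bb a 9 5 + bb a 11 10 + bb a 1 9) +
      (bb a 0 11 + bb a 9 4 + bb a 7 0 + bb a 3 9 + bb a 11 7 + bb a 4 3) := by
    abel
  simp only [hV.two, add_zero] at key
  rw [key, r0_0, r0_1, r0_2, r0_3, r0_4, r1_0, r1_1, r1_2, r1_3, r1_4, r2_0, r2_1, r2_2, r2_3, r2_4]
  simp only [add_zero]


theorem bb_11_0 {a : V} (ha : yy • a = a) : bb a 11 0 = a := by
  have h : (11 : Fin 12) ≠ 0 := by decide
  unfold bb
  rw [dif_pos h]
  have h1 : mm 11 0 h • a = (1 : SL) • a := by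
    apply key_smul ha
    · show (1 : ZMod 11) * 0 = 0 * 1
      ring
    · show (0 : ZMod 11) * (1 * (dt 11 0)⁻¹) = 1 * (0 * (dt 11 0)⁻¹)
      ring
  rw [h1, one_smul]

theorem bb_self (a : V) (P : Fin 12) : bb a P P = 0 := by
  unfold bb
  rw [dif_neg (fun h => h rfl)]

/-- the involution -/
theorem bb_symm (hV : Good V) {a : V} (ha : yy • a = a) (P Q : Fin 12) : bb a P Q = bb a Q P := by
  have h0 := symm0 hV ha
  rw [bb_11_0 ha] at h0
  have h01 : bb a 0 11 = a := by
    have h2 := hV.two a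
    rw [← h2] at h0
    exact add_left_cancel h0
  have h : (0 : Fin 12) ≠ 11 := by decide
  unfold bb at h01
  rw [dif_pos h] at h01
  by_cases hPQ : P = Q
  · subst hPQ; rfl
  · have hQP : Q ≠ P := fun h => hPQ h.symm
    unfold bb
    rw [dif_pos hPQ, dif_pos hQP]
    have h1 : (mm P Q hPQ * mm 0 11 h) • a = mm Q P hQP • a := by
      have e1 : dt Q P = - dt P Q := by unfold dt; ring
      apply key_smul ha
      · rw [me, me]
        show px Q * (pz P * px 0 + pz Q * (dt P Q)⁻¹ * pz 0) = pz Q * (px P * px 0 + px Q * (dt P Q)⁻¹ * pz 0)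
        have : px 0 = 0 := rfl
        rw [this]
        ring
      · rw [me, me]
        show px P * (dt Q P)⁻¹ * (pz P * (px 11 * (dt 0 11)⁻¹) + pz Q * (dt P Q)⁻¹ * (pz 11 * (dt 0 11)⁻¹)) =
          pz P * (dt Q P)⁻¹ * (px P * (px 11 * (dt 0 11)⁻¹) + px Q * (dt P Q)⁻¹ * (pz 11 * (dt 0 11)⁻¹))
        have : pz 11 = 0 := rfl
        rw [this]
        ring
    rw [← h1, mul_smul, h01]


def gx3 : SL := ⟨!![0, 1; 10, 10], by decide⟩
def px3 : Fin 12 → Fin 12 := ![10, 5, 7, 8, 2, 9, 3, 4, 6, 1, 11, 0]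
theorem ex3 : Eqv gx3 px3 := by decide +kernel

def gb0 : SL := ⟨!![0, 1; 10, 2], by decide⟩
def pb0 : Fin 12 → Fin 12 := ![6, 1, 11, 10, 5, 7, 8, 2, 9, 3, 4, 0]
theorem eb0 : Eqv gb0 pb0 := by decide +kernel
theorem sb0 : gb0 ^ 11 = 1 := by decide +kernel
theorem tb0 : gb0 ≠ 1 := by decide

def gb1 : SL := ⟨!![0, 2; 5, 5], by decide⟩
def pb1 : Fin 12 → Fin 12 := ![7, 9, 6, 10, 8, 3, 1, 5, 2, 4, 11, 0]
theorem eb1 : Eqv gb1 pb1 := by decide +kernel
theorem sb1 : gb1 ^ 6 = -1 := by decide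
theorem tb1 : gb1 ^ 2 ≠ -1 := by decide

def gb2 : SL := ⟨!![2, 5; 1, 3], by decide⟩
def pb2 : Fin 12 → Fin 12 := ![9, 10, 4, 0, 5, 6, 8, 3, 11, 1, 7, 2]
theorem eb2 : Eqv gb2 pb2 := by decide +kernel
theorem sb2 : gb2 ^ 6 = -1 := by decide
theorem tb2 : gb2 ^ 2 ≠ -1 := by decide

theorem tri0 (hV : Good V) {a : V} (ha : yy • a = a) : bb a 0 11 + bb a 10 11 + bb a 0 10 = 0 := by
  have q0 := rel11 hV ha eb0 sb0 tb0 0 3
  simp only [Finset.sum_range_succ, Finset.sum_range_zero, zero_add, Function.iterate_zero, id_eq, Function.iterate_succ,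
    Function.comp_apply] at q0
  have r0_0 : bb a 0 3 + bb a 6 10 + bb a 8 4 + bb a 9 5 + bb a 3 7 + bb a 10 2 + bb a 4 11 + bb a 5 0 + bb a 7 6 + bb a 2 8 + bb a 11 9 = 0 := q0
  have r0_1 : bb a 10 8 + bb a 3 11 + bb a 6 2 + bb a 1 9 + bb a 8 4 + bb a 11 7 + bb a 2 0 + bb a 9 10 + bb a 4 3 + bb a 7 6 + bb a 0 1 = 0 := by
    have h2 := congrArg (fun v => gx3 • v) r0_0
    simp only [smul_add, bb_smul ha ex3, smul_zero] at h2
    exact h2
  have r0_2 : bb a 11 6 + bb a 8 0 + bb a 3 7 + bb a 5 1 + bb a 6 2 + bb a 0 4 + bb a 7 10 + bb a 1 11 + bb a 2 8 + bb a 4 3 + bb a 10 5 = 0 := by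
    have h2 := congrArg (fun v => gx3 • v) r0_1
    simp only [smul_add, bb_smul ha ex3, smul_zero] at h2
    exact h2
  have r1_0 : bb a 0 5 + bb a 7 3 + bb a 5 10 + bb a 3 11 + bb a 10 0 + bb a 11 7 = 0 :=
    rel6 hV ha eb1 sb1 tb1 0 5
  have r1_1 : bb a 10 9 + bb a 4 8 + bb a 9 11 + bb a 8 0 + bb a 11 10 + bb a 0 4 = 0 :=
    (img6 ha ex3 r1_0 :)
  have r1_2 : bb a 11 1 + bb a 2 6 + bb a 1 0 + bb a 6 10 + bb a 0 11 + bb a 10 2 = 0 :=
    (img6 ha ex3 r1_1 :)
  have r2_0 : bb a 0 3 + bb a 9 0 + bb a 1 9 + bb a 10 1 + bb a 7 10 + bb a 3 7 = 0 :=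
    rel6 hV ha eb2 sb2 tb2 0 3
  have r2_1 : bb a 10 8 + bb a 1 10 + bb a 5 1 + bb a 11 5 + bb a 4 11 + bb a 8 4 = 0 :=
    (img6 ha ex3 r2_0 :)
  have r2_2 : bb a 11 6 + bb a 5 11 + bb a 9 5 + bb a 0 9 + bb a 2 0 + bb a 6 2 = 0 :=
    (img6 ha ex3 r2_1 :)
  simp only [bb_symm hV ha 1 0, bb_symm hV ha 2 0, bb_symm hV ha 4 3, bb_symm hV ha 5 0, bb_symm hV ha 5 1, bb_symm hV ha 6 2, bb_symm hV ha 7 3, bb_symm hV ha 7 6, bb_symm hV ha 8 0, bb_symm hV ha 8 4, bb_symm hV ha 9 0, bb_symm hV ha 9 5, bb_symm hV ha 10 0, bb_symm hV ha 10 1, bb_symm hV ha 10 2, bb_symm hV ha 10 5, bb_symm hV ha 10 8, bb_symm hV ha 10 9, bb_symm hV ha 11 1, bb_symm hV ha 11 5, bb_symm hV ha 11 6, bb_symm hV ha 11 7, bb_symm hV ha 11 9, bb_symm hV ha 11 10] at r0_0 r0_1 r0_2 r1_0 r1_1 r1_2 r2_0 r2_1 r2_2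
  have key : bb a 0 11 + bb a 10 11 + bb a 0 10 + ((bb a 0 1 + bb a 0 1) + (bb a 0 2 + bb a 0 2) + (bb a 0 3 + bb a 0 3) + (bb a 0 4 + bb a 0 4) +
      (bb a 0 5 + bb a 0 5) + (bb a 0 8 + bb a 0 8) + (bb a 0 9 + bb a 0 9) + (bb a 1 5 + bb a 1 5) +
      (bb a 1 9 + bb a 1 9) + (bb a 1 10 + bb a 1 10) + (bb a 1 11 + bb a 1 11) + (bb a 2 6 + bb a 2 6) +
      (bb a 2 6 + bb a 2 6) + (bb a 2 8 + bb a 2 8) + (bb a 2 10 + bb a 2 10) + (bb a 3 4 + bb a 3 4) +
      (bb a 3 7 + bb a 3 7) + (bb a 3 7 + bb a 3 7) + (bb a 3 11 + bb a 3 11) + (bb a 4 8 + bb a 4 8) +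
      (bb a 4 8 + bb a 4 8) + (bb a 4 11 + bb a 4 11) + (bb a 5 9 + bb a 5 9) + (bb a 5 10 + bb a 5 10) +
      (bb a 5 11 + bb a 5 11) + (bb a 6 7 + bb a 6 7) + (bb a 6 10 + bb a 6 10) + (bb a 6 11 + bb a 6 11) +
      (bb a 7 10 + bb a 7 10) + (bb a 7 11 + bb a 7 11) + (bb a 8 10 + bb a 8 10) + (bb a 9 10 +
      bb a 9 10) + (bb a 9 11 + bb a 9 11)) =
      (bb a 0 3 + bb a 6 10 + bb a 4 8 + bb a 5 9 + bb a 3 7 + bb a 2 10 + bb a 4 11 + bb a 0 5 + bb a 6 7 + bb a 2 8 + bb a 9 11) +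
      (bb a 8 10 + bb a 3 11 + bb a 2 6 + bb a 1 9 + bb a 4 8 + bb a 7 11 + bb a 0 2 + bb a 9 10 + bb a 3 4 + bb a 6 7 + bb a 0 1) +
      (bb a 6 11 + bb a 0 8 + bb a 3 7 + bb a 1 5 + bb a 2 6 + bb a 0 4 + bb a 7 10 + bb a 1 11 + bb a 2 8 + bb a 3 4 + bb a 5 10) +
      (bb a 0 5 + bb a 3 7 + bb a 5 10 + bb a 3 11 + bb a 0 10 + bb a 7 11) +
      (bb a 9 10 + bb a 4 8 + bb a 9 11 + bb a 0 8 + bb a 10 11 + bb a 0 4) +
      (bb a 1 11 + bb a 2 6 + bb a 0 1 + bb a 6 10 + bb a 0 11 + bb a 2 10) +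
      (bb a 0 3 + bb a 0 9 + bb a 1 9 + bb a 1 10 + bb a 7 10 + bb a 3 7) +
      (bb a 8 10 + bb a 1 10 + bb a 1 5 + bb a 5 11 + bb a 4 11 + bb a 4 8) +
      (bb a 6 11 + bb a 5 11 + bb a 5 9 + bb a 0 9 + bb a 0 2 + bb a 2 6) := by
    abel
  simp only [hV.two, add_zero] at key
  rw [key, r0_0, r0_1, r0_2, r1_0, r1_1, r1_2, r2_0, r2_1, r2_2]
  simp only [add_zero]


theorem tri1 (hV : Good V) {a : V} (ha : yy • a = a) : bb a 0 10 = bb a 11 0 + bb a 11 10 := by
  have h := tri0 hV ha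
  rw [bb_symm hV ha 0 11, bb_symm hV ha 10 11] at h
  have h2 := hV.two (bb a 11 0 + bb a 11 10)
  rw [← h2] at h
  exact add_left_cancel h

theorem find_ij : ∀ P Q : Fin 12, P ≠ 11 → Q ≠ 11 → P ≠ Q → ∃ i ∈ Finset.range 11, ∃ j ∈ Finset.range 5,
    (P = up^[i] (yp^[j] 0) ∧ Q = up^[i] (yp^[j] 10)) ∨ (Q = up^[i] (yp^[j] 0) ∧ P = up^[i] (yp^[j] 10)) := by
  decide +kernel

/-- the vectors of the pairs are sums of two vectors -/
theorem tri (hV : Good V) {a : V} (ha : yy • a = a) (P Q : Fin 12) : bb a P Q = bb a 11 P + bb a 11 Q := by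
  have hu : ∀ P Q, bb a P Q = bb a 11 P + bb a 11 Q →
      bb a (up P) (up Q) = bb a 11 (up P) + bb a 11 (up Q) := by
    intro P Q h
    have h2 := congrArg (fun v => uu • v) h
    simp only [smul_add, bb_smul ha eu] at h2
    exact h2
  have hy : ∀ P Q, bb a P Q = bb a 11 P + bb a 11 Q →
      bb a (yp P) (yp Q) = bb a 11 (yp P) + bb a 11 (yp Q) := by
    intro P Q h
    have h2 := congrArg (fun v => yy • v) h
    simp only [smul_add, bb_smul ha ey] at h2
    exact h2
  have hui : ∀ i P Q, bb a P Q = bb a 11 P + bb a 11 Q →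
      bb a (up^[i] P) (up^[i] Q) = bb a 11 (up^[i] P) + bb a 11 (up^[i] Q) := by
    intro i
    induction i with
    | zero => intro P Q h; exact h
    | succ i ih =>
      intro P Q h
      rw [Function.iterate_succ_apply, Function.iterate_succ_apply]
      exact ih _ _ (hu P Q h)
  have hyi : ∀ i P Q, bb a P Q = bb a 11 P + bb a 11 Q →
      bb a (yp^[i] P) (yp^[i] Q) = bb a 11 (yp^[i] P) + bb a 11 (yp^[i] Q) := by
    intro i
    induction i with
    | zero => intro P Q h; exact h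
    | succ i ih =>
      intro P Q h
      rw [Function.iterate_succ_apply, Function.iterate_succ_apply]
      exact ih _ _ (hy P Q h)
  by_cases hPQ : P = Q
  · subst hPQ
    rw [bb_self, hV.two]
  by_cases hP : P = 11
  · subst hP
    rw [bb_self, zero_add]
  by_cases hQ : Q = 11
  · subst hQ
    rw [bb_self, add_zero, bb_symm hV ha]
  obtain ⟨i, -, j, -, ⟨rfl, rfl⟩ | ⟨rfl, rfl⟩⟩ := find_ij P Q hP hQ hPQ
  · exact hui i _ _ (hyi j _ _ (tri1 hV ha))
  · rw [bb_symm hV ha, add_comm]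
    exact hui i _ _ (hyi j _ _ (tri1 hV ha))

end Cfsg.Agent.H844.Rec
end

-- part: H844/Rec/ModC
section
/-!
# Modules for PSL(2,11) in characteristic two, part C (helper844)

`bil_zero`: an equivariant bilinear map `U × U → D` vanishing on the fixed points of the torus of order 5 is zero.
-/

set_option autoImplicit false
set_option maxHeartbeats 1000000
set_option linter.unusedSectionVars false
set_option linter.unusedSimpArgs false

namespace Cfsg.Agent.H844.Rec

open Matrix Finset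


def gc0 : SL := ⟨!![0, 2; 5, 6], by decide⟩
def pc0 : Fin 12 → Fin 12 := ![4, 11, 7, 9, 6, 10, 8, 3, 1, 5, 2, 0]
theorem ec0 : Eqv gc0 pc0 := by decide +kernel
theorem sc0 : gc0 ^ 6 = -1 := by decide
theorem tc0 : gc0 ^ 2 ≠ -1 := by decide

def gc1 : SL := ⟨!![1, 1; 3, 4], by decide⟩
def pc1 : Fin 12 → Fin 12 := ![3, 5, 8, 2, 1, 9, 11, 10, 7, 6, 0, 4]
theorem ec1 : Eqv gc1 pc1 := by decide +kernel
theorem sc1 : gc1 ^ 6 = -1 := by decide
theorem tc1 : gc1 ^ 2 ≠ -1 := by decide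

def gc2 : SL := ⟨!![1, 4; 9, 4], by decide⟩
def pc2 : Fin 12 → Fin 12 := ![1, 8, 11, 2, 9, 4, 7, 0, 10, 3, 6, 5]
theorem ec2 : Eqv gc2 pc2 := by decide +kernel
theorem sc2 : gc2 ^ 6 = -1 := by decide
theorem tc2 : gc2 ^ 2 ≠ -1 := by decide

def gc3 : SL := ⟨!![1, 5; 3, 5], by decide⟩
def pc3 : Fin 12 → Fin 12 := ![1, 9, 11, 10, 7, 6, 0, 3, 5, 8, 2, 4]
theorem ec3 : Eqv gc3 pc3 := by decide +kernel
theorem sc3 : gc3 ^ 6 = -1 := by decide
theorem tc3 : gc3 ^ 2 ≠ -1 := by decide

def gc4 : SL := ⟨!![1, 9; 4, 4], by decide⟩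
def pc4 : Fin 12 → Fin 12 := ![5, 4, 0, 9, 10, 7, 8, 6, 2, 1, 11, 3]
theorem ec4 : Eqv gc4 pc4 := by decide +kernel
theorem sc4 : gc4 ^ 6 = -1 := by decide
theorem tc4 : gc4 ^ 2 ≠ -1 := by decide

def gc5 : SL := ⟨!![2, 1; 5, 3], by decide⟩
def pc5 : Fin 12 → Fin 12 := ![4, 10, 8, 1, 9, 0, 11, 3, 5, 2, 6, 7]
theorem ec5 : Eqv gc5 pc5 := by decide +kernel
theorem sc5 : gc5 ^ 6 = -1 := by decide
theorem tc5 : gc5 ^ 2 ≠ -1 := by decide

def gc6 : SL := ⟨!![2, 4; 4, 3], by decide⟩
def pc6 : Fin 12 → Fin 12 := ![5, 4, 11, 8, 7, 3, 1, 2, 10, 0, 9, 6]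
theorem ec6 : Eqv gc6 pc6 := by decide +kernel
theorem sc6 : gc6 ^ 6 = -1 := by decide
theorem tc6 : gc6 ^ 2 ≠ -1 := by decide

def gc7 : SL := ⟨!![2, 8; 5, 4], by decide⟩
def pc7 : Fin 12 → Fin 12 := ![2, 6, 4, 10, 8, 1, 9, 0, 11, 3, 5, 7]
theorem ec7 : Eqv gc7 pc7 := by decide +kernel
theorem sc7 : gc7 ^ 6 = -1 := by decide
theorem tc7 : gc7 ^ 2 ≠ -1 := by decide

def gc8 : SL := ⟨!![3, 3; 10, 3], by decide⟩
def pc8 : Fin 12 → Fin 12 := ![1, 3, 9, 11, 7, 2, 4, 5, 10, 6, 0, 8]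
theorem ec8 : Eqv gc8 pc8 := by decide +kernel
theorem sc8 : gc8 ^ 6 = -1 := by decide
theorem tc8 : gc8 ^ 2 ≠ -1 := by decide

def gh : SL := ⟨!![1, 0; 4, 1], by decide⟩
def ph : Fin 12 → Fin 12 := ![0, 9, 10, 7, 8, 6, 2, 1, 11, 5, 4, 3]
theorem eh : Eqv gh ph := by decide +kernel
theorem sh : gh ^ 11 = 1 := by decide +kernel
theorem th : gh ≠ 1 := by decide

def gk : SL := ⟨!![1, 8; 6, 5], by decide⟩
def pk : Fin 12 → Fin 12 := ![6, 11, 9, 0, 8, 1, 10, 5, 3, 7, 4, 2]
theorem ek : Eqv gk pk := by decide +kernel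

section Bil

variable {U : Type*} [AddCommGroup U] [DistribMulAction SL U]
variable {D : Type*} [AddCommGroup D] [DistribMulAction SL D]

/-- the trilinear-type function -/
def tt (f : U →+ U →+ D) (a b : U) (P Q R : Fin 12) : D := f (bb a P Q) (bb b P R)

def FF (f : U →+ U →+ D) (a b : U) (P Q : Fin 12) : D := f (bb a 11 P) (bb b 11 Q)

theorem eq_of_add {V : Type*} [AddCommGroup V] (h2 : ∀ v : V, v + v = 0) {x y : V} (h : x + y = 0) : x = y := by
  have h3 := h2 y
  rw [← h3] at h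
  exact add_right_cancel h

variable (hU : Good U) (hD : Good D) (f : U →+ U →+ D) (hf : ∀ (g : SL) (x y : U), f (g • x) (g • y) = g • f x y)
  (hf0 : ∀ x y : U, yy • x = x → yy • y = y → f x y = 0)

include hU hD hf hf0

theorem pair_zero {a b : U} (ha : yy • a = a) (hb : yy • b = b) (P Q : Fin 12) : f (bb a P Q) (bb b P Q) = 0 := by
  unfold bb
  split
  · rw [hf, hf0 a b ha hb, smul_zero]
  · simp

theorem FF_self {a b : U} (ha : yy • a = a) (hb : yy • b = b) (P : Fin 12) : FF f a b P P = 0 :=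
  pair_zero hU hD f hf hf0 ha hb 11 P

omit hU hD hf hf0 in
theorem FF_left (a b : U) (P : Fin 12) : FF f a b 11 P = 0 := by
  unfold FF; rw [bb_self]; simp

omit hU hD hf hf0 in
theorem FF_right (a b : U) (P : Fin 12) : FF f a b P 11 = 0 := by
  unfold FF; rw [bb_self]; simp

theorem FF_symm {a b : U} (ha : yy • a = a) (hb : yy • b = b) (P Q : Fin 12) : FF f a b P Q = FF f a b Q P := by
  have h := pair_zero hU hD f hf hf0 ha hb P Q
  rw [tri hU ha, tri hU hb] at h
  simp only [map_add, AddMonoidHom.add_apply] at h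
  have h1 := FF_self hU hD f hf hf0 ha hb P
  have h2 := FF_self hU hD f hf hf0 ha hb Q
  unfold FF at h1 h2 ⊢
  rw [h1, h2] at h
  apply eq_of_add hD.two
  rw [← h]
  abel

theorem tt_eq {a b : U} (ha : yy • a = a) (hb : yy • b = b) (P Q R : Fin 12) :
    tt f a b P Q R = FF f a b P Q + FF f a b P R + FF f a b Q R := by
  unfold tt
  rw [tri hU ha P Q, tri hU hb P R]
  simp only [map_add, AddMonoidHom.add_apply]
  have h1 := FF_self hU hD f hf hf0 ha hb P
  have h2 := FF_symm hU hD f hf hf0 ha hb P Q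
  unfold FF at h1 h2 ⊢
  rw [h1, h2]
  abel

omit hU hD hf0 in
theorem tt_smul {a b : U} (ha : yy • a = a) (hb : yy • b = b) {g : SL} {gp : Fin 12 → Fin 12} (h : Eqv g gp)
    (P Q R : Fin 12) : g • tt f a b P Q R = tt f a b (gp P) (gp Q) (gp R) := by
  unfold tt
  rw [← hf, bb_smul ha h, bb_smul hb h]

theorem tt_cyc {a b : U} (ha : yy • a = a) (hb : yy • b = b) (P Q R : Fin 12) :
    tt f a b Q R P = tt f a b P Q R := by
  rw [tt_eq hU hD f hf hf0 ha hb, tt_eq hU hD f hf hf0 ha hb, FF_symm hU hD f hf hf0 ha hb Q P,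
    FF_symm hU hD f hf hf0 ha hb R P]
  abel

theorem cyc_rel {a b : U} (ha : yy • a = a) (hb : yy • b = b) {g : SL} {gp : Fin 12 → Fin 12} (h : Eqv g gp)
    (h6 : g ^ 6 = -1) (h2 : g ^ 2 ≠ -1) (P Q R : Fin 12) (hP : gp (gp P) = Q) (hQ : gp (gp Q) = R)
    (hR : gp (gp R) = P) :
    FF f a b P Q + FF f a b P R + FF f a b Q R + FF f a b (gp P) (gp Q) + FF f a b (gp P) (gp R) +
      FF f a b (gp Q) (gp R) = 0 := by
  have hsum := hD.e6 g h6 h2 (tt f a b P Q R)
  have hs := fun P Q R => tt_smul f hf ha hb h P Q R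
  simp only [Finset.sum_range_succ, Finset.sum_range_zero, zero_add, pow_succ', pow_zero, mul_smul, one_smul, hs] at hsum
  simp only [hP, hQ, hR] at hsum
  rw [tt_cyc hU hD f hf hf0 ha hb P Q R, tt_cyc hU hD f hf hf0 ha hb (gp P) (gp Q) (gp R),
    ← tt_cyc hU hD f hf hf0 ha hb R P Q, ← tt_cyc hU hD f hf hf0 ha hb (gp R) (gp P) (gp Q)] at hsum
  have e1 : tt f a b P Q R + tt f a b (gp P) (gp Q) (gp R) = 0 := by
    have e2 := hD.two (tt f a b P Q R)
    have e3 := hD.two (tt f a b (gp P) (gp Q) (gp R))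
    rw [← hsum]
    have e4 : tt f a b P Q R + tt f a b (gp P) (gp Q) (gp R) + tt f a b P Q R + tt f a b (gp P) (gp Q) (gp R) +
        tt f a b P Q R + tt f a b (gp P) (gp Q) (gp R) = (tt f a b P Q R + tt f a b P Q R) +
        (tt f a b (gp P) (gp Q) (gp R) + tt f a b (gp P) (gp Q) (gp R)) +
        (tt f a b P Q R + tt f a b (gp P) (gp Q) (gp R)) := by abel
    rw [e4, e2, e3]
    simp
  rw [tt_eq hU hD f hf hf0 ha hb, tt_eq hU hD f hf hf0 ha hb] at e1
  rw [← e1]
  abel

theorem theta_zero {a b : U} (ha : yy • a = a) (hb : yy • b = b) : tt f a b 1 3 6 = 0 := by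
  set F := FF f a b with hF
  have cyc := fun {g : SL} {gp : Fin 12 → Fin 12} (h : Eqv g gp)
    (h6 : g ^ 6 = -1) (h2 : g ^ 2 ≠ -1) (P Q R : Fin 12) (hP : gp (gp P) = Q) (hQ : gp (gp Q) = R)
    (hR : gp (gp R) = P) => cyc_rel hU hD f hf hf0 ha hb h h6 h2 P Q R hP hQ hR
  have r0 : F 2 3 + F 2 5 + F 3 5 + F 7 9 + F 7 10 + F 9 10 = 0 := cyc ec0 sc0 tc0 2 3 5 rfl rfl rfl
  have r1 : F 1 9 + F 1 11 + F 9 11 + F 5 6 + F 5 4 + F 6 4 = 0 := cyc ec1 sc1 tc1 1 9 11 rfl rfl rfl
  have r2 : F 2 5 + F 2 9 + F 5 9 + F 11 4 + F 11 3 + F 4 3 = 0 := cyc ec2 sc2 tc2 2 5 9 rfl rfl rfl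
  have r3 : F 2 4 + F 2 3 + F 4 3 + F 11 7 + F 11 10 + F 7 10 = 0 := cyc ec3 sc3 tc3 2 4 3 rfl rfl rfl
  have r4 : F 1 10 + F 1 3 + F 10 3 + F 4 11 + F 4 9 + F 11 9 = 0 := cyc ec4 sc4 tc4 1 10 3 rfl rfl rfl
  have r5 : F 1 6 + F 1 7 + F 6 7 + F 10 11 + F 10 3 + F 11 3 = 0 := cyc ec5 sc5 tc5 1 6 7 rfl rfl rfl
  have r6 : F 1 7 + F 1 11 + F 7 11 + F 4 2 + F 4 6 + F 2 6 = 0 := cyc ec6 sc6 tc6 1 7 11 rfl rfl rfl
  have r7 : F 1 9 + F 1 10 + F 9 10 + F 6 3 + F 6 5 + F 3 5 = 0 := cyc ec7 sc7 tc7 1 9 10 rfl rfl rfl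
  have r8 : F 2 6 + F 2 7 + F 6 7 + F 9 4 + F 9 5 + F 4 5 = 0 := cyc ec8 sc8 tc8 2 6 7 rfl rfl rfl
  have sy := fun P Q => FF_symm hU hD f hf hf0 ha hb P Q
  have zr : ∀ P, F P 11 = 0 := FF_right f a b
  rw [← hF] at sy
  simp only [sy 4 2, sy 4 3, sy 5 4, sy 6 3, sy 6 4, sy 6 5, sy 7 2, sy 9 2, sy 9 4, sy 9 5, sy 9 7, sy 10 3, sy 11 3, sy 11 4, sy 11 7, sy 11 9, sy 11 10, zr, add_zero, zero_add] at r0 r1 r2 r3 r4 r5 r6 r7 r8
  have key : (F 1 3 + F 1 6 + F 3 6 + F 7 9 + F 2 9 + F 2 7) + ((F 1 7 + F 1 7) + (F 1 9 + F 1 9) + (F 1 10 + F 1 10) + (F 2 3 + F 2 3) + (F 2 4 + F 2 4) + (F 2 5 + F 2 5) + (F 2 6 + F 2 6) + (F 3 4 + F 3 4) + (F 3 5 + F 3 5) + (F 3 10 + F 3 10) + (F 4 5 + F 4 5) + (F 4 6 + F 4 6) + (F 4 9 + F 4 9) + (F 5 6 + F 5 6) + (F 5 9 + F 5 9) + (F 6 7 + F 6 7) + (F 7 10 + F 7 10) + (F 9 10 + F 9 10)) =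
      (F 2 3 + F 2 5 + F 3 5 + F 7 9 + F 7 10 + F 9 10) +
      (F 1 9 + F 5 6 + F 4 5 + F 4 6) +
      (F 2 5 + F 2 9 + F 5 9 + F 3 4) +
      (F 2 4 + F 2 3 + F 3 4 + F 7 10) +
      (F 1 10 + F 1 3 + F 3 10 + F 4 9) +
      (F 1 6 + F 1 7 + F 6 7 + F 3 10) +
      (F 1 7 + F 2 4 + F 4 6 + F 2 6) +
      (F 1 9 + F 1 10 + F 9 10 + F 3 6 + F 5 6 + F 3 5) +
      (F 2 6 + F 2 7 + F 6 7 + F 4 9 + F 5 9 + F 4 5) + ((0 : D)) := by
    abel
  simp only [hD.two, add_zero, r0, r1, r2, r3, r4, r5, r6, r7, r8] at key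
  have e1 : tt f a b 1 3 6 + tt f a b 9 7 2 = 0 := by
    rw [tt_eq hU hD f hf hf0 ha hb, tt_eq hU hD f hf hf0 ha hb, ← hF, sy 7 2, sy 9 2, sy 9 7]
    rw [← key]
    abel
  have e2 : gh • tt f a b 1 3 6 = tt f a b 9 7 2 := tt_smul f hf ha hb eh 1 3 6
  have e3 : gh • tt f a b 1 3 6 = tt f a b 1 3 6 := by rw [e2, eq_of_add hD.two e1]
  have e4 : ∀ i : ℕ, gh ^ i • tt f a b 1 3 6 = tt f a b 1 3 6 := by
    intro i
    induction i with
    | zero => rw [pow_zero, one_smul]
    | succ i ih => rw [pow_succ, mul_smul, e3, ih]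
  have e5 := hD.e11 gh sh th (tt f a b 1 3 6)
  simp only [e4] at e5
  rw [Finset.sum_const, Finset.card_range] at e5
  have e6 : (11 : ℕ) • tt f a b 1 3 6 = tt f a b 1 3 6 + 5 • (tt f a b 1 3 6 + tt f a b 1 3 6) := by
    generalize tt f a b 1 3 6 = x
    abel
  rw [e6, hD.two, smul_zero, add_zero] at e5
  exact e5

theorem FF_zero {a b : U} (ha : yy • a = a) (hb : yy • b = b) (P Q : Fin 12) : FF f a b P Q = 0 := by
  have h0 : FF f a b 0 10 = 0 := by
    have e1 : gk • tt f a b 1 3 6 = tt f a b 11 0 10 := tt_smul f hf ha hb ek 1 3 6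
    rw [theta_zero hU hD f hf hf0 ha hb, smul_zero, tt_eq hU hD f hf hf0 ha hb, FF_left, FF_left] at e1
    simpa using e1.symm
  have hu : ∀ P Q, FF f a b P Q = 0 → FF f a b (up P) (up Q) = 0 := by
    intro P Q h
    have h1 : FF f a b (up P) (up Q) = uu • FF f a b P Q := by
      unfold FF
      rw [← hf, bb_smul ha eu, bb_smul hb eu]
      rfl
    rw [h1, h, smul_zero]
  have hy : ∀ P Q, FF f a b P Q = 0 → FF f a b (yp P) (yp Q) = 0 := by
    intro P Q h
    have h1 : FF f a b (yp P) (yp Q) = yy • FF f a b P Q := by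
      unfold FF
      rw [← hf, bb_smul ha ey, bb_smul hb ey]
      rfl
    rw [h1, h, smul_zero]
  have hui : ∀ i P Q, FF f a b P Q = 0 → FF f a b (up^[i] P) (up^[i] Q) = 0 := by
    intro i
    induction i with
    | zero => intro P Q h; exact h
    | succ i ih =>
      intro P Q h
      rw [Function.iterate_succ_apply, Function.iterate_succ_apply]
      exact ih _ _ (hu P Q h)
  have hyi : ∀ i P Q, FF f a b P Q = 0 → FF f a b (yp^[i] P) (yp^[i] Q) = 0 := by
    intro i
    induction i with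
    | zero => intro P Q h; exact h
    | succ i ih =>
      intro P Q h
      rw [Function.iterate_succ_apply, Function.iterate_succ_apply]
      exact ih _ _ (hy P Q h)
  by_cases hPQ : P = Q
  · subst hPQ
    exact FF_self hU hD f hf hf0 ha hb P
  by_cases hP : P = 11
  · subst hP
    exact FF_left f a b Q
  by_cases hQ : Q = 11
  · subst hQ
    exact FF_right f a b P
  obtain ⟨i, -, j, -, ⟨rfl, rfl⟩ | ⟨rfl, rfl⟩⟩ := find_ij P Q hP hQ hPQ
  · exact hui i _ _ (hyi j _ _ h0)
  · rw [FF_symm hU hD f hf hf0 ha hb]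
    exact hui i _ _ (hyi j _ _ h0)

theorem f_pow_zero {a b : U} (ha : yy • a = a) (hb : yy • b = b) (i j : ℕ) : f (uu ^ i • a) (uu ^ j • b) = 0 := by
  have h1 : uu ^ i • a = bb a 11 (up^[i] 0) := by
    have := pow_bb ha eu 11 0 i
    rw [bb_11_0 ha] at this
    rw [this]
    congr 1
    clear this
    induction i with
    | zero => rfl
    | succ i ih => rw [Function.iterate_succ_apply', ih]; rfl
  have h2 : uu ^ j • b = bb b 11 (up^[j] 0) := by
    have := pow_bb hb eu 11 0 j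
    rw [bb_11_0 hb] at this
    rw [this]
    congr 1
    clear this
    induction j with
    | zero => rfl
    | succ i ih => rw [Function.iterate_succ_apply', ih]; rfl
  rw [h1, h2]
  exact FF_zero hU hD f hf hf0 ha hb _ _

end Bil

section Gen

variable {U : Type*} [AddCommGroup U] [DistribMulAction SL U]

/-- the projection on the fixed points of the torus -/
def pr5 (v : U) : U := ∑ j ∈ range 5, yy ^ j • v

theorem yy5 : yy ^ 5 = -1 := by decide

theorem pr5_fix (hU : Good U) (v : U) : yy • pr5 v = pr5 v := by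
  unfold pr5
  simp only [Finset.sum_range_succ, Finset.sum_range_zero, zero_add, smul_add, ← mul_smul, ← pow_succ', pow_zero, one_smul]
  rw [show (1 : ℕ) + 1 = 2 from rfl, show (2 : ℕ) + 1 = 3 from rfl,
    show (3 : ℕ) + 1 = 4 from rfl, show (4 : ℕ) + 1 = 5 from rfl, yy5, hU.neg]
  rw [pow_one]
  abel

theorem gen_key (j : ℕ) (m : SL) (hm : uu * (yy ^ j * uu⁻¹ * (yy ^ j)⁻¹) = m)
    (hc : Commute uu (yy ^ j * uu⁻¹ * (yy ^ j)⁻¹)) (i : ℕ) : uu ^ i * yy ^ j * (uu ^ i)⁻¹ = m ^ i * yy ^ j := by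
  rw [← hm, hc.mul_pow, conj_pow]
  group

/-- every vector is a combination of images of fixed points -/
theorem gen (hU : Good U) (v : U) : v = ∑ i ∈ range 11, uu ^ i • pr5 ((uu ^ i)⁻¹ • v) := by
  have hm : ∀ j ∈ range 5, j ≠ 0 → ∑ i ∈ range 11, (uu ^ i * yy ^ j * (uu ^ i)⁻¹) • v = 0 := by
    intro j hj hj0
    have hj5 := Finset.mem_range.1 hj
    have key : ∀ m : SL, uu * (yy ^ j * uu⁻¹ * (yy ^ j)⁻¹) = m → Commute uu (yy ^ j * uu⁻¹ * (yy ^ j)⁻¹) →
        m ^ 11 = 1 → m ≠ 1 → ∑ i ∈ range 11, (uu ^ i * yy ^ j * (uu ^ i)⁻¹) • v = 0 := by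
      intro m h1 h2 h3 h4
      have h5 := hU.e11 m h3 h4 (yy ^ j • v)
      rw [← h5]
      apply Finset.sum_congr rfl
      intro i _
      rw [gen_key j m h1 h2, mul_smul]
    have hall : ∀ j ∈ range 5, j ≠ 0 → Commute uu (yy ^ j * uu⁻¹ * (yy ^ j)⁻¹) ∧
        (uu * (yy ^ j * uu⁻¹ * (yy ^ j)⁻¹)) ^ 11 = 1 ∧ uu * (yy ^ j * uu⁻¹ * (yy ^ j)⁻¹) ≠ 1 := by
      unfold Commute SemiconjBy
      decide +kernel
    obtain ⟨h1, h2, h3⟩ := hall j hj hj0
    exact key _ rfl h1 h2 h3
  have h1 : ∑ i ∈ range 11, uu ^ i • pr5 ((uu ^ i)⁻¹ • v) =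
      ∑ j ∈ range 5, ∑ i ∈ range 11, (uu ^ i * yy ^ j * (uu ^ i)⁻¹) • v := by
    rw [Finset.sum_comm]
    apply Finset.sum_congr rfl
    intro i _
    unfold pr5
    rw [Finset.smul_sum]
    apply Finset.sum_congr rfl
    intro j _
    rw [mul_smul, mul_smul]
  rw [h1, ← Finset.sum_erase_add (range 5) _ (show 0 ∈ range 5 by decide), Finset.sum_eq_zero, zero_add]
  · have h2 : ∀ i ∈ range 11, (uu ^ i * yy ^ 0 * (uu ^ i)⁻¹) • v = v := by
      intro i _
      rw [pow_zero, mul_one, mul_inv_cancel, one_smul]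
    rw [Finset.sum_congr rfl h2, Finset.sum_const, Finset.card_range]
    have e6 : (11 : ℕ) • v = v + 5 • (v + v) := by abel
    rw [e6, hU.two, smul_zero, add_zero]
  · intro j hj
    rw [Finset.mem_erase] at hj
    exact hm j hj.2 hj.1

end Gen

section Main

variable {U : Type*} [AddCommGroup U] [DistribMulAction SL U]
variable {D : Type*} [AddCommGroup D] [DistribMulAction SL D]

/-- **The bilinear map is zero.** -/
theorem bil_zero (hU : Good U) (hD : Good D) (f : U →+ U →+ D)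
    (hf : ∀ (g : SL) (x y : U), f (g • x) (g • y) = g • f x y)
    (hf0 : ∀ x y : U, yy • x = x → yy • y = y → f x y = 0) (x y : U) : f x y = 0 := by
  rw [gen hU x, gen hU y]
  simp only [map_sum, AddMonoidHom.finsetSum_apply]
  apply Finset.sum_eq_zero
  intro i _
  apply Finset.sum_eq_zero
  intro j _
  exact f_pow_zero hU hD f hf hf0 (pr5_fix hU _) (pr5_fix hU _) _ _

/-- **The squaring map is zero.** -/
theorem lin_zero (hU : Good U) (q : U →+ D) (hq : ∀ (g : SL) (x : U), q (g • x) = g • q x)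
    (hq0 : ∀ x : U, yy • x = x → q x = 0) (x : U) : q x = 0 := by
  rw [gen hU x, map_sum]
  apply Finset.sum_eq_zero
  intro i _
  rw [hq, hq0 _ (pr5_fix hU _), smul_zero]

end Main

end Cfsg.Agent.H844.Rec
end

-- part: H844/Rec/ModD
section
/-!
# Extensions of 2-groups by PSL(2,11) (helper844)

`kernel_square`: `π : G → L` with kernel a 2-group `K`, `σ : SL(2,11) → L` with kernel `±1`; if `G` has no elements of
order 12, 20, 22, then `K` is elementary abelian. `no_eight`: then `G` has no elements of order 8, if `σ` is surjective.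
-/

set_option autoImplicit false
set_option linter.unusedSectionVars false

namespace Cfsg.Agent.H844.Rec

open Subgroup Finset

universe u v

/-! ### multiplicative form -/

/-- an abelian group with an action of `SL(2,11)`, additively -/
def Sec (A : Type*) [CommGroup A] (_φ : SL →* MulAut A) : Type _ := Additive A

section Sec

variable {A : Type*} [CommGroup A] (φ : SL →* MulAut A)

instance secAddCommGroup : AddCommGroup (Sec A φ) := inferInstanceAs (AddCommGroup (Additive A))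

instance secAction : DistribMulAction SL (Sec A φ) where
  smul s a := Additive.ofMul (φ s (Additive.toMul (a : Additive A)))
  one_smul a := by
    show Additive.ofMul (φ 1 (Additive.toMul (a : Additive A))) = a
    rw [map_one]; rfl
  mul_smul s t a := by
    show Additive.ofMul (φ (s * t) (Additive.toMul (a : Additive A))) = _
    rw [map_mul]; rfl
  smul_zero s := by
    show Additive.ofMul (φ s 1) = _
    rw [map_one]; rfl
  smul_add s a b := by
    show Additive.ofMul (φ s (Additive.toMul (a : Additive A) * Additive.toMul (b : Additive A))) = _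
    rw [map_mul]; rfl

/-- the conditions, multiplicatively -/
structure MGood : Prop where
  neg : φ (-1) = 1
  two : ∀ a : A, a * a = 1
  e11 : ∀ g : SL, g ^ 11 = 1 → g ≠ 1 → ∀ a : A, ∏ i ∈ range 11, φ (g ^ i) a = 1
  e6 : ∀ g : SL, g ^ 6 = -1 → g ^ 2 ≠ -1 → ∀ a : A, ∏ i ∈ range 6, φ (g ^ i) a = 1

variable {φ}

theorem MGood.good (h : MGood φ) : Good (Sec A φ) where
  neg v := by
    show Additive.ofMul (φ (-1) (Additive.toMul (v : Additive A))) = v
    rw [h.neg]; rfl
  two v := h.two (Additive.toMul (v : Additive A))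
  e11 g h1 h2 v := h.e11 g h1 h2 (Additive.toMul (v : Additive A))
  e6 g h1 h2 v := h.e6 g h1 h2 (Additive.toMul (v : Additive A))

variable {B : Type*} [CommGroup B] {ψ : SL →* MulAut B}

theorem mbil (hA : MGood φ) (hB : MGood ψ) (f : A →* A →* B) (hf : ∀ (g : SL) (x y : A), f (φ g x) (φ g y) = ψ g (f x y))
    (hf0 : ∀ x y : A, φ yy x = x → φ yy y = y → f x y = 1) (x y : A) : f x y = 1 := by
  let F : Sec A φ →+ Sec A φ →+ Sec B ψ := AddMonoidHom.mk' (fun x => AddMonoidHom.mk' (fun y =>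
    (Additive.ofMul (f (Additive.toMul (x : Additive A)) (Additive.toMul (y : Additive A))) : Additive B))
    (fun y z => by
      show Additive.ofMul (f (Additive.toMul (x : Additive A))
        (Additive.toMul (y : Additive A) * Additive.toMul (z : Additive A))) = _
      rw [map_mul]; rfl))
    (fun x z => by
      ext y
      show Additive.ofMul (f (Additive.toMul (x : Additive A) * Additive.toMul (z : Additive A))
        (Additive.toMul (y : Additive A))) = _
      rw [map_mul]; rfl)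
  exact bil_zero hA.good hB.good F (fun g x y => hf g (Additive.toMul (x : Additive A)) (Additive.toMul (y : Additive A)))
    (fun x y hx hy => hf0 (Additive.toMul (x : Additive A)) (Additive.toMul (y : Additive A)) hx hy)
    (Additive.ofMul x : Additive A) (Additive.ofMul y : Additive A)

theorem mlin (hA : MGood φ) (q : A →* B) (hq : ∀ (g : SL) (x : A), q (φ g x) = ψ g (q x))
    (hq0 : ∀ x : A, φ yy x = x → q x = 1) (x : A) : q x = 1 := by
  let Q : Sec A φ →+ Sec B ψ := AddMonoidHom.mk' (fun x =>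
    (Additive.ofMul (q (Additive.toMul (x : Additive A))) : Additive B))
    (fun y z => by
      show Additive.ofMul (q (Additive.toMul (y : Additive A) * Additive.toMul (z : Additive A))) = _
      rw [map_mul]; rfl)
  exact lin_zero hA.good Q (fun g x => hq g (Additive.toMul (x : Additive A)))
    (fun x hx => hq0 (Additive.toMul (x : Additive A)) hx) (Additive.ofMul x : Additive A)

end Sec

/-! ### tools -/

theorem factor {G L M : Type*} [Group G] [Group L] [Group M] (c : G →* M) (π : G →* L) (hπ : Function.Surjective π)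
    (hker : ∀ g, π g = 1 → c g = 1) (σ : SL →* L) : ∃ φ : SL →* M, ∀ s g, π g = σ s → φ s = c g := by
  have key : ∀ g g', π g = π g' → c g = c g' := by
    intro g g' h
    have h1 : c (g * g'⁻¹) = 1 := hker _ (by rw [map_mul, map_inv, h, mul_inv_cancel])
    rw [map_mul, map_inv] at h1
    exact mul_inv_eq_one.1 h1
  have hs := Function.surjInv_eq hπ
  refine ⟨MonoidHom.mk' (fun s => c (Function.surjInv hπ (σ s))) ?_, ?_⟩
  · intro s t
    rw [← map_mul]
    apply key
    have e := hs (σ (s * t))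
    rw [map_mul π, hs (σ s), hs (σ t), ← map_mul σ]
    exact e
  · intro s g h
    apply key
    rw [hs, h]

/-- the conjugation action on an equivariant quotient -/
theorem exists_conj {G : Type*} [Group G] (M : Subgroup G) [hM : M.Normal] {A : Type*} [Group A] (m : M →* A)
    (hm : Function.Surjective m)
    (hk : ∀ (x : M) (g : G), m x = 1 → m ⟨g * x * g⁻¹, hM.conj_mem x x.2 g⟩ = 1) :
    ∃ c : G →* MulAut A, ∀ (g : G) (x : M), c g (m x) = m ⟨g * x * g⁻¹, hM.conj_mem x x.2 g⟩ := by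
  let cj : G → M → M := fun g x => ⟨g * x * g⁻¹, hM.conj_mem x x.2 g⟩
  have cjmul : ∀ g x y, cj g (x * y) = cj g x * cj g y := by
    intro g x y
    apply Subtype.ext
    show g * (x * y) * g⁻¹ = g * x * g⁻¹ * (g * y * g⁻¹)
    group
  have cjinv : ∀ g x, cj g x⁻¹ = (cj g x)⁻¹ := by
    intro g x
    apply Subtype.ext
    show g * (x : G)⁻¹ * g⁻¹ = (g * x * g⁻¹)⁻¹
    group
  have key : ∀ g x y, m x = m y → m (cj g x) = m (cj g y) := by
    intro g x y h
    have h1 : m (cj g (x * y⁻¹)) = 1 := hk _ g (by rw [map_mul, map_inv, h, mul_inv_cancel])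
    rw [cjmul, cjinv, map_mul, map_inv] at h1
    exact mul_inv_eq_one.1 h1
  let sm : G → A → A := fun g a => m (cj g (Function.surjInv hm a))
  have hsm : ∀ g x, sm g (m x) = m (cj g x) := fun g x => key g _ _ (Function.surjInv_eq hm _)
  have sm_mul : ∀ g a b, sm g (a * b) = sm g a * sm g b := by
    intro g a b
    obtain ⟨x, rfl⟩ := hm a
    obtain ⟨y, rfl⟩ := hm b
    rw [← map_mul, hsm, hsm, hsm, cjmul, map_mul]
  have sm_one : ∀ a, sm 1 a = a := by
    intro a
    obtain ⟨x, rfl⟩ := hm a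
    rw [hsm]
    congr 1
    apply Subtype.ext
    show (1 : G) * x * 1⁻¹ = x
    group
  have sm_comp : ∀ g h a, sm (g * h) a = sm g (sm h a) := by
    intro g h a
    obtain ⟨x, rfl⟩ := hm a
    rw [hsm (g * h) x, hsm h x, hsm g]
    congr 1
    apply Subtype.ext
    show g * h * x * (g * h)⁻¹ = g * (h * x * h⁻¹) * g⁻¹
    group
  let c : G →* MulAut A := MonoidHom.mk' (fun g =>
    { toFun := sm g
      invFun := sm g⁻¹
      left_inv := fun a => by rw [← sm_comp, inv_mul_cancel, sm_one]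
      right_inv := fun a => by rw [← sm_comp, mul_inv_cancel, sm_one]
      map_mul' := sm_mul g }) (fun g h => by
        ext a
        exact sm_comp g h a)
  exact ⟨c, hsm⟩

theorem norm_prod {G : Type*} [Group G] (M : Subgroup G) [hM : M.Normal] {A : Type*} [CommGroup A] (m : M →* A)
    (c : G →* MulAut A) (hc : ∀ (g : G) (x : M), c g (m x) = m ⟨g * x * g⁻¹, hM.conj_mem x x.2 g⟩) (g : G) (x : M) (n : ℕ) :
    ∃ y : M, (y : G) = (x * g) ^ n * (g ^ n)⁻¹ ∧ m y = ∏ i ∈ range n, c (g ^ i) (m x) := by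
  induction n with
  | zero => exact ⟨1, by simp only [_root_.OneMemClass.coe_one, _root_.pow_zero, _root_.inv_one, _root_.mul_one], by simp only [_root_.map_one, _root_.Finset.range_zero, _root_.map_pow, _root_.Finset.prod_empty]⟩
  | succ n ih =>
    obtain ⟨y, hy, hmy⟩ := ih
    refine ⟨y * ⟨g ^ n * x * (g ^ n)⁻¹, hM.conj_mem x x.2 (g ^ n)⟩, ?_, ?_⟩
    · show (y : G) * (g ^ n * x * (g ^ n)⁻¹) = _
      rw [hy, pow_succ, pow_succ]
      group
    · rw [map_mul, hmy, Finset.prod_range_succ, hc]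

theorem norm_one {G : Type*} [Group G] (M : Subgroup G) [hM : M.Normal] {A : Type*} [CommGroup A] (m : M →* A)
    (c : G →* MulAut A) (hc : ∀ (g : G) (x : M), c g (m x) = m ⟨g * x * g⁻¹, hM.conj_mem x x.2 g⟩) (g : G) (x : M) (n : ℕ)
    (h1 : ((x : G) * g) ^ n = 1) (h2 : g ^ n = 1) : ∏ i ∈ range n, c (g ^ i) (m x) = 1 := by
  obtain ⟨y, hy, hmy⟩ := norm_prod M m c hc g x n
  rw [← hmy]
  have : y = 1 := Subtype.ext (by rw [hy, h1, h2]; simp)
  rw [this, map_one]

/-- lifts of elements of order `n` have order `n` -/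
theorem pow_eq_one_of_lift {G L : Type*} [Group G] [Finite G] [Group L] (π : G →* L) (hK : IsPGroup 2 π.ker) {n : ℕ}
    (hn0 : n ≠ 0) (hn : ∀ g : G, orderOf g ≠ n * 2) {g : G} (hg : orderOf (π g) = n) : g ^ n = 1 := by
  have h1 : g ^ n ∈ π.ker := by
    rw [MonoidHom.mem_ker, map_pow, ← hg, pow_orderOf_eq_one]
  obtain ⟨j, hj⟩ := (IsPGroup.iff_orderOf.mp hK) ⟨_, h1⟩
  rw [Subgroup.orderOf_mk] at hj
  by_contra hne
  have hj0 : j ≠ 0 := by
    rintro rfl
    rw [pow_zero, orderOf_eq_one_iff] at hj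
    exact hne hj
  have hdvd : n ∣ orderOf g := hg ▸ orderOf_map_dvd π g
  have h2 : orderOf g = n * 2 ^ j := by
    rw [orderOf_pow_of_dvd hn0 hdvd] at hj
    rw [← hj, Nat.mul_div_cancel' hdvd]
  obtain ⟨i, rfl⟩ := Nat.exists_eq_succ_of_ne_zero hj0
  have h3 : orderOf (g ^ 2 ^ i) = n * 2 := by
    rw [orderOf_pow_of_dvd (by positivity), h2, pow_succ, ← mul_assoc]
    · rw [show n * 2 ^ i * 2 = n * 2 * 2 ^ i by ring]
      exact Nat.mul_div_cancel _ (by positivity)
    · rw [h2, pow_succ]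
      exact ⟨n * 2, by ring⟩
  exact hn _ h3

theorem exists_commGroup {H : Type u} [Group H] (h : ∀ a b : H, a * b = b * a) :
    ∃ (B : Type u) (_ : CommGroup B), Nonempty (H ≃* B) :=
  ⟨H, { ‹Group H› with mul_comm := h }, ⟨MulEquiv.refl _⟩⟩

theorem lift2 {K A B : Type*} [Group K] [Group A] [CommGroup B] (m : K →* A) (hm : Function.Surjective m)
    (F : K → K → B) (h1 : ∀ k l l', F k (l * l') = F k l * F k l') (h2 : ∀ k k' l, F (k * k') l = F k l * F k' l)
    (h3 : ∀ k l, m l = 1 → F k l = 1) (h4 : ∀ k l, m k = 1 → F k l = 1) :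
    ∃ f : A →* A →* B, ∀ k l, f (m k) (m l) = F k l := by
  have hinv1 : ∀ k l, F k l⁻¹ = (F k l)⁻¹ := by
    intro k l
    have e0 : F k 1 = 1 := h3 k 1 (map_one m)
    have e1 := h1 k l l⁻¹
    rw [mul_inv_cancel, e0] at e1
    exact (inv_eq_of_mul_eq_one_right e1.symm).symm
  have hinv2 : ∀ k l, F k⁻¹ l = (F k l)⁻¹ := by
    intro k l
    have e0 : F 1 l = 1 := h4 1 l (map_one m)
    have e1 := h2 k k⁻¹ l
    rw [mul_inv_cancel, e0] at e1
    exact (inv_eq_of_mul_eq_one_right e1.symm).symm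
  have key1 : ∀ k l l', m l = m l' → F k l = F k l' := by
    intro k l l' h
    have e := h3 k (l * l'⁻¹) (by rw [map_mul, map_inv, h, mul_inv_cancel])
    rw [h1, hinv1] at e
    exact mul_inv_eq_one.1 e
  have key2 : ∀ k k' l, m k = m k' → F k l = F k' l := by
    intro k k' l h
    have e := h4 (k * k'⁻¹) l (by rw [map_mul, map_inv, h, mul_inv_cancel])
    rw [h2, hinv2] at e
    exact mul_inv_eq_one.1 e
  let s := Function.surjInv hm
  have hs : ∀ a, m (s a) = a := Function.surjInv_eq hm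
  let f : A →* A →* B := MonoidHom.mk' (fun a => MonoidHom.mk' (fun b => F (s a) (s b)) (fun b b' => by
    rw [← h1]
    apply key1
    rw [map_mul, hs, hs, hs])) (fun a a' => by
      ext b
      show F (s (a * a')) (s b) = F (s a) (s b) * F (s a') (s b)
      rw [← h2]
      apply key2
      rw [map_mul, hs, hs, hs])
  refine ⟨f, fun k l => ?_⟩
  show F (s (m k)) (s (m l)) = F k l
  rw [key1 _ _ l (hs _), key2 _ k _ (hs _)]

end Cfsg.Agent.H844.Rec
end

-- part: H844/Rec/ModE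
section
/-!
# Extensions of 2-groups by PSL(2,11): the kernel is elementary abelian (helper844)
-/

set_option autoImplicit false
set_option linter.unusedSectionVars false

namespace Cfsg.Agent.H844.Rec

open Subgroup Finset

universe u v

/-- a lift of order 5 -/
theorem exists_lift_five {G L : Type*} [Group G] [Group L] (π : G →* L) (hπ : Function.Surjective π)
    (hK : IsPGroup 2 π.ker) {l : L} (hl : l ^ 5 = 1) : ∃ t : G, π t = l ∧ t ^ 5 = 1 := by
  obtain ⟨t₀, ht₀⟩ := hπ l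
  have h1 : t₀ ^ 5 ∈ π.ker := by rw [MonoidHom.mem_ker, map_pow, ht₀, hl]
  obtain ⟨j, hj⟩ := hK ⟨_, h1⟩
  have hj' : (t₀ ^ 5) ^ 2 ^ j = 1 := by
    have := congrArg Subtype.val hj
    simpa only [_root_.SubmonoidClass.mk_pow, _root_.OneMemClass.coe_one] using this
  refine ⟨t₀ ^ 16 ^ j, ?_, ?_⟩
  · rw [map_pow, ht₀]
    have h2 : 16 ^ j % 5 = 1 := by
      rw [Nat.pow_mod]
      simp
    rw [← Nat.div_add_mod (16 ^ j) 5, h2, pow_add, pow_mul, hl, one_pow, one_mul, pow_one]
  · rw [← pow_mul, mul_comm, pow_mul, show (16 : ℕ) = 2 * 8 by norm_num, mul_pow, pow_mul, hj', one_pow]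

theorem orderOf_six {L : Type*} [Group L] (σ : SL →* L) (hσ : ∀ s, σ s = 1 ↔ s = 1 ∨ s = -1) {g : SL}
    (h6 : g ^ 6 = -1) (h2 : g ^ 2 ≠ -1) : orderOf (σ g) = 6 := by
  have hne : (1 : SL) ≠ -1 := by decide
  have e6 : (σ g) ^ 6 = 1 := by rw [← map_pow, hσ, h6]; exact Or.inr rfl
  have e3 : (σ g) ^ 3 ≠ 1 := by
    rw [← map_pow, Ne, hσ]
    rintro (h | h)
    · apply hne
      rw [← h6, show (6 : ℕ) = 3 * 2 from rfl, pow_mul, h, one_pow]
    · apply hne
      rw [← h6, show (6 : ℕ) = 3 * 2 from rfl, pow_mul, h]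
      decide
  have e2 : (σ g) ^ 2 ≠ 1 := by
    rw [← map_pow, Ne, hσ]
    rintro (h | h)
    · apply hne
      rw [← h6, show (6 : ℕ) = 2 * 3 from rfl, pow_mul, h, one_pow]
    · exact h2 h
  have hd : orderOf (σ g) ∣ 6 := orderOf_dvd_of_pow_eq_one e6
  have hle := Nat.le_of_dvd (by norm_num) hd
  have hp : 0 < orderOf (σ g) := Nat.pos_of_dvd_of_pos hd (by norm_num)
  have key : ∀ n, orderOf (σ g) = n → (σ g) ^ n = 1 := fun n hn => hn ▸ pow_orderOf_eq_one _
  have h3' : orderOf (σ g) ≠ 3 := fun h => e3 (key _ h)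
  have h2' : orderOf (σ g) ≠ 2 := fun h => e2 (key _ h)
  have h1' : orderOf (σ g) ≠ 1 := fun h => e2 (by rw [orderOf_eq_one_iff.1 h, one_pow])
  have h4' : orderOf (σ g) ≠ 4 := fun h => by rw [h] at hd; omega
  have h5' : orderOf (σ g) ≠ 5 := fun h => by rw [h] at hd; omega
  omega

theorem orderOf_eleven {L : Type*} [Group L] (σ : SL →* L) (hσ : ∀ s, σ s = 1 ↔ s = 1 ∨ s = -1) {g : SL}
    (h11 : g ^ 11 = 1) (h1 : g ≠ 1) : orderOf (σ g) = 11 := by
  have hne : (1 : SL) ≠ -1 := by decide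
  apply orderOf_eq_prime
  · rw [← map_pow, h11, map_one]
  · rw [Ne, hσ]
    rintro (h | h)
    · exact h1 h
    · rw [h] at h11
      revert h11
      decide

/-- the conditions for sections -/
theorem mgood_of {G : Type*} [Group G] [Finite G] {L : Type*} [Group L] (π : G →* L) (hπ : Function.Surjective π)
    (hK : IsPGroup 2 π.ker) (σ : SL →* L) (hσ : ∀ s, σ s = 1 ↔ s = 1 ∨ s = -1) (h12 : ∀ g : G, orderOf g ≠ 12)
    (h22 : ∀ g : G, orderOf g ≠ 22) (M : Subgroup G) [hM : M.Normal] (hMK : M ≤ π.ker) {A : Type*} [CommGroup A]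
    (m : M →* A) (hm : Function.Surjective m) (c : G →* MulAut A)
    (hc : ∀ (g : G) (x : M), c g (m x) = m ⟨g * x * g⁻¹, hM.conj_mem x x.2 g⟩) (φ : SL →* MulAut A)
    (hφ : ∀ s g, π g = σ s → φ s = c g) (h2 : ∀ a : A, a * a = 1) : MGood φ := by
  have key : ∀ (n : ℕ), n ≠ 0 → (∀ g : G, orderOf g ≠ n * 2) → ∀ g : SL, orderOf (σ g) = n →
      ∀ a : A, ∏ i ∈ range n, φ (g ^ i) a = 1 := by
    intro n hn0 hn g hg a
    obtain ⟨x, rfl⟩ := hm a
    obtain ⟨y, hy⟩ := hπ (σ g)
    have h3 : y ^ n = 1 := pow_eq_one_of_lift π hK hn0 hn (by rw [hy, hg])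
    have h4 : ((x : G) * y) ^ n = 1 := pow_eq_one_of_lift π hK hn0 hn (by
      rw [map_mul, MonoidHom.mem_ker.1 (hMK x.2), one_mul, hy, hg])
    have h5 := norm_one M m c hc y x n h4 h3
    rw [← h5]
    apply Finset.prod_congr rfl
    intro i _
    rw [hφ (g ^ i) (y ^ i) (by rw [map_pow, map_pow, hy])]
  refine ⟨?_, h2, ?_, ?_⟩
  · rw [hφ (-1) 1 (by rw [map_one, (hσ _).2 (Or.inr rfl)]), map_one]
  · intro g h11 h1
    exact key 11 (by norm_num) h22 g (orderOf_eleven σ hσ h11 h1)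
  · intro g h6 h2'
    exact key 6 (by norm_num) h12 g (orderOf_six σ hσ h6 h2')

/-- **The kernel is elementary abelian.** -/
theorem kernel_square (n : ℕ) : ∀ {G : Type u} [Group G] [Finite G] {L : Type v} [Group L] (π : G →* L)
    (_ : Function.Surjective π) (_ : IsPGroup 2 π.ker) (σ : SL →* L) (_ : ∀ s, σ s = 1 ↔ s = 1 ∨ s = -1)
    (_ : ∀ g : G, orderOf g ≠ 12) (_ : ∀ g : G, orderOf g ≠ 20) (_ : ∀ g : G, orderOf g ≠ 22) (_ : Nat.card G = n),
    ∀ k ∈ π.ker, k * k = 1 := by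
  induction n using Nat.strong_induction_on with
  | _ n ih =>
  intro G _ _ L _ π hπ hK σ hσ h12 h20 h22 hn
  have hf2 : Fact (Nat.Prime 2) := ⟨Nat.prime_two⟩
  have hf5 : Fact (Nat.Prime 5) := ⟨by norm_num⟩
  set K := π.ker with hKdef
  have hKn : K.Normal := inferInstance
  by_cases hK1 : K = ⊥
  · intro k hk
    rw [hK1, mem_bot] at hk
    rw [hk, one_mul]
  -- the central elements of order two
  let D : Subgroup G :=
    { carrier := {z | z ∈ K ∧ (∀ k ∈ K, z * k = k * z) ∧ z * z = 1}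
      one_mem' := ⟨K.one_mem, fun k _ => by rw [one_mul, mul_one], one_mul 1⟩
      mul_mem' := by
        rintro a b ⟨ha, ha1, ha2⟩ ⟨hb, hb1, hb2⟩
        refine ⟨K.mul_mem ha hb, fun k hk => ?_, ?_⟩
        · rw [mul_assoc, hb1 k hk, ← mul_assoc, ha1 k hk, mul_assoc]
        · calc a * b * (a * b) = a * (b * a) * b := by group
            _ = a * (a * b) * b := by rw [hb1 a ha]
            _ = (a * a) * (b * b) := by group
            _ = 1 := by rw [ha2, hb2, one_mul]
      inv_mem' := by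
        rintro a ⟨ha, ha1, ha2⟩
        refine ⟨K.inv_mem ha, fun k hk => ?_, ?_⟩
        · have h1 := ha1 k hk
          calc a⁻¹ * k = a⁻¹ * (k * a) * a⁻¹ := by group
            _ = a⁻¹ * (a * k) * a⁻¹ := by rw [h1]
            _ = k * a⁻¹ := by group
        · rw [← mul_inv_rev, ha2, inv_one] }
  have hD : ∀ z, z ∈ D ↔ z ∈ K ∧ (∀ k ∈ K, z * k = k * z) ∧ z * z = 1 := fun z => Iff.rfl
  have hDK : D ≤ K := fun z hz => ((hD z).1 hz).1
  have hDn : D.Normal := by
    refine ⟨fun z hz g => ?_⟩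
    obtain ⟨h1, h2, h3⟩ := (hD z).1 hz
    refine (hD _).2 ⟨hKn.conj_mem z h1 g, fun k hk => ?_, ?_⟩
    · have hk' : g⁻¹ * k * g ∈ K := by
        have := hKn.conj_mem k hk g⁻¹
        rwa [inv_inv] at this
      have h4 := h2 _ hk'
      calc g * z * g⁻¹ * k = g * (z * (g⁻¹ * k * g)) * g⁻¹ := by group
        _ = g * ((g⁻¹ * k * g) * z) * g⁻¹ := by rw [h4]
        _ = k * (g * z * g⁻¹) := by group
    · calc g * z * g⁻¹ * (g * z * g⁻¹) = g * (z * z) * g⁻¹ := by group
        _ = 1 := by rw [h3]; group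
  have hD1 : D ≠ ⊥ := by
    intro hDb
    have hnt : Nontrivial K := (Subgroup.nontrivial_iff_ne_bot K).2 hK1
    have hc := (hK.bot_lt_center).ne'
    have hcp : IsPGroup 2 (center K) := hK.to_subgroup _
    have h2d : 2 ∣ Nat.card (center K) := by
      rcases hcp.card_eq_or_dvd with h | h
      · exact absurd (card_eq_one.1 h) hc
      · exact h
    obtain ⟨⟨⟨z, hzK⟩, hzc⟩, hz⟩ := exists_prime_orderOf_dvd_card' 2 h2d
    rw [Subgroup.orderOf_mk, Subgroup.orderOf_mk] at hz
    have hzD : z ∈ D := (hD z).2 ⟨hzK, fun k hk => by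
      have := mem_center_iff.1 hzc ⟨k, hk⟩
      exact (congrArg Subtype.val this).symm, by
      have := pow_orderOf_eq_one z
      rwa [hz, sq] at this⟩
    rw [hDb, mem_bot] at hzD
    rw [hzD, orderOf_one] at hz
    norm_num at hz
  -- the quotient
  have hsq : ∀ k ∈ K, k * k ∈ D := by
    have hcard : Nat.card (G ⧸ D) < n := by
      rw [← hn, Subgroup.card_eq_card_quotient_mul_card_subgroup D]
      have h1 : 1 < Nat.card D := by
        rw [Subgroup.one_lt_card_iff_ne_bot]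
        exact hD1
      have h2 : 0 < Nat.card (G ⧸ D) := Nat.card_pos
      nlinarith only [h1, h2]
    let π' : G ⧸ D →* L := QuotientGroup.lift D π hDK
    have hπ' : Function.Surjective π' := by
      intro x
      obtain ⟨g, rfl⟩ := hπ x
      exact ⟨(g : G ⧸ D), rfl⟩
    have hker : ∀ g : G, (g : G ⧸ D) ∈ π'.ker ↔ g ∈ K := by
      intro g
      rw [MonoidHom.mem_ker, hKdef, MonoidHom.mem_ker]
      rfl
    have hK' : IsPGroup 2 π'.ker := by
      rintro ⟨x, hx⟩
      obtain ⟨g, rfl⟩ := QuotientGroup.mk_surjective x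
      obtain ⟨j, hj⟩ := hK ⟨g, (hker g).1 hx⟩
      refine ⟨j, Subtype.ext ?_⟩
      have h1 : g ^ 2 ^ j = 1 := by
        have := congrArg Subtype.val hj
        simpa only [_root_.SubmonoidClass.mk_pow, _root_.OneMemClass.coe_one] using this
      show (g : G ⧸ D) ^ 2 ^ j = 1
      rw [← QuotientGroup.mk_pow, h1]
      rfl
    have hord : ∀ N, (∀ g : G, orderOf g ≠ N) → ∀ g : G ⧸ D, orderOf g ≠ N := by
      intro N hN g hg
      obtain ⟨g, rfl⟩ := QuotientGroup.mk_surjective g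
      have h1 : N ∣ orderOf g := by
        rw [← hg]
        exact orderOf_map_dvd (QuotientGroup.mk' D) g
      obtain ⟨c, hc⟩ := h1
      have hpos := orderOf_pos g
      have hc0 : c ≠ 0 := by
        rintro rfl
        rw [hc, mul_zero] at hpos
        exact lt_irrefl _ hpos
      apply hN (g ^ c)
      rw [orderOf_pow_of_dvd hc0 ⟨N, by rw [hc, mul_comm]⟩, hc]
      exact Nat.mul_div_cancel _ (Nat.pos_of_ne_zero hc0)
    intro k hk
    have h1 := ih _ hcard π' hπ' hK' σ hσ (hord 12 h12) (hord 20 h20) (hord 22 h22) rfl (k : G ⧸ D) ((hker k).2 hk)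
    rw [← QuotientGroup.mk_mul] at h1
    exact (QuotientGroup.eq_one_iff _).1 h1
  -- commutators
  have hcomm : ∀ k ∈ K, ∀ l ∈ K, k * l * k⁻¹ * l⁻¹ ∈ D := by
    intro k hk l hl
    have e : k * l * k⁻¹ * l⁻¹ = (k * l * (k * l)) * ((l⁻¹ * k⁻¹ * l) * (l⁻¹ * k⁻¹ * l)) * (l⁻¹ * l⁻¹) := by group
    have h1 : l⁻¹ * k⁻¹ * l ∈ K := K.mul_mem (K.mul_mem (K.inv_mem hl) (K.inv_mem hk)) hl
    rw [e]
    exact D.mul_mem (D.mul_mem (hsq _ (K.mul_mem hk hl)) (hsq _ h1)) (hsq _ (K.inv_mem hl))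
  -- the sections
  let D' : Subgroup K := D.subgroupOf K
  have hD'n : D'.Normal := by
    show (D.subgroupOf K).Normal
    infer_instance
  obtain ⟨A, iA, ⟨eA⟩⟩ := exists_commGroup (H := K ⧸ D') (by
    intro a b
    obtain ⟨k, rfl⟩ := QuotientGroup.mk_surjective a
    obtain ⟨l, rfl⟩ := QuotientGroup.mk_surjective b
    rw [← QuotientGroup.mk_mul, ← QuotientGroup.mk_mul, QuotientGroup.eq, mem_subgroupOf]
    have h1 := hcomm (l : G)⁻¹ (K.inv_mem l.2) (k : G)⁻¹ (K.inv_mem k.2)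
    have h2 : (((k * l)⁻¹ * (l * k) : K) : G) = (l : G)⁻¹ * (k : G)⁻¹ * (l : G)⁻¹⁻¹ * (k : G)⁻¹⁻¹ := by
      push_cast
      group
    rw [h2]
    exact h1)
  let m : K →* A := eA.toMonoidHom.comp (QuotientGroup.mk' D')
  have hm : Function.Surjective m := eA.surjective.comp (QuotientGroup.mk'_surjective D')
  have hm1 : ∀ k : K, m k = 1 ↔ (k : G) ∈ D := by
    intro k
    show eA (QuotientGroup.mk' D' k) = 1 ↔ _
    rw [eA.map_eq_one_iff, QuotientGroup.mk'_apply, QuotientGroup.eq_one_iff, mem_subgroupOf]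
  obtain ⟨B, iB, ⟨eB⟩⟩ := exists_commGroup (H := D) (by
    intro a b
    apply Subtype.ext
    exact ((hD _).1 a.2).2.1 b (hDK b.2))
  let mB : D →* B := eB.toMonoidHom
  have hmB : Function.Surjective mB := eB.surjective
  -- the actions
  obtain ⟨cA, hcA⟩ := exists_conj K m hm (by
    intro x g hx
    rw [hm1] at hx ⊢
    exact hDn.conj_mem _ hx g)
  obtain ⟨cB, hcB⟩ := exists_conj D mB hmB (by
    intro x g hx
    have hx1 : x = 1 := eB.map_eq_one_iff.1 hx
    have h2 : (⟨g * x * g⁻¹, hDn.conj_mem x x.2 g⟩ : D) = 1 := by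
      apply Subtype.ext
      rw [hx1]
      show g * 1 * g⁻¹ = 1
      group
    rw [h2, map_one])
  obtain ⟨φ, hφ⟩ := factor cA π hπ (by
    intro g hg
    ext a
    obtain ⟨x, rfl⟩ := hm a
    rw [hcA]
    have h1 : (⟨g * x * g⁻¹, hKn.conj_mem x x.2 g⟩ : K) = (⟨g, hg⟩ : K) * x * (⟨g, hg⟩ : K)⁻¹ := rfl
    rw [h1, map_mul, map_mul, map_inv, mul_comm (m ⟨g, hg⟩), mul_assoc, mul_inv_cancel, mul_one]
    rfl) σ
  obtain ⟨ψ, hψ⟩ := factor cB π hπ (by
    intro g hg
    ext a
    obtain ⟨x, rfl⟩ := hmB a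
    rw [hcB]
    have h1 : (⟨g * x * g⁻¹, hDn.conj_mem x x.2 g⟩ : D) = x := by
      apply Subtype.ext
      show g * x * g⁻¹ = x
      have h3 := ((hD _).1 x.2).2.1 g hg
      rw [← h3]
      group
    rw [h1]
    rfl) σ
  have hA : MGood φ := mgood_of π hπ hK σ hσ h12 h22 K le_rfl m hm cA hcA φ hφ (by
    intro a
    obtain ⟨x, rfl⟩ := hm a
    rw [← map_mul, hm1]
    exact hsq _ x.2)
  have hB : MGood ψ := mgood_of π hπ hK σ hσ h12 h22 D hDK mB hmB cB hcB ψ hψ (by
    intro a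
    obtain ⟨x, rfl⟩ := hmB a
    rw [← map_mul]
    have h1 : x * x = 1 := Subtype.ext ((hD _).1 x.2).2.2
    rw [h1, map_one])
  -- the element of order five
  obtain ⟨t, ht, ht5⟩ := exists_lift_five π hπ hK (l := σ yy) (by
    rw [← map_pow, hσ]
    exact Or.inr yy5)
  have ht1 : orderOf t = 5 := by
    apply orderOf_eq_prime ht5
    rintro rfl
    rw [map_one] at ht
    have h1 := (hσ yy).1 ht.symm
    revert h1
    decide
  have hfix : ∀ a : A, φ yy a = a → ∃ k : K, m k = a ∧ t * (k : G) = k * t := by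
    intro a ha
    obtain ⟨x, rfl⟩ := hm a
    rw [hφ yy t ht, hcA] at ha
    have h1 : t * x * t⁻¹ * (x : G)⁻¹ ∈ D := by
      rw [← hm1 (⟨t * x * t⁻¹ * (x : G)⁻¹, K.mul_mem (hKn.conj_mem x x.2 t) (K.inv_mem x.2)⟩ : K)]
      have h2 : (⟨t * x * t⁻¹ * (x : G)⁻¹, K.mul_mem (hKn.conj_mem x x.2 t) (K.inv_mem x.2)⟩ : K) =
        ⟨t * x * t⁻¹, hKn.conj_mem x x.2 t⟩ * x⁻¹ := rfl
      rw [h2, map_mul, map_inv, ha, mul_inv_cancel]
    have hcop : (Nat.card D).Coprime 5 := by
      have hDp : IsPGroup 2 D := hK.to_le hDK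
      obtain ⟨j, hj⟩ := IsPGroup.iff_card.1 hDp
      rw [hj]
      exact Nat.Coprime.pow_left j (by norm_num)
    have hP : IsPGroup 5 (zpowers t) := IsPGroup.of_card (n := 1) (by rw [Nat.card_zpowers, ht1, pow_one])
    obtain ⟨d, hd, hdx⟩ := Cfsg.Agent.PLocal.CoprimeLift.exists_commuting_lift D (zpowers t) hcop hP (x : G) (by
      intro y hy
      obtain ⟨i, rfl⟩ := mem_zpowers_iff.1 hy
      rw [← QuotientGroup.eq_one_iff]
      have h2 : ((t * x * t⁻¹ * (x : G)⁻¹ : G) : G ⧸ D) = 1 := (QuotientGroup.eq_one_iff _).2 h1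
      have h3 : Commute (t : G ⧸ D) (x : G ⧸ D) := by
        have h4 : (t : G ⧸ D) * (x : G ⧸ D) * (t : G ⧸ D)⁻¹ * (x : G ⧸ D)⁻¹ = 1 := h2
        have h5 := mul_inv_eq_one.1 h4
        exact mul_inv_eq_iff_eq_mul.1 h5
      show ((t : G ⧸ D) ^ i) * (x : G ⧸ D) * ((t : G ⧸ D) ^ i)⁻¹ * (x : G ⧸ D)⁻¹ = 1
      rw [(h3.zpow_left i).eq]
      group)
    refine ⟨⟨d, hDK hd⟩ * x, ?_, ?_⟩
    · rw [map_mul, (hm1 _).2 hd, one_mul]
    · exact hdx t (mem_zpowers t)
  have hsqt : ∀ k ∈ K, t * k = k * t → k * k = 1 := by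
    intro k hk hc
    obtain ⟨j, hj⟩ := (IsPGroup.iff_orderOf.mp hK) ⟨k, hk⟩
    rw [Subgroup.orderOf_mk] at hj
    by_cases hj2 : j ≤ 1
    · have h1 : k ^ 2 = 1 := by
        rw [← orderOf_dvd_iff_pow_eq_one, hj]
        exact (pow_dvd_pow 2 hj2).trans (by norm_num)
      rwa [sq] at h1
    · exfalso
      have h2 : orderOf (k ^ 2 ^ (j - 2)) = 4 := by
        rw [orderOf_pow_of_dvd (by positivity) (by rw [hj]; exact pow_dvd_pow 2 (by omega)), hj]
        rw [Nat.pow_div (by omega) (by norm_num)]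
        have : j - (j - 2) = 2 := by omega
        rw [this]
      have h3 : Commute t (k ^ 2 ^ (j - 2)) := (show Commute t k from hc).pow_right _
      apply h20 (t * k ^ 2 ^ (j - 2))
      rw [h3.orderOf_mul_eq_mul_orderOf_of_coprime (by rw [ht1, h2]; norm_num), ht1, h2]
  have hsqt2 : ∀ k ∈ K, ∀ l ∈ K, t * k = k * t → t * l = l * t → k * l * k⁻¹ * l⁻¹ = 1 := by
    intro k hk l hl hkt hlt
    have h1 := hsqt k hk hkt
    have h2 := hsqt l hl hlt
    have h3 := hsqt (k * l) (K.mul_mem hk hl) (by rw [← mul_assoc, hkt, mul_assoc, hlt, mul_assoc])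
    have h4 : k⁻¹ = k := inv_eq_of_mul_eq_one_left h1
    have h5 : l⁻¹ = l := inv_eq_of_mul_eq_one_left h2
    rw [h4, h5, mul_assoc (k * l)]
    exact h3
  -- the commutator map
  let F : K → K → B := fun k l => mB ⟨k * l * (k : G)⁻¹ * (l : G)⁻¹, hcomm k k.2 l l.2⟩
  have hDc : ∀ z ∈ D, ∀ k ∈ K, z * k = k * z := fun z hz => ((hD z).1 hz).2.1
  obtain ⟨f, hf⟩ := lift2 m hm F (by
    intro k l l'
    show mB _ = mB _ * mB _
    rw [← map_mul]
    congr 1
    apply Subtype.ext
    show (k : G) * (l * l') * (k : G)⁻¹ * ((l : G) * l')⁻¹ =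
      (k * l * (k : G)⁻¹ * (l : G)⁻¹) * (k * l' * (k : G)⁻¹ * (l' : G)⁻¹)
    have h1 := hDc _ (hcomm k k.2 l' l'.2) l l.2
    calc (k : G) * (l * l') * (k : G)⁻¹ * ((l : G) * l')⁻¹
        = k * l * (k : G)⁻¹ * ((k * l' * (k : G)⁻¹ * (l' : G)⁻¹)) * (l : G)⁻¹ := by group
      _ = k * l * (k : G)⁻¹ * ((l : G)⁻¹ * (l * (k * l' * (k : G)⁻¹ * (l' : G)⁻¹))) * (l : G)⁻¹ := by group
      _ = k * l * (k : G)⁻¹ * ((l : G)⁻¹ * ((k * l' * (k : G)⁻¹ * (l' : G)⁻¹) * l)) * (l : G)⁻¹ := by rw [h1]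
      _ = (k * l * (k : G)⁻¹ * (l : G)⁻¹) * (k * l' * (k : G)⁻¹ * (l' : G)⁻¹) := by group)
    (by
    intro k k' l
    show mB _ = mB _ * mB _
    rw [← map_mul]
    congr 1
    apply Subtype.ext
    show ((k : G) * k') * l * ((k : G) * k')⁻¹ * (l : G)⁻¹ =
      (k * l * (k : G)⁻¹ * (l : G)⁻¹) * (k' * l * (k' : G)⁻¹ * (l : G)⁻¹)
    have h1 := hDc _ (hcomm k' k'.2 l l.2) (k * l * (k : G)⁻¹ * (l : G)⁻¹)
      (K.mul_mem (K.mul_mem (K.mul_mem k.2 l.2) (K.inv_mem k.2)) (K.inv_mem l.2))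
    have h2 := hDc _ (hcomm k' k'.2 l l.2) k k.2
    calc ((k : G) * k') * l * ((k : G) * k')⁻¹ * (l : G)⁻¹
        = k * (k' * l * (k' : G)⁻¹ * (l : G)⁻¹) * l * (k : G)⁻¹ * (l : G)⁻¹ := by group
      _ = (k' * l * (k' : G)⁻¹ * (l : G)⁻¹) * k * l * (k : G)⁻¹ * (l : G)⁻¹ := by rw [← h2]
      _ = (k' * l * (k' : G)⁻¹ * (l : G)⁻¹) * (k * l * (k : G)⁻¹ * (l : G)⁻¹) := by group
      _ = (k * l * (k : G)⁻¹ * (l : G)⁻¹) * (k' * l * (k' : G)⁻¹ * (l : G)⁻¹) := h1)
    (by
    intro k l hl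
    rw [hm1] at hl
    have h1 := hDc _ hl k k.2
    show mB _ = 1
    have h2 : (⟨k * l * (k : G)⁻¹ * (l : G)⁻¹, hcomm k k.2 l l.2⟩ : D) = 1 := by
      apply Subtype.ext
      show (k : G) * l * (k : G)⁻¹ * (l : G)⁻¹ = 1
      rw [← h1]
      group
    rw [h2, map_one])
    (by
    intro k l hk
    rw [hm1] at hk
    have h1 := hDc _ hk l l.2
    show mB _ = 1
    have h2 : (⟨k * l * (k : G)⁻¹ * (l : G)⁻¹, hcomm k k.2 l l.2⟩ : D) = 1 := by
      apply Subtype.ext
      show (k : G) * l * (k : G)⁻¹ * (l : G)⁻¹ = 1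
      rw [h1]
      group
    rw [h2, map_one])
  have hFeq : ∀ (s : SL) (x y : A), f (φ s x) (φ s y) = ψ s (f x y) := by
    intro s x y
    obtain ⟨k, rfl⟩ := hm x
    obtain ⟨l, rfl⟩ := hm y
    obtain ⟨g, hg⟩ := hπ (σ s)
    rw [hφ s g hg, hψ s g hg, hcA, hcA, hf, hf]
    show mB _ = cB g (mB _)
    rw [hcB]
    congr 1
    apply Subtype.ext
    show (g * k * g⁻¹) * (g * l * g⁻¹) * (g * k * g⁻¹)⁻¹ * (g * l * g⁻¹)⁻¹ =
      g * (k * l * (k : G)⁻¹ * (l : G)⁻¹) * g⁻¹
    group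
  have hF0 := mbil hA hB f hFeq (by
    intro x y hx hy
    obtain ⟨k, rfl, hk⟩ := hfix x hx
    obtain ⟨l, rfl, hl⟩ := hfix y hy
    rw [hf]
    show mB _ = 1
    have h2 : (⟨k * l * (k : G)⁻¹ * (l : G)⁻¹, hcomm k k.2 l l.2⟩ : D) = 1 := by
      apply Subtype.ext
      exact hsqt2 k k.2 l l.2 hk hl
    rw [h2, map_one])
  have hab : ∀ k ∈ K, ∀ l ∈ K, k * l = l * k := by
    intro k hk l hl
    have h1 := hF0 (m ⟨k, hk⟩) (m ⟨l, hl⟩)
    rw [hf] at h1
    have h2 : (⟨k * l * k⁻¹ * l⁻¹, hcomm k hk l hl⟩ : D) = 1 := eB.map_eq_one_iff.1 h1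
    have h3 : k * l * k⁻¹ * l⁻¹ = 1 := congrArg Subtype.val h2
    exact mul_inv_eq_iff_eq_mul.1 (mul_inv_eq_one.1 h3)
  -- the squaring map
  have hDs : ∀ z ∈ D, z * z = 1 := fun z hz => ((hD z).1 hz).2.2
  let sq : K →* B := MonoidHom.mk' (fun k => mB ⟨k * k, hsq k k.2⟩) (by
    intro k l
    rw [← map_mul]
    congr 1
    apply Subtype.ext
    show (k : G) * l * (k * l) = k * k * (l * l)
    calc (k : G) * l * (k * l) = k * (l * k) * l := by group
      _ = k * (k * l) * l := by rw [hab k k.2 l l.2]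
      _ = k * k * (l * l) := by group)
  have hker : m.ker ≤ sq.ker := by
    intro k hk
    rw [MonoidHom.mem_ker, hm1] at hk
    rw [MonoidHom.mem_ker]
    show mB _ = 1
    have h2 : (⟨k * k, hsq k k.2⟩ : D) = 1 := Subtype.ext (hDs _ hk)
    rw [h2, map_one]
  let q : A →* B := m.liftOfSurjective hm ⟨sq, hker⟩
  have hq : ∀ k, q (m k) = sq k := fun k => m.liftOfRightInverse_comp_apply _ _ ⟨sq, hker⟩ k
  have hq0 := mlin (ψ := ψ) hA q (by
    intro s x
    obtain ⟨k, rfl⟩ := hm x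
    obtain ⟨g, hg⟩ := hπ (σ s)
    rw [hφ s g hg, hψ s g hg, hcA, hq, hq]
    show mB _ = cB g (mB _)
    rw [hcB]
    congr 1
    apply Subtype.ext
    show (g * k * g⁻¹) * (g * k * g⁻¹) = g * (k * k) * g⁻¹
    group) (by
    intro x hx
    obtain ⟨k, rfl, hk⟩ := hfix x hx
    rw [hq]
    show mB _ = 1
    have h2 : (⟨k * k, hsq k k.2⟩ : D) = 1 := Subtype.ext (hsqt k k.2 hk)
    rw [h2, map_one])
  intro k hk
  have h1 := hq0 (m ⟨k, hk⟩)
  rw [hq] at h1
  have h2 : (⟨k * k, hsq k hk⟩ : D) = 1 := eB.map_eq_one_iff.1 h1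
  exact congrArg Subtype.val h2

end Cfsg.Agent.H844.Rec
end

-- part: H844/Rec/ModF
section
/-!
# Extensions of 2-groups by PSL(2,11): no elements of order 8 (helper844)
-/

set_option autoImplicit false
set_option linter.unusedSectionVars false

namespace Cfsg.Agent.H844.Rec

open Subgroup

universe u v

theorem t_zero : ∀ t : ZMod 11, t * (t * t - 2) = 0 → t = 0 := by decide

theorem one_or : ∀ t : ZMod 11, t * t = 1 → t = 1 ∨ t = -1 := by decide

theorem sl_ext {s t : SL} (h00 : s.1 0 0 = t.1 0 0) (h01 : s.1 0 1 = t.1 0 1) (h10 : s.1 1 0 = t.1 1 0)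
    (h11 : s.1 1 1 = t.1 1 1) : s = t := by
  apply Subtype.ext
  ext i j
  fin_cases i <;> fin_cases j
  · exact h00
  · exact h01
  · exact h10
  · exact h11

theorem sq_of_four (s : SL) (h : s ^ 4 = 1 ∨ s ^ 4 = -1) : s ^ 2 = 1 ∨ s ^ 2 = -1 := by
  obtain ⟨M, hM⟩ := s
  obtain ⟨a, b, c, d, rfl⟩ : ∃ a b c d, M = !![a, b; c, d] := ⟨_, _, _, _, Matrix.eta_fin_two M⟩
  have hdet : a * d - b * c = 1 := by rwa [Matrix.det_fin_two_of] at hM
  set s : SL := ⟨!![a, b; c, d], hM⟩ with hs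
  have e2 : (s ^ 2).1 = !![a * a + b * c, a * b + b * d; c * a + d * c, c * b + d * d] := by
    rw [sq]
    show !![a, b; c, d] * !![a, b; c, d] = _
    rw [Matrix.mul_fin_two]
  have e4 : (s ^ 4).1 = (s ^ 2).1 * (s ^ 2).1 := by
    rw [show (4 : ℕ) = 2 + 2 from rfl, pow_add]
    rfl
  rw [e2, Matrix.mul_fin_two] at e4
  have h01 : (s ^ 4).1 0 1 = 0 := by
    rcases h with h | h <;> rw [h] <;> decide
  have h10 : (s ^ 4).1 1 0 = 0 := by
    rcases h with h | h <;> rw [h] <;> decide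
  have h00 : (s ^ 4).1 0 0 = (s ^ 4).1 1 1 := by
    rcases h with h | h <;> rw [h] <;> decide
  rw [e4] at h01 h10 h00
  simp only [Matrix.of_apply, Matrix.cons_val', Matrix.cons_val_zero, Matrix.cons_val_one, Matrix.cons_val_fin_one] at h01 h10 h00
  by_cases ht : (a + d) * ((a + d) * (a + d) - 2) = 0
  · right
    have h0 := t_zero _ ht
    have hd : d = -a := by linear_combination h0
    subst hd
    apply sl_ext <;> rw [e2]
    · show a * a + b * c = -1
      linear_combination -hdet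
    · show a * b + b * -a = -0
      ring
    · show c * a + -a * c = -0
      ring
    · show c * b + -a * -a = -1
      linear_combination -hdet
  · left
    have hb : b = 0 := by
      have : (a + d) * ((a + d) * (a + d) - 2) * b = 0 := by
        linear_combination h01 + 2 * (a + d) * b * hdet
      exact (mul_eq_zero.1 this).resolve_left ht
    have hc : c = 0 := by
      have : (a + d) * ((a + d) * (a + d) - 2) * c = 0 := by
        linear_combination h10 + 2 * (a + d) * c * hdet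
      exact (mul_eq_zero.1 this).resolve_left ht
    have had : a = d := by
      have : (a + d) * ((a + d) * (a + d) - 2) * (a - d) = 0 := by
        linear_combination h00 + 2 * (a + d) * (a - d) * hdet
      exact sub_eq_zero.1 ((mul_eq_zero.1 this).resolve_left ht)
    subst hb hc had
    have h1 : a * a = 1 := by linear_combination hdet
    apply sl_ext <;> rw [e2]
    · show a * a + 0 * 0 = 1
      linear_combination hdet
    · show a * 0 + 0 * a = 0
      ring
    · show 0 * a + a * 0 = 0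
      ring
    · show 0 * 0 + a * a = 1
      linear_combination hdet

/-- **No elements of order 8.** -/
theorem no_eight {G : Type*} [Group G] {L : Type*} [Group L] (π : G →* L) (hK : ∀ k ∈ π.ker, k * k = 1)
    (σ : SL →* L) (hσs : Function.Surjective σ) (hσ : ∀ s, σ s = 1 ↔ s = 1 ∨ s = -1) (g : G) : orderOf g ≠ 8 := by
  intro hg
  obtain ⟨s, hs⟩ := hσs (π g)
  have h8 : s ^ 8 = 1 ∨ s ^ 8 = -1 := by
    rw [← hσ, map_pow, hs, ← map_pow, ← hg, pow_orderOf_eq_one, map_one]
  have h4 : s ^ 4 = 1 ∨ s ^ 4 = -1 := by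
    have := sq_of_four (s ^ 2) (by rwa [← pow_mul])
    rwa [← pow_mul] at this
  have h2 := sq_of_four s h4
  rw [← hσ, map_pow, hs, ← map_pow] at h2
  have h3 := hK _ (MonoidHom.mem_ker.2 h2)
  rw [← pow_add] at h3
  have h5 : orderOf g ∣ 4 := orderOf_dvd_of_pow_eq_one h3
  rw [hg] at h5
  omega

/-- **An extension of a 2-group by `PSL(2,11)` without elements of order 12, 20, 22 has no elements of order 8.** -/
theorem absurd_two {G : Type u} [Group G] [Finite G] {L : Type v} [Group L] (π : G →* L)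
    (hπ : Function.Surjective π) (hK : IsPGroup 2 π.ker) (σ : SL →* L) (hσs : Function.Surjective σ)
    (hσ : ∀ s, σ s = 1 ↔ s = 1 ∨ s = -1) (h12 : ∀ g : G, orderOf g ≠ 12) (h20 : ∀ g : G, orderOf g ≠ 20)
    (h22 : ∀ g : G, orderOf g ≠ 22) (g : G) : orderOf g ≠ 8 :=
  no_eight π (kernel_square _ π hπ hK σ hσ h12 h20 h22 rfl) σ hσs hσ g

end Cfsg.Agent.H844.Rec
end

-- part: H844/Rec/Out12
section
/-!
# Elements of order 12 in `M₁₂.2` and `PGL(2,11)` (helper844)

* `hasOrd_of_aut` : `X` of index 2 over `S` with `|Out S| = 2`: element orders of `MulAut S` are element orders of `X`;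
* `pgl_twelve`, `m12_twelve` : the automorphism groups of `PSL(2,11)` and `M₁₂` have elements of order 12;
* `absurd_pgl`, `absurd_m12` : the same for `X`;
* `kill_psl` : an extension of a 2-group by `PSL(2,11)` without elements of order 12, 20, 22 has none of order 8.
-/

set_option autoImplicit false
set_option linter.unusedSectionVars false

namespace Cfsg.Agent.H844.Rec

open Subgroup
open Cfsg.Agent.H58.Rec (HasOrd)

universe u v w

/-- `X` is the automorphism group of `S` -/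
theorem hasOrd_of_aut {X : Type u} [Group X] [Finite X] (S : Subgroup X) [hSn : S.Normal]
    (hC : centralizer (S : Set X) = ⊥) (hidx : S.index = 2) (ho : Nat.card (Cfsg.Out S) = 2) {n : ℕ}
    (h : HasOrd (MulAut S) n) : HasOrd X n := by
  let f : X →* MulAut S := MulAut.conjNormal (H := S)
  have hfS : Finite S := inferInstance
  have hfA : Finite (MulAut S) := Finite.of_injective (fun f : MulAut S => (f : S → S)) (fun f g hfg => by
    ext x; exact congrArg Subtype.val (congrFun hfg x))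
  have hinj : Function.Injective f := by
    rw [← MonoidHom.ker_eq_bot_iff, eq_bot_iff]
    intro x hx
    rw [← hC, mem_centralizer_iff]
    intro y hy
    have h1 := congrArg (fun g : MulAut S => ((g ⟨y, hy⟩ : S) : X)) (MonoidHom.mem_ker.1 hx)
    have h2 : x * y * x⁻¹ = y := h1
    exact (mul_inv_eq_iff_eq_mul.1 h2).symm
  have hcard : Nat.card (MulAut S) ≤ Nat.card X := by
    have h1 := (Cfsg.Inn S).card_mul_index
    have h2 : (Cfsg.Inn S).index = 2 := ho
    have h3 : Nat.card (Cfsg.Inn S) ≤ Nat.card S :=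
      Nat.card_le_card_of_surjective (MulAut.conj : S →* MulAut S).rangeRestrict
        (MulAut.conj : S →* MulAut S).rangeRestrict_surjective
    rw [← h1, h2, ← S.card_mul_index, hidx]
    exact Nat.mul_le_mul_right 2 h3
  have hbij : Function.Bijective f := by
    have hcard' : Nat.card X = Nat.card (MulAut S) :=
      le_antisymm (Nat.card_le_card_of_injective f hinj) hcard
    exact (Nat.bijective_iff_injective_and_card f).2 ⟨hinj, hcard'⟩
  exact h.congr (MulEquiv.ofBijective f hbij).symm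

theorem hasOrd_mulAut {S : Type u} {T : Type v} [Group S] [Group T] (e : S ≃* T) {n : ℕ} (h : HasOrd (MulAut T) n) :
    HasOrd (MulAut S) n := h.congr (MulAut.congr e.symm)

/-! ### `PGL(2,11)` -/

abbrev PSL11 := Matrix.ProjectiveSpecialLinearGroup (Fin 2) (ZMod 11)

/-- a generator of a nonsplit torus -/
def tor : GL (Fin 2) (ZMod 11) := ⟨!![0, 1; 4, 1], !![8, 3; 1, 0], by decide, by decide⟩

theorem tor_val : (tor : Matrix (Fin 2) (Fin 2) (ZMod 11)) = !![0, 1; 4, 1] := rfl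

theorem pow_val (k : ℕ) : ((tor ^ k : GL (Fin 2) (ZMod 11)) : Matrix (Fin 2) (Fin 2) (ZMod 11)) =
    (!![0, 1; 4, 1] : Matrix (Fin 2) (Fin 2) (ZMod 11)) ^ k := by
  rw [Units.val_pow_eq_pow_val, tor_val]

open Cfsg.Agent.ClassicalGeometry.AutPSL.Auto Cfsg.Agent.ClassicalGeometry.AutPSL.Main in
theorem pgl_twelve : HasOrd (MulAut PSL11) 12 := by
  refine ⟨lift (cj tor), ?_⟩
  have key : ∀ k : ℕ, (∀ r : ZMod 11, Matrix.scalar (Fin 2) r ≠ (!![0, 1; 4, 1] : Matrix (Fin 2) (Fin 2) (ZMod 11)) ^ k) →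
      (lift (cj tor) : MulAut PSL11) ^ k ≠ 1 := by
    intro k hk h1
    rw [← map_pow, ← map_pow] at h1
    have h2 : lift (cj (tor ^ k) * fld (1 : ZMod 11 ≃+* ZMod 11)) = 1 := by
      rw [map_one, mul_one, h1]
    obtain ⟨⟨r, hr⟩, -⟩ := Cfsg.Agent.H371.OutTwo.eq_one_of_lift h2
    exact hk r (by rw [hr, pow_val])
  apply orderOf_eq_of_pow_and_pow_div_prime (by norm_num)
  · rw [← map_pow, ← map_pow, cj_eq_one_of_scalar (r := 7) (by rw [pow_val]; decide +kernel), map_one]
  · intro p hp hpd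
    have h1 : p ∈ Nat.primeFactors 12 := Nat.mem_primeFactors.2 ⟨hp, hpd, by norm_num⟩
    have h2 : Nat.primeFactors 12 = {2, 3} := by decide +kernel
    rw [h2, Finset.mem_insert, Finset.mem_singleton] at h1
    rcases h1 with rfl | rfl
    · exact key _ (by decide +kernel)
    · exact key _ (by decide +kernel)

/-! ### `M₁₂` -/

section M12

open Cfsg.Agent.CoThreeStd.MTwelve Cfsg.Agent.CoThreeStd.OutAut Cfsg.Agent.CoThreeStd.AutTwelve

/-- a transposition -/
abbrev tsw : Equiv.Perm (Fin 5) := Equiv.swap 0 1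

/-- a disjoint 3-cycle -/
abbrev tcy : Equiv.Perm (Fin 5) := Equiv.swap 2 3 * Equiv.swap 3 4

theorem conj_injective : Function.Injective (MulAut.conj : H →* MulAut H) := by
  rw [← MonoidHom.ker_eq_bot_iff, eq_bot_iff]
  intro x hx
  have hs := Cfsg.Agent.Schreier.MTwelve.isSimpleGroup
  have hcen : Subgroup.center H = ⊥ := by
    rcases (Subgroup.Normal.eq_bot_or_eq_top (inferInstance : (Subgroup.center H).Normal)) with h | h
    · exact h
    · exfalso
      apply Cfsg.Agent.Schreier.MTwelve.not_isMulCommutative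
      refine ⟨⟨fun a b => ?_⟩⟩
      have ha : a ∈ Subgroup.center H := by rw [h]; trivial
      exact (Subgroup.mem_center_iff.1 ha b).symm
  rw [← hcen, Subgroup.mem_center_iff]
  intro g
  have h1 := congrArg (fun f : MulAut H => f g) (MonoidHom.mem_ker.1 hx)
  have h2 : x * g * x⁻¹ = g := h1
  exact (mul_inv_eq_iff_eq_mul.1 h2).symm

theorem m12_twelve : HasOrd (MulAut Cfsg.Spor.M12) 12 := by
  have hconj : ∀ x : H, alphaAut * MulAut.conj x * alphaAut = MulAut.conj (Cfsg.Agent.CoThreeStd.OutAut.alpha x) := by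
    intro x
    ext1 z
    show Cfsg.Agent.CoThreeStd.OutAut.alpha (x * Cfsg.Agent.CoThreeStd.OutAut.alpha z * x⁻¹) = Cfsg.Agent.CoThreeStd.OutAut.alpha x * z * (Cfsg.Agent.CoThreeStd.OutAut.alpha x)⁻¹
    rw [map_mul, map_mul, map_inv, alpha_alpha]
  have hodd : Equiv.Perm.sign tsw = -1 := by decide +kernel
  have heven : Equiv.Perm.sign tcy = 1 := by decide +kernel
  set β : MulAut H := alphaAut * MulAut.conj (w tsw) with hβ
  set γ : MulAut H := MulAut.conj (w tcy) with hγ
  have hβ2 : β ^ 2 = MulAut.conj y := by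
    rw [sq, hβ, ← mul_assoc, hconj, alpha_odd hodd, ← map_mul, mul_assoc, ← map_mul, show tsw * tsw = 1 by decide +kernel,
      map_one, mul_one]
  have hy : MulAut.conj y ≠ (1 : MulAut H) := by
    intro h
    apply y_ne_one
    exact conj_injective (by rw [h, map_one])
  have hβ4 : orderOf β = 4 := by
    have := orderOf_eq_prime_pow (p := 2) (n := 1) (x := β) (by rw [pow_one, hβ2]; exact hy)
      (by
        show β ^ (2 ^ (1 + 1)) = 1
        rw [show (2 : ℕ) ^ (1 + 1) = 2 * 2 from rfl, pow_mul, hβ2, ← map_pow, sq, y_sq, map_one])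
    exact this
  have hγ3 : orderOf γ = 3 := by
    have h3 : Fact (Nat.Prime 3) := ⟨by norm_num⟩
    apply orderOf_eq_prime
    · rw [hγ, ← map_pow, ← map_pow, show tcy ^ 3 = 1 by decide +kernel, map_one, map_one]
    · intro h
      have h1 : w tcy = 1 := conj_injective (by rw [← hγ, h, map_one])
      have h2 : tcy = 1 := w_injective (by rw [h1, map_one])
      revert h2
      decide +kernel
  have hα : alphaAut * alphaAut = 1 := alphaAut_sq
  have hcomm : Commute β γ := by
    have h1 : alphaAut * γ = γ * alphaAut := by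
      have h2 := hconj (w tcy)
      rw [alpha_even heven, ← hγ] at h2
      calc alphaAut * γ = (alphaAut * γ * alphaAut) * (alphaAut)⁻¹ := by group
        _ = γ * alphaAut⁻¹ := by rw [h2]
        _ = γ * alphaAut := by rw [inv_eq_of_mul_eq_one_right hα]
    have h3 : MulAut.conj (w tsw) * γ = γ * MulAut.conj (w tsw) := by
      rw [hγ, ← map_mul, ← map_mul, ← map_mul, ← map_mul, show tsw * tcy = tcy * tsw by decide +kernel]
    show alphaAut * MulAut.conj (w tsw) * γ = γ * (alphaAut * MulAut.conj (w tsw))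
    rw [mul_assoc, h3, ← mul_assoc, h1, mul_assoc]
  refine ⟨β * γ, ?_⟩
  rw [hcomm.orderOf_mul_eq_mul_orderOf_of_coprime (by rw [hβ4, hγ3]; norm_num), hβ4, hγ3]

end M12

/-! ### the groups -/

theorem absurd_pgl {X : Type u} [Group X] [Finite X] (S : Subgroup X) [hSn : S.Normal]
    (hC : centralizer (S : Set X) = ⊥) (hidx : S.index = 2) (e : S ≃* PSL11) : HasOrd X 12 := by
  apply hasOrd_of_aut S hC hidx
  · rw [Cfsg.Agent.H548.Crit.card_out_congr e]
    have hf : Fact (Nat.Prime 11) := ⟨by norm_num⟩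
    obtain ⟨φ, hφ, -, hk⟩ := Cfsg.Agent.S2602.result (F := ZMod 11) (p := 11) (f := 1) le_rfl
      (by rw [ZMod.card, pow_one]) (by norm_num)
    have h1 := Subgroup.card_mul_index φ.ker
    rw [Subgroup.index_ker, MonoidHom.range_eq_top.2 hφ, Subgroup.card_top, hk] at h1
    have h2 : Nat.card (Multiplicative (ZMod 1)) = 1 := by
      rw [Nat.card_congr Multiplicative.toAdd, Nat.card_zmod]
    rw [h2, mul_one] at h1
    rw [← h1]
    norm_num
  · exact hasOrd_mulAut e pgl_twelve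

theorem absurd_m12 {X : Type u} [Group X] [Finite X] (S : Subgroup X) [hSn : S.Normal]
    (hC : centralizer (S : Set X) = ⊥) (hidx : S.index = 2) (e : S ≃* Cfsg.Spor.M12) : HasOrd X 12 := by
  apply hasOrd_of_aut S hC hidx
  · rw [Cfsg.Agent.H548.Crit.card_out_congr e]
    exact Cfsg.Agent.S2061.result
  · exact hasOrd_mulAut e m12_twelve

theorem pr_eq_one (s : SL) : Cfsg.Agent.H43.Eleven.PF.pr s = 1 ↔ s = 1 ∨ s = -1 := by
  rw [Cfsg.Agent.H43.Eleven.PF.pr_eq_one]
  constructor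
  · rintro ⟨h01, h10, h00⟩
    have hd : s.1 0 0 * s.1 1 1 - s.1 0 1 * s.1 1 0 = 1 := by
      have := s.2
      rwa [Matrix.det_fin_two] at this
    have h01' : s.1 0 1 = 0 := h01
    have h10' : s.1 1 0 = 0 := h10
    have h00' : s.1 0 0 = s.1 1 1 := h00
    have h1 : s.1 1 1 * s.1 1 1 = 1 := by rw [h01', h00'] at hd; linear_combination hd
    rcases one_or _ h1 with h | h
    · left
      exact sl_ext (by rw [h00', h]; rfl) (by rw [h01']; rfl) (by rw [h10']; rfl) (by rw [h]; rfl)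
    · right
      exact sl_ext (by rw [h00', h]; decide) (by rw [h01']; decide) (by rw [h10']; decide) (by rw [h]; decide)
  · rintro (rfl | rfl)
    · decide
    · decide

/-- **The kill.** -/
theorem kill_psl {G : Type u} [Group G] [Finite G] {L : Type v} [Group L] (π : G →* L)
    (hπ : Function.Surjective π) (hK : IsPGroup 2 π.ker) (e : L ≃* PSL11) (h12 : ¬ HasOrd G 12) (h20 : ¬ HasOrd G 20)
    (h22 : ¬ HasOrd G 22) : ¬ HasOrd G 8 := by
  rintro ⟨g, hg⟩
  refine absurd_two π hπ hK (e.symm.toMonoidHom.comp Cfsg.Agent.H43.Eleven.PF.pr)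
    (e.symm.surjective.comp (QuotientGroup.mk'_surjective _)) ?_ (fun g hg => h12 ⟨g, hg⟩) (fun g hg => h20 ⟨g, hg⟩)
    (fun g hg => h22 ⟨g, hg⟩) g hg
  intro s
  rw [← pr_eq_one s]
  exact e.symm.map_eq_one_iff

end Cfsg.Agent.H844.Rec
end

private theorem dce_6da29754752e : _root_.True := by
  try have : _root_.True := by simp only [_root_.Cfsg.Agent.H844.Rec.mm.congr_simp]
  try have : _root_.True := by simp only [_root_.Cfsg.Agent.H844.Rec.yy.eq_1]
  exact _root_.True.intro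
end

section
prune_inst 0xfcfcf92fb8bddfffff7e7ffef5dfffbbf4ffffffdffbfbffedfbffafdf6b67fbe5fbafffec58ff8ed6e2b630f87b53fbffdeffef6bdd7ffffd5ff45ffbff9ffffebd8d51d7b83e1ffc6ffffbf17f8e7f000000000000000000000000000041004200000000

-- part: H306/Rec/OutNew
section
prune_inst 0x30206904400000000018001080000440900000000000000100000500080880412001000030300312110088e0400a804000000009020800002000820040000000142322e200741c00300000408807180c00000000000000000000000000000000000000000
set_option linter.all false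
open scoped Cfsg.Agent.FastGrp

/-!
# New element orders in extensions of degree 2 (helper306)

`out_new` : `S` of index 2 in `X`, `s` an odd prime, `s² ∤ |S|`, `S` contains a Frobenius group
`s : e`: then `X` has an element of order `2 s` or `2 e`.
-/

set_option autoImplicit false
set_option linter.unusedSectionVars false

namespace Cfsg.Agent.H306.Rec

open Subgroup Cfsg Cfsg.Agent.H58.Rec Cfsg.Agent.H455.Isolated

universe u v w

theorem card_of_pgroup {X : Type*} [Group X] [Finite X] {s : ℕ} (hs : s.Prime) (hsq : ¬ s * s ∣ Nat.card X)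
    {T : Subgroup X} (hT : IsPGroup s T) (hT1 : T ≠ ⊥) : Nat.card T = s := by
  have : Fact s.Prime := ⟨hs⟩
  obtain ⟨k, hk⟩ := IsPGroup.iff_card.1 hT
  have h1 : k < 2 := by
    by_contra h2
    apply hsq
    have h3 : s ^ 2 ∣ s ^ k := pow_dvd_pow s (by omega)
    rw [← hk, sq] at h3
    exact h3.trans (card_subgroup_dvd_card _)
  have h3 : k ≠ 0 := by
    rintro rfl
    rw [pow_zero, card_eq_one] at hk
    exact hT1 hk
  have h4 : k = 1 := by omega
  rw [hk, h4, pow_one]

/-- some element outside of `S` normalizes a Sylow subgroup of `S` of order `s` -/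
theorem exists_outer_normalizer {X : Type*} [Group X] [Finite X] (S : Subgroup X) [hSn : S.Normal]
    (hidx : S.index ≠ 1) {s : ℕ} (hs : s.Prime) (hsq : ¬ s * s ∣ Nat.card S) {T : Subgroup S} (hT : Nat.card T = s) :
    ∃ x : X, x ∉ S ∧ x ∈ normalizer ((T.map S.subtype : Subgroup X) : Set X) := by
  classical
  have hfs : Fact s.Prime := ⟨hs⟩
  have hTp : IsPGroup s T := IsPGroup.of_card (n := 1) (by rw [hT, pow_one])
  obtain ⟨P, hP⟩ := hTp.exists_le_sylow
  have hPT : T = (P : Subgroup S) := by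
    refine eq_of_le_of_card_ge hP ?_
    rw [hT, card_of_pgroup hs hsq P.isPGroup' ?_]
    intro h
    rw [h] at hP
    have h1 : T = ⊥ := le_bot_iff.1 hP
    rw [h1, card_bot] at hT
    exact hs.one_lt.ne hT
  obtain ⟨x, hx⟩ : ∃ x : X, x ∉ S := by
    by_contra hno
    push Not at hno
    exact hidx (index_eq_one.2 (eq_top_iff.2 fun x _ => hno x))
  have h1 := Sylow.normalizer_sup_eq_top P
  have h2 : x ∈ normalizer ((P : Subgroup S).map S.subtype : Set X) ⊔ S := by
    rw [h1]; trivial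
  rw [mem_sup_of_normal_right] at h2
  obtain ⟨y, hy, z, hz, hyz⟩ := h2
  refine ⟨y, ?_, ?_⟩
  · intro h3
    apply hx
    rw [← hyz]
    exact S.mul_mem h3 hz
  · rw [hPT]
    exact hy

/-- **New orders.** -/
theorem out_new {X : Type*} [Group X] [Finite X] (S : Subgroup X) [hSn : S.Normal] (hidx : S.index = 2)
    {s e : ℕ} (hs : s.Prime) (hs2 : s ≠ 2) (hsq : ¬ s * s ∣ Nat.card S) (he : 0 < e)
    (hF : HasFrob S s e) : HasOrd X (2 * s) ∨ HasOrd X (2 * e) := by
  classical
  have hfs : Fact s.Prime := ⟨hs⟩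
  by_cases h2s : HasOrd X (2 * s)
  · exact Or.inl h2s
  right
  obtain ⟨T, c, hT, hT1, hc, hn, hfree⟩ := hF
  have hTc : Nat.card T = s := card_of_pgroup hs hsq hT hT1
  obtain ⟨x, hxS, hxN⟩ := exists_outer_normalizer S (by rw [hidx]; norm_num) hs hsq hTc
  set T' : Subgroup X := T.map S.subtype with hT'
  have hT'c : Nat.card T' = s := by
    rw [hT', card_map_of_injective S.subtype_injective, hTc]
  set N := normalizer (T' : Set X) with hN
  let φ : N →* MulAut T' := T'.normalizerMonoidHom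
  have hφk : φ.ker = (centralizer (T' : Set X)).subgroupOf N := normalizerMonoidHom_ker T'
  -- the centralizer lies in `S`
  have hCS : centralizer (T' : Set X) ≤ S := by
    intro y hy
    by_contra hyS
    -- the order of `y` is even
    have h2 : 2 ∣ orderOf y := by
      have h1 : orderOf (y : X ⧸ S) ∣ 2 := hidx ▸ orderOf_dvd_natCard (y : X ⧸ S)
      rcases (Nat.dvd_prime Nat.prime_two).1 h1 with h3 | h3
      · rw [orderOf_eq_one_iff, QuotientGroup.eq_one_iff] at h3
        exact absurd h3 hyS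
      · rw [← h3]
        exact orderOf_map_dvd (QuotientGroup.mk' S) y
    obtain ⟨k, hk⟩ := exists_pow_orderOf h2
    obtain ⟨a, ha⟩ := exists_prime_orderOf_dvd_card' (G := T') s (by rw [hT'c])
    have ha' : orderOf (a : X) = s := by rw [Subgroup.orderOf_coe, ha]
    have hya : Commute y (a : X) := (mem_centralizer_iff.1 hy a a.2).symm
    exact h2s (hasOrd_mul (hya.pow_left k) hk ha' ((Nat.coprime_primes Nat.prime_two hs).2 (Ne.symm hs2)))
  -- the subgroup `S ∩ N` of `N` has index 2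
  let NS : Subgroup N := S.subgroupOf N
  have hNSn : NS.Normal := Subgroup.Normal.subgroupOf hSn N
  have hNSi : NS.index = 2 := by
    have h1 : NS.index ∣ 2 := by
      rw [← hidx]
      exact relIndex_dvd_index_of_normal S N
    rcases (Nat.dvd_prime Nat.prime_two).1 h1 with h3 | h3
    · exfalso
      rw [index_eq_one] at h3
      have h4 : (⟨x, hxN⟩ : N) ∈ NS := by rw [h3]; trivial
      exact hxS h4
    · exact h3
  have hkNS : φ.ker ≤ NS := by
    rw [hφk]
    intro y hy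
    rw [mem_subgroupOf] at hy ⊢
    exact hCS hy
  -- the cardinality of the range
  have hcyc : IsCyclic T' := isCyclic_of_prime_card hT'c
  have hcycA : IsCyclic (MulAut T') := by
    have e1 : MulAut T' ≃* (ZMod (Nat.card T'))ˣ := IsCyclic.mulAutMulEquiv T'
    rw [hT'c] at e1
    exact isCyclic_of_surjective e1.symm.toMonoidHom e1.symm.surjective
  have hfT : Finite (MulAut T') := Finite.of_injective (fun f : MulAut T' => (f : T' → T')) (fun f g hfg => by
    ext y; exact congrArg Subtype.val (congrFun hfg y))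
  have hrange : Nat.card φ.range = 2 * Nat.card (NS.map φ) := by
    have h1 : Nat.card φ.range = φ.ker.index := (index_ker φ).symm
    have h2 : Nat.card (NS.map φ) * φ.ker.relIndex NS = Nat.card (NS.map φ) * φ.ker.relIndex NS := rfl
    have h3 : Nat.card (NS.map φ) = φ.ker.relIndex NS := by
      have h4 : (φ.domRestrict NS).range = NS.map φ := MonoidHom.domRestrict_range NS φ
      rw [← h4, ← index_ker]
      rw [MonoidHom.ker_domRestrict]
      rfl
    rw [h1, h3, ← hNSi, mul_comm]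
    exact (relIndex_mul_index hkNS).symm
  -- `e` divides the order of `φ(NS)`
  have hcS : (c : X) ∈ N := by
    rw [hN, mem_normalizer_iff]
    intro y
    constructor
    · rintro ⟨a, ha, rfl⟩
      exact ⟨c * a * c⁻¹, (mem_normalizer_iff.1 hc a).1 ha, by simp⟩
    · rintro ⟨a, ha, hay⟩
      refine ⟨c⁻¹ * a * c, (mem_normalizer_iff.1 hc _).2 ?_, ?_⟩
      · have : c * (c⁻¹ * a * c) * c⁻¹ = a := by group
        rwa [this]
      · have h1 : (a : X) = c * y * (c : X)⁻¹ := hay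
        simp only [map_mul, map_inv, Subgroup.subtype_apply]
        rw [h1]; group
  let c' : N := ⟨c, hcS⟩
  have hc'NS : c' ∈ NS := by
    rw [mem_subgroupOf]
    exact c.2
  have hoc : orderOf (φ c') = e := by
    apply Nat.dvd_antisymm
    · apply orderOf_dvd_of_pow_eq_one
      rw [← map_pow]
      have : c' ^ e = 1 := Subtype.ext (by
        show (c : X) ^ e = 1
        rw [← Subgroup.coe_pow, ← hn, pow_orderOf_eq_one]; rfl)
      rw [this, map_one]
    · -- minimality
      rw [Nat.dvd_iff_mod_eq_zero]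
      by_contra hne
      set j := orderOf (φ c') with hj
      have hj0 : 0 < j := orderOf_pos _
      -- `e % ...`: use `j < e` impossible and `j ∣ e`
      have hje : j ∣ e := by
        apply orderOf_dvd_of_pow_eq_one
        rw [← map_pow]
        have : c' ^ e = 1 := Subtype.ext (by
          show (c : X) ^ e = 1
          rw [← Subgroup.coe_pow, ← hn, pow_orderOf_eq_one]; rfl)
        rw [this, map_one]
      have hlt : j < e := by
        rcases Nat.lt_or_ge j e with h | h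
        · exact h
        · exfalso
          have := Nat.le_of_dvd he hje
          have h3 : j = e := by omega
          rw [h3, Nat.mod_self] at hne
          exact hne rfl
      have h4 : c' ^ j ∈ φ.ker := by
        rw [MonoidHom.mem_ker, map_pow, hj, pow_orderOf_eq_one]
      rw [hφk, mem_subgroupOf] at h4
      obtain ⟨⟨a, ha⟩, ha1⟩ := (T.ne_bot_iff_exists_ne_one).1 hT1
      apply ha1
      apply Subtype.ext
      refine hfree j hj0 hlt a ha ?_
      have h5 := mem_centralizer_iff.1 h4 (a : X) ⟨a, ha, rfl⟩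
      apply Subtype.ext
      simpa using h5
  have hed : e ∣ Nat.card (NS.map φ) := by
    rw [← hoc]
    have h1 : φ c' ∈ NS.map φ := ⟨c', hc'NS, rfl⟩
    have := orderOf_dvd_natCard (⟨_, h1⟩ : NS.map φ)
    rwa [Subgroup.orderOf_mk] at this
  -- an element of order `2 e` in the range
  have hcr : IsCyclic φ.range := inferInstance
  obtain ⟨⟨γ, hγ⟩, hgen⟩ := hcr.exists_generator
  obtain ⟨g, rfl⟩ := hγ
  have hog : orderOf (φ g) = Nat.card φ.range := by
    have h1 := orderOf_eq_card_of_forall_mem_zpowers hgen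
    rw [← Subgroup.orderOf_coe] at h1
    exact h1
  have h2e : 2 * e ∣ orderOf (φ g) := by
    rw [hog, hrange]
    exact Nat.mul_dvd_mul_left 2 hed
  have h3 : 2 * e ∣ orderOf (g : X) := by
    rw [Subgroup.orderOf_coe]
    exact h2e.trans (orderOf_map_dvd φ g)
  exact HasOrd.of_dvd ⟨(g : X), rfl⟩ h3

end Cfsg.Agent.H306.Rec
end

-- part: H306/Rec/MTwentyThree
section
set_option linter.all false
open scoped Cfsg.Agent.FastGrp

/-!
# `M₂₃` is recognizable by spectrum (helper306)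
-/

set_option autoImplicit false
set_option linter.unusedSectionVars false

namespace Cfsg.Agent.H306.Rec.MTwentyThree

open Subgroup Cfsg Cfsg.Agent.H58.Rec Cfsg.Agent.H455.Isolated Cfsg.Agent.OrdDiv Cfsg.Agent.H436 Cfsg.Agent.H306.Rec

universe u w

theorem lst_eq : lst [2, 3, 5, 7, 11, 23] [11, 23] 23 29 = [.m23, .m24, .co2, .co3, .psl 2 23] := by rewrite [Cfsg.Agent.H58.Rec.Q11.lst_fast]; decide +kernel

section

variable {M : Type w} [Group M] [Finite M] (hM : Spor.IsoM23 M)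

include hM

theorem iso11 : Isolated M 11 := H306.Rec.isolated_of_sc (by norm_num) (H537.Cop.m23_11 hM)

theorem iso23 : Isolated M 23 := H306.Rec.isolated_of_sc (by norm_num) (H537.Cop.m23_23 hM)

theorem good23 : Good M 23 := by
  have hc : Nat.card M = 10200960 := NotCT.Orders.m23 hM
  exact good_of_two (by norm_num) (by norm_num) (by rw [hc]; norm_num) (iso23 hM) (s := 11) (by norm_num) (by norm_num)
    (by rw [hc]; norm_num) (iso11 hM) (by norm_num)

theorem good11 : Good M 11 := by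
  have hc : Nat.card M = 10200960 := NotCT.Orders.m23 hM
  exact good_of_two (by norm_num) (by norm_num) (by rw [hc]; norm_num) (iso11 hM) (s := 23) (by norm_num) (by norm_num)
    (by rw [hc]; norm_num) (iso23 hM) (by norm_num)

theorem no_ten : ¬ HasOrd M 10 := by
  obtain ⟨e⟩ := hM
  rintro ⟨g, hg⟩
  have h1 : orderOf (e (g ^ 5)) = 2 := by
    rw [MulEquiv.orderOf_eq, orderOf_pow' g (by norm_num), hg]; norm_num
  have h2 : orderOf (e (g ^ 2)) = 5 := by
    rw [MulEquiv.orderOf_eq, orderOf_pow' g (by norm_num), hg]; norm_num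
  refine H729.PairMathieu.noTwo23 _ _ h1 h2 ?_
  have h3 : Commute (g ^ 5) (g ^ 2) := (Commute.refl g).pow_pow 5 2
  exact h3.map e.toMonoidHom

/-- no element of order `11 p` -/
theorem no_eleven {p : ℕ} (hp : p.Prime) : ¬ HasOrd M (11 * p) := by
  have hc : Nat.card M = 10200960 := NotCT.Orders.m23 hM
  by_cases h : p = 11
  · subst h
    rintro ⟨g, hg⟩
    have h1 := orderOf_dvd_natCard g
    rw [hg, hc] at h1
    norm_num at h1
  · exact (isolated_iff.1 (iso11 hM)) p hp h

/-- **`M₂₃` is recognizable by spectrum.** -/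
theorem row (hN : NameHyp.{u}) {G : Type u} [Group G] [Finite G] (h : Same G M) : Nonempty (G ≃* M) := by
  have hc : Nat.card M = 10200960 := NotCT.Orders.m23 hM
  have hsol : ¬ Group.IsSolvable G :=
    not_solvable_of_same h (r := 11) (s := 23) (t := 2) (by norm_num) (by norm_num) Nat.prime_two (by norm_num)
      (by norm_num) (by norm_num) (by rw [hc]; norm_num) (by rw [hc]; norm_num) (by rw [hc]; norm_num)
      ((isolated_iff.1 (iso11 hM)) 23 (by norm_num) (by norm_num))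
      ((isolated_iff.1 (iso11 hM)) 2 (by norm_num) (by norm_num))
      ((isolated_iff.1 (iso23 hM)) 2 (by norm_num) (by norm_num))
  obtain ⟨X, _, _, π, S, hR⟩ := exists_red hsol ((dvd_of_same h Nat.prime_two).2 (by rw [hc]; norm_num))
    ((good23 hM).of_same h)
  have R23 := hR 23 ((good23 hM).of_same h)
  have R11 := hR 11 ((good11 hM).of_same h)
  have hSn := R23.normal
  have hSs : IsSimpleGroup S := R23.simple
  have hsub : Sub S M := ⟨fun n hn => (h n).1 (R23.hasOrd' hn), fun r hr => (hR r (hr.of_same h)).dvd⟩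
  obtain ⟨g, hg, hgl⟩ := name_mem hN R23.nonab hsub (ps := [2, 3, 5, 7, 11, 23]) (rs := [11, 23]) (B := 23) (N := 29) hc
    (by norm_num) (by decide) (by norm_num) (by decide)
    (fun r hr hd => mem_of_dvd_pow (k := 7) (by decide) (by decide) hr hd) (by
      intro r hr
      simp only [List.mem_cons, List.not_mem_nil, or_false] at hr
      rcases hr with rfl | rfl
      · exact R11.dvd
      · exact R23.dvd)
  rw [lst_eq] at hgl
  have hiS : Isolated S 23 := hsub.isolated (iso23 hM)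
  -- the kernel is trivial as soon as `23 : 11 ≤ S`
  have hker : HasFrob S 23 11 → ∀ p : ℕ, p.Prime → ¬ p ∣ Nat.card π.ker := by
    intro hF p hp
    by_cases h23 : p = 23
    · rw [h23]; exact R23.not_dvd
    · exact R23.kill' hp (by norm_num) (Ne.symm h23) hF fun h4 => no_eleven hM hp ((h _).1 h4)
  have hten : HasOrd S 10 → False := fun h1 => no_ten hM (hsub.ord _ h1)
  have hadj : H94.PG.Sp.Nr S 5 → False := by
    intro h1
    rcases h1 with h1 | h1
    · norm_num at h1
    · obtain ⟨g, hg⟩ := H564.PSLn.exists_orderOf_mul h1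
      exact hten ⟨g, hg⟩
  simp only [List.mem_cons, List.not_mem_nil, or_false] at hgl
  rcases hgl with rfl | rfl | rfl | rfl | rfl
  · have h1 : Spor.IsoM23 S := hg.real
    have hF : HasFrob S 23 11 := hasFrob_of_isolated (by norm_num) (NotCT.Orders.m23 h1) hiS (by norm_num) (by norm_num)
      (by norm_num) (by decide +kernel)
    obtain ⟨e⟩ := h1
    obtain ⟨f⟩ := id hM
    refine finish R23 (fun p hp _ => hker hF p hp) (e.trans f.symm) (Or.inl ?_)
    rw [H548.Crit.card_out_congr f]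
    exact S2063.result
  · exact (hadj (H94.PG.Sp.nr_m24' (show Spor.IsoM24 S from hg.real) (by norm_num) (by norm_num) (by norm_num))).elim
  · exact (hadj (H94.PG.Sp.nr_co2 (show Spor.IsoCo2 S from hg.real) (by norm_num) (by norm_num) (by norm_num))).elim
  · exact (hadj (H94.PG.Sp.nr_co3 (show Spor.IsoCo3 S from hg.real) (by norm_num) (by norm_num) (by norm_num))).elim
  · exfalso
    have hcS : Nat.card S = 6072 := by
      rw [hg.ord]; decide +kernel
    have hF : HasFrob S 23 11 := hasFrob_of_isolated (by norm_num) hcS hiS (by norm_num) (by norm_num)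
      (by norm_num) (by decide +kernel)
    exact R23.absurd_of hcS (r := 5) (by norm_num) ((dvd_of_same h (by norm_num)).2 (by rw [hc]; norm_num))
      (hker hF 5 (by norm_num)) (by decide +kernel)

end

/-- **`M₂₃` is recognizable by spectrum.** -/
theorem rec_m23 (hN : NameHyp.{u}) {G : Type u} [Group G] [Finite G] {M : Type w} [Group M] [Finite M]
    (hM : Spor.IsoM23 M) (h : Same G M) : Nonempty (G ≃* M) := row hM hN h

end Cfsg.Agent.H306.Rec.MTwentyThree
end

-- part: H16/Rec/USix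
section
set_option linter.all false
open scoped Cfsg.Agent.FastGrp

/-- Laplace expansion which skips zero entries -/
private noncomputable def detL_47ccc {R : Type*} [CommRing R] [DecidableEq R] (n : ℕ) : Matrix (Fin n) (Fin n) R → R :=
  @Nat.rec (fun n => Matrix (Fin n) (Fin n) R → R) (fun _ => 1) (fun n ih M =>
    ∑ j : Fin (n + 1), if M 0 j = 0 then 0 else (-1) ^ (j : ℕ) * M 0 j * ih (M.submatrix Fin.succ j.succAbove)) n

private theorem detL_eq_47ccc {R : Type*} [CommRing R] [DecidableEq R] {n : ℕ} (M : Matrix (Fin n) (Fin n) R) :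
    M.det = detL_47ccc n M := by
  induction n with
  | zero => exact Matrix.det_fin_zero
  | succ n ih =>
    rw [Matrix.det_succ_row_zero]
    refine Finset.sum_congr rfl fun j _ => ?_
    by_cases h : M 0 j = 0
    · rw [if_pos h, h, mul_zero, zero_mul]
    · rw [if_neg h, ih]
      rfl


/-!
# Recognition by spectrum: `U₆(2)` has elements of order 18 (helper16)
-/

set_option autoImplicit false

namespace Cfsg.Agent.H16.Rec

open Cfsg Matrix Cfsg.Agent.SporadicA.FieldFour F4 Cfsg.Agent.LieClassical.SUBasic Cfsg.Agent.H852.USixElts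
open Cfsg.Agent.H58.Rec

set_option maxRecDepth 100000

def G18 : M6 := !![z,z,w,z,z,z; o,z,z,z,z,z; z,o,z,z,z,z; z,z,z,z,o,z; z,z,z,o,z,z; z,z,z,z,z,v]

theorem G18_pow : G18 ^ 18 = 1 := by decide +kernel
theorem G18_six : G18 ^ 6 = Matrix.diagonal ![v, v, v, o, o, o] := by decide +kernel
theorem G18_nine : (G18 ^ 9) 3 4 ≠ 0 := by decide +kernel
theorem G18_st : st G18 * G18 = 1 := by decide +kernel
theorem G18_det : G18.det = 1 := by (simp only [detL_eq_47ccc]; decide +kernel)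

def g18 : SU 6 F4 2 := mk G18 G18_st G18_det

theorem order_g18 : orderOf (pr g18) = 18 := by
  refine orderOf_eq_of_pow_and_pow_div_prime (by norm_num) ?_ ?_
  · rw [← map_pow]
    have h1 : g18 ^ 18 = 1 := mat_inj (by
      rw [mat_pow]
      exact G18_pow)
    rw [h1, map_one]
  · intro p hp hd
    have h1 : p = 2 ∨ p = 3 := by
      have h2 : p ∣ 2 * 3 ^ 2 := by simpa using hd
      rcases hp.dvd_mul.1 h2 with h3 | h3
      · exact Or.inl ((Nat.prime_dvd_prime_iff_eq hp Nat.prime_two).1 h3)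
      · exact Or.inr ((Nat.prime_dvd_prime_iff_eq hp (by norm_num)).1 (hp.dvd_of_dvd_pow h3))
    rcases h1 with rfl | rfl
    · show pr g18 ^ 9 ≠ 1
      rw [← map_pow]
      refine pr_ne_one 3 4 (by decide) ?_
      rw [mat_pow]
      exact G18_nine
    · show pr g18 ^ 6 ≠ 1
      rw [← map_pow]
      intro h
      obtain ⟨c, -, hc⟩ := pr_eq_one h
      have h0 : mat (g18 ^ 6) = Matrix.diagonal ![v, v, v, o, o, o] := by
        rw [← G18_six, mat_pow]
        rfl
      rw [h0] at hc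
      have h1 := congrFun (congrFun hc 0) 0
      have h2 := congrFun (congrFun hc 3) 3
      have h3 : v = c := by simpa using h1
      have h4 : o = c := by simpa using h2
      exact absurd (h3.trans h4.symm) (by decide)

theorem usix_eighteen {F : Type*} [Field F] [Fintype F] (hF : Fintype.card F = 4) : HasOrd (PSU 6 F 2) 18 := by
  obtain ⟨e⟩ := Cfsg.Agent.SporadicStructure.PsuMatch.psu_iso_of_card
    (F := F4) (K := F) (F4.card_eq.trans hF.symm) 6 2
  exact HasOrd.congr ⟨pr g18, order_g18⟩ e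

end Cfsg.Agent.H16.Rec
end

-- part: H893/Rec/RowM12_mg
section
prune_inst 0x2004000000000000000000000000000000000000000000000004000001000000000000000004000000000000000000020000004000000000000000000000000022000000000000000000002000000000000000000000000000000000000000000000000
set_option linter.all false
open scoped Cfsg.Agent.FastGrp

-- part: H893/Rec/FrobC
section
/-!
# Recognition by spectrum: the Frobenius complement case for `M₁₂` (helper893)

`solvable_240`: groups of order 240 with a central unique involution without elements of order 12 and 15 are solvable;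
`no_normal`: a nonsolvable `{2,3,5,r}`-group with `r` isolated, with the 2-, 3- and 5-part of the spectrum of `M₁₂`, has no
nontrivial normal abelian `r`-subgroup.
-/

set_option autoImplicit false
set_option linter.unusedSectionVars false

namespace Cfsg.Agent.H893.Rec

open Subgroup
open Cfsg.Agent.H58.Rec
open Cfsg.Agent.H455.Isolated
open Cfsg.Agent.H363.Frat (NonAdj eq_one_of_commute)

universe u

/-- `p`-subgroups acting freely on a normal abelian subgroup have order dividing `p` if there are no elements of order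
`p²` -/
theorem card_of_fpf {G : Type*} [Group G] [Finite G] {r p : ℕ} (h : Isolated G r) (hr : r.Prime) (hp : p.Prime)
    (hpr : p ≠ r) (hpp : ¬ HasOrd G (p * p)) {V : Subgroup G} (hV : IsPGroup r V) (hV1 : V ≠ ⊥) (hVn : V.Normal)
    (hab : ∀ a ∈ V, ∀ b ∈ V, a * b = b * a) {P : Subgroup G} (hP : IsPGroup p P) : Nat.card P ∣ p := by
  have hfp : Fact p.Prime := ⟨hp⟩
  have hfr : Fact r.Prime := ⟨hr⟩
  by_cases hP1 : P = ⊥
  · rw [hP1, card_bot]; exact one_dvd _
  have hPnt : Nontrivial P := (nontrivial_iff_ne_bot P).2 hP1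
  have hord : ∀ y ∈ P, y ≠ 1 → orderOf y = p := by
    intro y hy hy1
    obtain ⟨k, hk⟩ := (IsPGroup.iff_orderOf.mp hP) ⟨y, hy⟩
    rw [Subgroup.orderOf_mk] at hk
    rcases k with - | - | k
    · rw [pow_zero, orderOf_eq_one_iff] at hk
      exact absurd hk hy1
    · rw [hk]; simp
    · exfalso
      exact hpp (HasOrd.of_dvd ⟨y, hk⟩ ⟨p ^ k, by ring⟩)
  have hZ : center P ≠ ⊥ := hP.bot_lt_center.ne'
  obtain ⟨⟨z, hz⟩, hz1⟩ := (center P).ne_bot_iff_exists_ne_one.1 hZ
  have hzc : ∀ y ∈ P, y * (z : G) = z * y := fun y hy => congrArg Subtype.val (mem_center_iff.1 hz ⟨y, hy⟩)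
  have hz1' : (z : G) ≠ 1 := fun h1 => hz1 (Subtype.ext (Subtype.ext h1))
  have hVc : IsMulCommutative V := ⟨⟨fun a b => Subtype.ext (hab a a.2 b b.2)⟩⟩
  have hfpf : ∀ a ∈ P, a ≠ 1 → V ⊓ centralizer ({a} : Set G) = ⊥ := by
    intro a ha ha1
    rw [eq_bot_iff]
    rintro v ⟨hvV, hvc⟩
    rw [mem_bot]
    by_contra hv1
    obtain ⟨k, hk⟩ := (IsPGroup.iff_orderOf.mp hV) ⟨v, hvV⟩
    rw [Subgroup.orderOf_mk] at hk
    exact ha1 (eq_one_of_commute hp hr hpr ((h p hp hpr).symm) ⟨1, by rw [hord a ha ha1, pow_one]⟩ ⟨k, hk⟩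
      (mem_centralizer_singleton_iff.1 hvc).symm hv1)
  have key : ∀ y ∈ P, y ∈ zpowers (z : G) := by
    intro y hy
    obtain ⟨A, hA⟩ : ∃ A : Subgroup G, A = _root_.Subgroup.closure {(z : G), y} := ⟨_, rfl⟩
    have hAP : A ≤ P := by
      rw [hA, closure_le]
      rintro x (rfl | rfl)
      · exact z.2
      · exact hy
    have hAc : IsMulCommutative A := by
      rw [hA]
      apply isMulCommutative_closure
      rintro a (rfl | rfl) b (rfl | rfl)
      · rfl
      · exact (hzc _ hy).symm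
      · exact hzc _ hy
      · rfl
    have hAcyc : IsCyclic A := by
      have := S0041.result A V hV1 (by rw [normalizer_eq_top]; exact le_top) (fun a ha ha1 => hfpf a (hAP ha) ha1)
        (Or.inl hAc)
      exact this
    have hzA : (z : G) ∈ A := by rw [hA]; exact _root_.Subgroup.subset_closure (by simp)
    have hyA : y ∈ A := by rw [hA]; exact _root_.Subgroup.subset_closure (by simp)
    obtain ⟨⟨a, haA⟩, hgen⟩ := hAcyc.exists_generator
    have ha1 : a ≠ 1 := by
      rintro rfl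
      obtain ⟨i, hi⟩ := mem_zpowers_iff.1 (hgen ⟨z, hzA⟩)
      have := congrArg Subtype.val hi
      simp at this
      exact hz1' this.symm
    have hAcard : Nat.card A = p := by
      have h1 := orderOf_eq_card_of_forall_mem_zpowers hgen
      rw [Subgroup.orderOf_mk, hord a (hAP haA) ha1] at h1
      exact h1.symm
    have h2 : zpowers (z : G) = A := by
      apply eq_of_le_of_card_ge
      · rw [zpowers_le]; exact hzA
      · rw [hAcard, Nat.card_zpowers, hord _ z.2 hz1']
    rw [h2]; exact hyA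
  have hPz : P = zpowers (z : G) := le_antisymm key (by rw [zpowers_le]; exact z.2)
  rw [hPz, Nat.card_zpowers, hord _ z.2 hz1']

/-- groups of order 240 -/
theorem solvable_240 {H : Type*} [Group H] [Finite H] (hc : Nat.card H = 240) {z : H} (hz : orderOf z = 2)
    (hzc : ∀ y, z * y = y * z) (huniq : ∀ u : H, orderOf u = 2 → u = z) (h12 : ¬ HasOrd H 12)
    (h15 : ¬ HasOrd H 15) : Group.IsSolvable H := by
  obtain ⟨Z, hZ⟩ : ∃ Z : Subgroup H, Z = zpowers z := ⟨_, rfl⟩
  have hZn : Z.Normal := by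
    rw [hZ]
    refine ⟨?_⟩
    rintro x ⟨i, rfl⟩ g
    refine ⟨i, ?_⟩
    have h1 : Commute (z ^ i) g := Commute.zpow_left (hzc g) i
    show z ^ i = g * z ^ i * g⁻¹
    rw [← h1.eq, mul_inv_cancel_right]
  have hZc : Nat.card Z = 2 := by rw [hZ, Nat.card_zpowers, hz]
  have hXc : Nat.card (H ⧸ Z) = 120 := by
    have h1 := Subgroup.card_eq_card_quotient_mul_card_subgroup Z
    rw [hc, hZc] at h1
    omega
  have hzz : ∀ y ∈ Z, y ^ 2 = 1 := by
    intro y hy
    have := _root_.orderOf_dvd_natCard (⟨y, hy⟩ : Z)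
    rw [hZc, Subgroup.orderOf_mk] at this
    exact orderOf_dvd_iff_pow_eq_one.1 this
  -- 3 is isolated in the quotient
  have hiso : Isolated (H ⧸ Z) 3 := by
    rw [isolated_iff]
    intro s hs hs3 h1
    have h2 : s ∣ 120 := by
      obtain ⟨g, hg⟩ := h1
      rw [← hXc]
      exact (dvd_mul_left s 3).trans (hg ▸ _root_.orderOf_dvd_natCard g)
    have h3 : s = 2 ∨ s = 5 := by
      have h4 : s ∈ Nat.primeFactors 120 := Nat.mem_primeFactors.2 ⟨hs, h2, by norm_num⟩
      have h5 : Nat.primeFactors 120 = {2, 3, 5} := by decide +kernel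
      rw [h5] at h4
      simp only [Finset.mem_insert, Finset.mem_singleton] at h4
      (clear * - hs3 h4; tauto)
    rcases h3 with rfl | rfl
    · obtain ⟨g, hg⟩ := h1
      obtain ⟨y, rfl⟩ := QuotientGroup.mk'_surjective Z g
      have h4 : 6 ∣ orderOf y := by
        have := orderOf_map_dvd (QuotientGroup.mk' Z) y
        rw [hg] at this
        exact this
      have h5 : y ^ 6 ∈ Z := by
        rw [← QuotientGroup.eq_one_iff]
        have : (QuotientGroup.mk' Z y) ^ 6 = 1 := by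
          rw [← orderOf_dvd_iff_pow_eq_one, hg]
        exact this
      have h6 : orderOf y ∣ 12 := by
        rw [orderOf_dvd_iff_pow_eq_one]
        have := hzz _ h5
        rwa [← pow_mul] at this
      obtain ⟨k, hk⟩ := h4
      have h7 : k = 1 ∨ k = 2 := by
        rw [hk] at h6
        have h8 : k ∣ 2 := Nat.dvd_of_mul_dvd_mul_left (k := 6) (by norm_num) h6
        exact (Nat.dvd_prime Nat.prime_two).1 h8
      rcases h7 with rfl | rfl
      · have h8 : orderOf (y ^ 3) = 2 := by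
          rw [orderOf_pow_of_dvd (by norm_num) (by rw [hk]; norm_num), hk]
        have h9 := huniq _ h8
        have h10 : y ^ 3 ∈ Z := by rw [h9, hZ]; exact mem_zpowers z
        have h11 : (QuotientGroup.mk' Z y) ^ 3 = 1 := (QuotientGroup.eq_one_iff _).2 h10
        rw [← orderOf_dvd_iff_pow_eq_one, hg] at h11
        norm_num at h11
      · exact h12 ⟨y, hk⟩
    · exact h15 (h1.of_surjective (QuotientGroup.mk' Z) (QuotientGroup.mk'_surjective Z))
  have h3p : Nat.Prime 3 := by norm_num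
  have hf3 : Fact (Nat.Prime 3) := ⟨h3p⟩
  have hsq : ¬ 3 * 3 ∣ Nat.card (H ⧸ Z) := by rw [hXc]; norm_num
  obtain ⟨x, hx⟩ := exists_prime_orderOf_dvd_card' (G := H ⧸ Z) 3 (by rw [hXc]; norm_num)
  obtain ⟨f, hf, hN, -⟩ := norm_struct h3p hx (fun y hy => mem_zpowers_of_isolated h3p hiso hsq x hx y hy)
  -- Sylow's theorem
  have hZp : IsPGroup 3 (zpowers x) := IsPGroup.of_card (n := 1) (by rw [Nat.card_zpowers, hx, pow_one])
  have hidx : ¬ 3 ∣ (zpowers x).index := by
    intro h1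
    apply hsq
    rw [← Subgroup.card_mul_index (zpowers x), Nat.card_zpowers, hx]
    exact Nat.mul_dvd_mul_left 3 h1
  let P : Sylow 3 (H ⧸ Z) := hZp.toSylow hidx
  have hPx : (P : Subgroup (H ⧸ Z)) = zpowers x := rfl
  have hf1 : f = 1 := by
    have h5 : Nat.card (Sylow 3 (H ⧸ Z)) = (normalizer ((P : Subgroup (H ⧸ Z)) : Set (H ⧸ Z))).index :=
      Sylow.card_eq_index_normalizer P
    have h6 : Nat.card (Sylow 3 (H ⧸ Z)) % 3 = 1 % 3 := card_sylow_modEq_one 3 (H ⧸ Z)
    rw [h5, hPx] at h6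
    have h7 := (normalizer ((zpowers x : Subgroup (H ⧸ Z)) : Set (H ⧸ Z))).card_mul_index
    rw [hN, hXc] at h7
    rcases (Nat.dvd_prime Nat.prime_two).1 hf with rfl | rfl
    · rfl
    · exfalso
      omega
  have hNc : normalizer ((P : Subgroup (H ⧸ Z)) : Set (H ⧸ Z)) ≤ centralizer ((P : Subgroup (H ⧸ Z)) : Set (H ⧸ Z)) := by
    rw [hf1, mul_one] at hN
    have h1 : zpowers x = normalizer ((zpowers x : Subgroup (H ⧸ Z)) : Set (H ⧸ Z)) := by
      apply eq_of_le_of_card_ge le_normalizer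
      rw [hN, Nat.card_zpowers, hx]
    rw [hPx, ← h1]
    intro y hy
    rw [mem_centralizer_iff]
    intro w hw
    obtain ⟨i, rfl⟩ := mem_zpowers_iff.1 hy
    obtain ⟨j, rfl⟩ := mem_zpowers_iff.1 hw
    rw [← zpow_add, ← zpow_add, add_comm]
  have hcomp := MonoidHom.ker_transferSylow_isComplement' P hNc
  obtain ⟨K, hK⟩ : ∃ K, K = (MonoidHom.transferSylow P hNc).ker := ⟨_, rfl⟩
  have hKn : K.Normal := by rw [hK]; infer_instance
  rw [← hK] at hcomp
  have hKc : Nat.card K = 40 := by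
    have h1 := hcomp.card_mul_card
    rw [hPx, Nat.card_zpowers, hx, hXc] at h1
    omega
  have hsX : Group.IsSolvable (H ⧸ Z) := by
    refine (Group.isSolvable_iff_subgroup_quotient K).2 ⟨?_, ?_⟩
    · exact S0144.result 2 5 3 1 Nat.prime_two (by norm_num) (by rw [hKc]; norm_num)
    · refine S0144.result 3 2 1 0 h3p Nat.prime_two ?_
      have h1 := Subgroup.card_eq_card_quotient_mul_card_subgroup K
      rw [hKc, hXc] at h1
      omega
  refine (Group.isSolvable_iff_subgroup_quotient Z).2 ⟨?_, hsX⟩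
  exact S0144.result 2 3 1 0 Nat.prime_two h3p (by rw [hZc]; norm_num)

/-- the Sylow 2-subgroup -/
theorem card_two {H : Type*} [Group H] [Finite H] (hns : ¬ Group.IsSolvable H)
    (huniq : ∀ u v : H, orderOf u = 2 → orderOf v = 2 → u = v) (h8 : HasOrd H 8) (h16 : ¬ HasOrd H 16)
    (T : Sylow 2 H) : Nat.card T = 16 := by
  have hf2 : Fact (Nat.Prime 2) := ⟨Nat.prime_two⟩
  obtain ⟨t, ht⟩ := h8
  -- not cyclic
  have hcyc : ¬ IsCyclic T := by
    intro hc
    apply hns
    have h2 : 2 ∣ Nat.card H := (by norm_num : 2 ∣ 8).trans (ht ▸ _root_.orderOf_dvd_natCard t)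
    have hmin : (Nat.card H).minFac = 2 := (Nat.minFac_eq_two_iff _).2 h2
    have hcomp := hc.isComplement' hmin
    obtain ⟨K, hK⟩ : ∃ K, K = (MonoidHom.transferSylow T (hc.normalizer_le_centralizer hmin)).ker := ⟨_, rfl⟩
    have hKn : K.Normal := by rw [hK]; infer_instance
    have hnd : ¬ 2 ∣ Nat.card K := by
      rw [hK]; exact MonoidHom.not_dvd_card_ker_transferSylow T (hc.normalizer_le_centralizer hmin)
    rw [← hK] at hcomp
    refine (Group.isSolvable_iff_subgroup_quotient K).2 ⟨?_, ?_⟩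
    · apply S0205.result
      rw [← Nat.not_even_iff_odd, even_iff_two_dvd]
      exact hnd
    · obtain ⟨k, hk⟩ := IsPGroup.iff_card.1 T.isPGroup'
      refine S0144.result 2 3 k 0 Nat.prime_two (by norm_num) ?_
      rw [pow_zero, mul_one, ← hk]
      exact hcomp.symm.index_eq_card
  -- an element of order 8 of `T`
  obtain ⟨a, ha⟩ : ∃ a : T, orderOf a = 8 := by
    have hZp : IsPGroup 2 (zpowers t) := IsPGroup.of_card (n := 3) (by rw [Nat.card_zpowers, ht]; norm_num)
    obtain ⟨P, hP⟩ := hZp.exists_le_sylow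
    obtain ⟨g, hg⟩ := MulAction.exists_smul_eq H P T
    have h1 : MulAut.conj g t ∈ (T : Subgroup H) := by
      rw [← hg, Sylow.coe_subgroup_smul]
      exact Subgroup.smul_mem_pointwise_smul t (MulAut.conj g) _ (hP (mem_zpowers t))
    refine ⟨⟨_, h1⟩, ?_⟩
    rw [Subgroup.orderOf_mk, MulEquiv.orderOf_eq, ht]
  have h1 := S0016.result 2 T.isPGroup' (fun A B hA hB => by
    have key : ∀ A : Subgroup T, Nat.card A = 2 → ∀ B : Subgroup T, Nat.card B = 2 → A ≤ B := by
      intro A hA B hB x hx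
      by_cases hx1 : x = 1
      · rw [hx1]; exact one_mem _
      obtain ⟨y, hy⟩ := exists_prime_orderOf_dvd_card' (G := B) 2 (by rw [hB])
      have hxo : orderOf x = 2 := by
        have h2 := _root_.orderOf_dvd_natCard (⟨x, hx⟩ : A)
        rw [hA, Subgroup.orderOf_mk] at h2
        rcases (Nat.dvd_prime Nat.prime_two).1 h2 with h3 | h3
        · exact absurd (orderOf_eq_one_iff.1 h3) hx1
        · exact h3
      have hyo : orderOf (y : T) = 2 := by rw [Subgroup.orderOf_coe, hy]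
      have h4 : x = (y : T) := Subtype.ext (huniq _ _ (by rw [Subgroup.orderOf_coe, hxo])
        (by rw [Subgroup.orderOf_coe, hyo]))
      rw [h4]; exact y.2
    exact le_antisymm (key A hA B hB) (key B hB A hA))
  rcases h1 with h1 | ⟨-, n, ⟨e⟩⟩
  · exact absurd h1 hcyc
  have hn0 : NeZero (2 ^ n) := ⟨by positivity⟩
  have hTc : Nat.card T = 4 * 2 ^ n := by
    rw [Nat.card_congr e.toEquiv, Nat.card_eq_fintype_card, QuaternionGroup.card]
  have h8T : 8 ∣ Nat.card T := ha ▸ _root_.orderOf_dvd_natCard a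
  have hn3 : n < 3 := by
    by_contra hn
    apply h16
    have h2 : HasOrd T (2 * 2 ^ n) := ⟨e.symm (QuaternionGroup.a 1), by
      rw [MulEquiv.orderOf_eq, QuaternionGroup.orderOf_a_one]⟩
    have h3 : 16 ∣ 2 * 2 ^ n := by
      obtain ⟨m, rfl⟩ : ∃ m, n = m + 3 := ⟨n - 3, by omega⟩
      exact ⟨2 ^ m, by ring⟩
    exact (h2.of_dvd h3).of_subgroup
  have hn : n = 0 ∨ n = 1 ∨ n = 2 := by omega
  rcases hn with rfl | rfl | rfl
  · rw [hTc] at h8T
    norm_num at h8T
  · exfalso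
    apply hcyc
    exact isCyclic_of_orderOf_eq_card a (by rw [ha, hTc]; norm_num)
  · rw [hTc]; norm_num

/-- **No normal abelian `r`-subgroups.** -/
theorem no_normal {G : Type u} [Group G] [Finite G] {r : ℕ} (h : Isolated G r) (hr : r.Prime) (hr5 : 5 < r)
    (hG : ¬ Group.IsSolvable G) (hpr : ∀ p : ℕ, p.Prime → p ∣ Nat.card G → p = 2 ∨ p = 3 ∨ p = 5 ∨ p = r)
    (h3 : 3 ∣ Nat.card G) (h5 : 5 ∣ Nat.card G) (h8 : HasOrd G 8) (h9 : ¬ HasOrd G 9) (h12 : ¬ HasOrd G 12)
    (h15 : ¬ HasOrd G 15) (h16 : ¬ HasOrd G 16) (h25 : ¬ HasOrd G 25)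
    {V : Subgroup G} [hVn : V.Normal] (hV : IsPGroup r V) (hV1 : V ≠ ⊥)
    (hab : ∀ a ∈ V, ∀ b ∈ V, a * b = b * a) : False := by
  have hfr : Fact r.Prime := ⟨hr⟩
  have hf2 : Fact (Nat.Prime 2) := ⟨Nat.prime_two⟩
  have hr2 : r ≠ 2 := by omega
  have h2 : 2 ∣ Nat.card G := by
    obtain ⟨g, hg⟩ := h8
    exact (by norm_num : 2 ∣ 8).trans (hg ▸ _root_.orderOf_dvd_natCard g)
  obtain ⟨t, ht⟩ := exists_prime_orderOf_dvd_card' 2 h2
  have hC := isPGroup_centralizer h hr hV hV1
  -- involutions invert `V`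
  have hinv : ∀ t : G, orderOf t = 2 → ∀ v ∈ V, t * v * t⁻¹ = v⁻¹ := by
    intro t ht v hv
    have hfix : ∀ v ∈ V, Commute t v → v = 1 := by
      intro v hv hc
      by_contra hv1
      obtain ⟨k, hk⟩ := (IsPGroup.iff_orderOf.mp hV) ⟨v, hv⟩
      have hk' : orderOf v = r ^ k := by rw [← hk, ← Subgroup.orderOf_coe]
      have := eq_one_of_commute (G := G) (p := 2) (s := r) Nat.prime_two hr (Ne.symm hr2)
        ((h 2 Nat.prime_two (Ne.symm hr2)).symm) ⟨1, by rw [ht, pow_one]⟩ ⟨k, hk'⟩ hc hv1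
      rw [this, orderOf_one] at ht
      omega
    have htt : t * t = 1 := by
      have := pow_orderOf_eq_one t
      rwa [ht, sq] at this
    have hti : t⁻¹ = t := inv_eq_of_mul_eq_one_left htt
    have hv' : t * v * t⁻¹ ∈ V := hVn.conj_mem v hv t
    have h1 : Commute t (v * (t * v * t⁻¹)) := by
      show t * (v * (t * v * t⁻¹)) = v * (t * v * t⁻¹) * t
      rw [hab v hv _ hv']
      calc t * (t * v * t⁻¹ * v) = (t * t) * v * t⁻¹ * v := by group
        _ = v * t⁻¹ * v := by rw [htt]; group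
        _ = v * t * v := by rw [hti]
        _ = v * t * v * t⁻¹ * t := by group
        _ = (v * (t * v * t⁻¹)) * t := by group
        _ = ((t * v * t⁻¹) * v) * t := by rw [hab v hv _ hv']
    have h2 := hfix _ (V.mul_mem hv hv') h1
    exact eq_inv_of_mul_eq_one_right h2
  obtain ⟨C, hCe⟩ : ∃ C, C = centralizer (V : Set G) := ⟨_, rfl⟩
  have hCn : C.Normal := by rw [hCe]; infer_instance
  rw [← hCe] at hC
  have hord : ∀ g : G, (orderOf g).Coprime r → orderOf (g : G ⧸ C) = orderOf g := by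
    intro g hg
    obtain ⟨c, hc⟩ := IsPGroup.iff_card.1 hC
    have h1 : (orderOf g).Coprime (Nat.card (QuotientGroup.mk' C).ker) := by
      rw [QuotientGroup.ker_mk', hc]
      exact Nat.Coprime.pow_right c hg
    exact orderOf_map_eq (QuotientGroup.mk' C) h1
  have hcomm : ∀ y : G, Commute (t : G ⧸ C) (y : G ⧸ C) := by
    intro y
    show (t : G ⧸ C) * (y : G ⧸ C) = (y : G ⧸ C) * (t : G ⧸ C)
    rw [← QuotientGroup.mk_mul, ← QuotientGroup.mk_mul, QuotientGroup.eq, hCe,
      mem_centralizer_iff]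
    intro v hv
    have hyv : y * v * y⁻¹ ∈ V := hVn.conj_mem v hv y
    have e1 : t * (y * v * y⁻¹) * t⁻¹ = y * (t * v * t⁻¹) * y⁻¹ := by
      rw [hinv t ht _ hyv, hinv t ht _ hv]
      group
    have e2 : (t * y) * v * (t * y)⁻¹ = (y * t) * v * (y * t)⁻¹ := by
      calc (t * y) * v * (t * y)⁻¹ = t * (y * v * y⁻¹) * t⁻¹ := by group
        _ = y * (t * v * t⁻¹) * y⁻¹ := e1
        _ = (y * t) * v * (y * t)⁻¹ := by group
    calc v * ((t * y)⁻¹ * (y * t)) = (t * y)⁻¹ * ((t * y) * v * (t * y)⁻¹) * (y * t) := by group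
      _ = (t * y)⁻¹ * ((y * t) * v * (y * t)⁻¹) * (y * t) := by rw [e2]
      _ = (t * y)⁻¹ * (y * t) * v := by group
  have hcop2 : Nat.Coprime 2 r := (Nat.coprime_primes Nat.prime_two hr).2 hr2.symm
  have ht' : orderOf (t : G ⧸ C) = 2 := by rw [hord t (by rw [ht]; exact hcop2), ht]
  -- `r` does not divide the order of the quotient
  have hrH : ¬ r ∣ Nat.card (G ⧸ C) := by
    intro hd
    obtain ⟨y, hy⟩ := exists_prime_orderOf_dvd_card' (G := G ⧸ C) r hd
    obtain ⟨y, rfl⟩ := QuotientGroup.mk'_surjective C y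
    have h4 : HasOrd (G ⧸ C) (2 * r) := hasOrd_mul (hcomm y) ht' hy hcop2
    have h5 := h4.of_surjective (QuotientGroup.mk' C) (QuotientGroup.mk'_surjective C)
    exact (isolated_iff.1 h) 2 Nat.prime_two hr2.symm (by rwa [mul_comm] at h5)
  have hcop : ∀ g : G, (g : G ⧸ C) ≠ 1 → (orderOf g).Coprime r := by
    intro g hg
    rw [Nat.coprime_comm, Nat.Prime.coprime_iff_not_dvd hr]
    intro hd
    obtain ⟨k, hk⟩ := exists_pow_orderOf hd
    obtain ⟨j, hj⟩ := orderOf_of_commute h hr hk (Commute.pow_left (Commute.refl g) k)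
    have h1 : orderOf (g : G ⧸ C) ∣ r ^ j := hj ▸ orderOf_map_dvd (QuotientGroup.mk' C) g
    obtain ⟨i, hi, hi'⟩ := (Nat.dvd_prime_pow hr).1 h1
    rcases Nat.eq_zero_or_pos i with rfl | hi0
    · rw [pow_zero, orderOf_eq_one_iff] at hi'
      exact hg hi'
    · apply hrH
      exact (dvd_pow_self r hi0.ne').trans (hi' ▸ _root_.orderOf_dvd_natCard _)
  have hHG : ∀ n, n ≠ 1 → HasOrd (G ⧸ C) n → HasOrd G n := by
    rintro n hn ⟨x, hx⟩
    obtain ⟨y, rfl⟩ := QuotientGroup.mk'_surjective C x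
    have hne : (y : G ⧸ C) ≠ 1 := by
      intro h1
      apply hn
      rw [← hx]
      exact orderOf_eq_one_iff.2 h1
    exact ⟨y, by rw [← hord y (hcop y hne)]; exact hx⟩
  -- unique involution
  have huniq : ∀ u : G ⧸ C, orderOf u = 2 → u = (t : G ⧸ C) := by
    intro u hu
    obtain ⟨y, rfl⟩ := QuotientGroup.mk'_surjective C u
    have hne : (y : G ⧸ C) ≠ 1 := by
      intro h1
      have h4 : orderOf ((QuotientGroup.mk' C) y) = 1 := orderOf_eq_one_iff.2 h1
      omega
    have hyo : orderOf y = 2 := by rw [← hord y (hcop y hne)]; exact hu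
    show (y : G ⧸ C) = t
    rw [QuotientGroup.eq, hCe, mem_centralizer_iff]
    intro v hv
    have e1 := hinv y hyo v hv
    have e2 := hinv t ht v hv
    calc v * (y⁻¹ * t) = y⁻¹ * (y * v * y⁻¹) * t := by group
      _ = y⁻¹ * (t * v * t⁻¹) * t := by rw [e1, e2]
      _ = y⁻¹ * t * v := by group
  have hns : ¬ Group.IsSolvable (G ⧸ C) := by
    intro hs
    apply hG
    have : Group.IsNilpotent C := hC.isNilpotent
    exact (Group.isSolvable_iff_subgroup_quotient C).2 ⟨inferInstance, hs⟩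
  have hGH : Nat.card G = Nat.card (G ⧸ C) * Nat.card C := Subgroup.card_eq_card_quotient_mul_card_subgroup C
  have hCcop : ∀ p : ℕ, p.Prime → p ≠ r → ¬ p ∣ Nat.card C := by
    intro p hp hpr hd
    obtain ⟨c, hc⟩ := IsPGroup.iff_card.1 hC
    rw [hc] at hd
    exact hpr ((Nat.prime_dvd_prime_iff_eq hp hr).1 (hp.dvd_of_dvd_pow hd))
  -- the 2-part
  have h8H : HasOrd (G ⧸ C) 8 := by
    obtain ⟨g, hg⟩ := h8
    refine ⟨(g : G ⧸ C), ?_⟩
    rw [hord g, hg]
    rw [hg]
    exact (Nat.Coprime.pow_left 3 hcop2 : (2 ^ 3).Coprime r)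
  obtain ⟨T⟩ : Nonempty (Sylow 2 (G ⧸ C)) := inferInstance
  have hT := card_two hns (fun u v hu hv => (huniq u hu).trans (huniq v hv).symm) h8H
    (fun h1 => h16 (hHG 16 (by norm_num) h1)) T
  have h16H : 16 ∣ Nat.card (G ⧸ C) := by
    rw [← hT]; exact card_subgroup_dvd_card (T : Subgroup (G ⧸ C))
  have h32H : ¬ 32 ∣ Nat.card (G ⧸ C) := by
    intro hd
    have h1 := T.card_eq_multiplicity
    rw [hT] at h1
    have h4 : (Nat.card (G ⧸ C)).factorization 2 = 4 := by
      have h5 : (2 : ℕ) ^ (Nat.card (G ⧸ C)).factorization 2 = 2 ^ 4 := by rw [← h1]; norm_num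
      exact Nat.pow_right_injective (le_refl 2) h5
    have h6 := (Nat.prime_two.pow_dvd_iff_le_factorization (Nat.card_pos (α := G ⧸ C)).ne' (k := 5)).1 hd
    omega
  -- the odd part
  have hodd : ∀ p : ℕ, p.Prime → p ≠ r → ¬ HasOrd G (p * p) → ¬ p * p ∣ Nat.card (G ⧸ C) := by
    intro p hp hpr hpp hd
    have hfp : Fact p.Prime := ⟨hp⟩
    obtain ⟨P⟩ : Nonempty (Sylow p G) := inferInstance
    have h1 : Nat.card P ∣ p := card_of_fpf h hr hp hpr hpp hV hV1 hVn hab P.isPGroup'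
    have h4 : p ^ 2 ∣ Nat.card G := by
      rw [hGH, pow_two]
      exact hd.mul_right _
    have h5 := P.pow_dvd_card_of_pow_dvd_card h4
    have h6 : p ^ 2 ∣ p ^ 1 := by rw [pow_one]; exact h5.trans h1
    have h7 := (Nat.pow_dvd_pow_iff_le_right hp.one_lt).1 h6
    omega
  have h3H : 3 ∣ Nat.card (G ⧸ C) := by
    rw [hGH] at h3
    exact ((by norm_num : Nat.Prime 3).dvd_mul.1 h3).resolve_right (hCcop 3 (by norm_num) (by omega))
  have h5H : 5 ∣ Nat.card (G ⧸ C) := by
    rw [hGH] at h5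
    exact ((by norm_num : Nat.Prime 5).dvd_mul.1 h5).resolve_right (hCcop 5 (by norm_num) (by omega))
  have hcard : Nat.card (G ⧸ C) = 240 := by
    obtain ⟨m, hm⟩ : 240 ∣ Nat.card (G ⧸ C) := by (clear * - h16H h32H h3H h5H; omega)
    by_cases hm1 : m = 1
    · rw [hm, hm1]
    exfalso
    obtain ⟨q, hq, k, rfl⟩ := Nat.exists_prime_and_dvd hm1
    have hqH : q ∣ Nat.card (G ⧸ C) := by rw [hm]; exact ⟨240 * k, by ring⟩
    rcases hpr q hq (by rw [hGH]; exact hqH.mul_right _) with rfl | rfl | rfl | rfl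
    · exact h32H ⟨15 * k, by rw [hm]; ring⟩
    · exact hodd 3 hq (by (clear * - hr5 hCn; omega)) h9 ⟨80 * k, by rw [hm]; ring⟩
    · exact hodd 5 hq (by (clear * - hr5 hCn; omega)) h25 ⟨48 * k, by rw [hm]; ring⟩
    · exact hrH hqH
  exact hns (solvable_240 hcard ht' (fun y => by
    obtain ⟨y, rfl⟩ := QuotientGroup.mk'_surjective C y
    exact hcomm y) huniq (fun h1 => h12 (hHG 12 (by norm_num) h1)) (fun h1 => h15 (hHG 15 (by norm_num) h1)))

end Cfsg.Agent.H893.Rec
end

-- part: H893/Rec/RedTwo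
section
/-!
# Recognition by spectrum: the reduction without a "good" prime (helper893)

`main'` : the reduction of helper455 for an isolated prime not dividing the order of the solvable radical;
`exists_red'` : the reduced situation, if `r` is isolated and divides the order of no solvable normal subgroup.
-/

set_option autoImplicit false
set_option linter.unusedSectionVars false

namespace Cfsg.Agent.H893.Rec

open Subgroup
open scoped commutatorElement
open Cfsg.Agent.H58.Rec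
open Cfsg.Agent.H455.Isolated
open Cfsg.Agent.H363.Frat (NonAdj)

universe u

variable {G : Type u} [Group G] [Finite G] {r : ℕ}

/-- **Reduction for one isolated prime.** -/
theorem main' {K : Subgroup G} [K.Normal] (hKs : Group.IsSolvable K)
    (hKmax : ∀ N : Subgroup G, N.Normal → Group.IsSolvable N → N ≤ K)
    (h : Isolated G r) (hr : r.Prime) (hrG : r ∣ Nat.card G) (hrK : ¬ r ∣ Nat.card K) :
    Group.IsNilpotent K ∧
      ∃ M : Subgroup (G ⧸ K), M.Normal ∧ IsSimpleGroup M ∧ ¬ IsMulCommutative M ∧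
        r ∣ Nat.card M ∧ centralizer (M : Set (G ⧸ K)) = ⊥ ∧
        ∀ N : Subgroup (G ⧸ K), N.Normal → N ≠ ⊥ → M ≤ N := by
  have hfr : Fact r.Prime := ⟨hr⟩
  refine ⟨isNilpotent_of_normal h hr hrG K hrK, ?_⟩
  have hQ := h.quotient K
  have hrQ : r ∣ Nat.card (G ⧸ K) := by
    have h1 := Subgroup.card_eq_card_quotient_mul_card_subgroup K
    rw [h1] at hrG
    exact (hr.dvd_mul.mp hrG).resolve_right hrK
  have hsol : ∀ N : Subgroup (G ⧸ K), N.Normal → Group.IsSolvable N → N = ⊥ := fun N hNn hN =>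
    eq_bot_of_isSolvable hKs hKmax N hN
  -- every nontrivial normal subgroup has order divisible by `r` and another prime
  have hdvd : ∀ N : Subgroup (G ⧸ K), N.Normal → N ≠ ⊥ → r ∣ Nat.card N := by
    intro N hNn hN1
    by_contra hcon
    apply hN1
    have := isNilpotent_of_normal hQ hr hrQ N hcon
    exact hsol N hNn inferInstance
  have hdvd' : ∀ N : Subgroup (G ⧸ K), N.Normal → N ≠ ⊥ →
      ∃ s : ℕ, s.Prime ∧ s ≠ r ∧ s ∣ Nat.card N := by
    intro N hNn hN1
    by_contra hcon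
    push Not at hcon
    apply hN1
    have h1 : Nat.card N = r ^ (Nat.card N).primeFactorsList.length := by
      apply Nat.eq_prime_pow_of_unique_prime_dvd Nat.card_pos.ne'
      intro s hs hsN
      by_contra hsr
      exact hcon s hs hsr hsN
    have h2 : IsPGroup r N := IsPGroup.of_card h1
    have h3 : Group.IsNilpotent N := h2.isNilpotent
    exact hsol N hNn inferInstance
  -- two of them do not commute
  have hnc : ∀ M N : Subgroup (G ⧸ K), M.Normal → N.Normal → M ≠ ⊥ → N ≠ ⊥ →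
      ¬ ∀ x ∈ M, ∀ z ∈ N, x * z = z * x := by
    intro M N hM hN hM1 hN1 hc
    obtain ⟨s, hs, hsr, hsN⟩ := hdvd' N hN hN1
    have hfs : Fact s.Prime := ⟨hs⟩
    obtain ⟨⟨x, hxM⟩, hx⟩ := exists_prime_orderOf_dvd_card' r (hdvd M hM hM1)
    obtain ⟨⟨z, hzN⟩, hz⟩ := exists_prime_orderOf_dvd_card' s hsN
    have hx' : orderOf x = r := by rw [← hx, ← Subgroup.orderOf_coe]
    have hz' : orderOf z = s := by rw [← hz, ← Subgroup.orderOf_coe]
    have h1 := eq_one_of_commute' hQ hr hx' (show Commute x z from hc x hxM z hzN) (by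
      rw [hz']
      intro hd
      exact hsr ((Nat.prime_dvd_prime_iff_eq hr hs).mp hd).symm)
    rw [h1, orderOf_one] at hz'
    exact hs.one_lt.ne hz'
  have hnt : (⊤ : Subgroup (G ⧸ K)) ≠ ⊥ := by
    intro h1
    have h3 : Nat.card (G ⧸ K) = 1 := by
      rw [← Subgroup.card_top, h1, Subgroup.card_bot]
    rw [h3] at hrQ
    exact hr.one_lt.ne' (Nat.dvd_one.mp hrQ)
  obtain ⟨M, -, hM1, hMn, hMmin⟩ := Cfsg.Agent.Lib.MinNormal.exists_minimal_normal_le
    (⊤ : Subgroup (G ⧸ K)) hnt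
  have hMnorm : M.Normal := normalizer_eq_top_iff.mp (top_le_iff.mp hMn)
  have hMmin' : ∀ L : Subgroup (G ⧸ K), L.Normal → L ≤ M → L = ⊥ ∨ L = M := fun L hL hLM =>
    hMmin L hLM (by rw [normalizer_eq_top_iff.mpr hL])
  have hMns : ¬ Group.IsSolvable M := fun hs => hM1 (hsol M hMnorm hs)
  have hMna : ¬ IsMulCommutative M := by
    intro hc
    apply hMns
    exact Group.isSolvable_of_comm (fun a b => hc.is_comm.comm a b)
  refine ⟨M, hMnorm, ?_, hMna, hdvd M hMnorm hM1, ?_, ?_⟩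
  · -- simplicity
    obtain ⟨T, m, _, hT, hm, ⟨e⟩⟩ := Cfsg.Agent.Lib.MinNormal.exists_mulEquiv_pi M hM1 hMmin'
    have hT := hT
    rcases Nat.lt_or_ge m 2 with hm2 | hm2
    · have hm1 : m = 1 := by omega
      subst hm1
      exact (e.trans (MulEquiv.funUnique (Fin 1) T)).isSimpleGroup
    · exfalso
      have hTfin : Finite T := by
        have : Finite (Fin m → T) := Finite.of_equiv M e.toEquiv
        exact Finite.of_injective (fun t : T => (fun _ : Fin m => t)) (fun a b hab =>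
          congrFun hab ⟨0, by omega⟩)
      have hcard : Nat.card M = Nat.card T ^ m := by
        rw [Nat.card_congr e.toEquiv, Nat.card_fun]
        simp only [_root_.Nat.card_eq_fintype_card, _root_.Fintype.card_fin]
      have hrT : r ∣ Nat.card T := by
        have := hdvd M hMnorm hM1
        rw [hcard] at this
        exact hr.dvd_of_dvd_pow this
      obtain ⟨s, hs, hsr, hsM⟩ := hdvd' M hMnorm hM1
      rw [hcard] at hsM
      have hsT := hs.dvd_of_dvd_pow hsM
      have hfs : Fact s.Prime := ⟨hs⟩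
      obtain ⟨a, ha⟩ := exists_prime_orderOf_dvd_card' r hrT
      obtain ⟨b, hb⟩ := exists_prime_orderOf_dvd_card' s hsT
      let i : Fin m := ⟨0, by omega⟩
      let j : Fin m := ⟨1, by omega⟩
      have hij : i ≠ j := by
        intro hij
        have := congrArg Fin.val hij
        simp [i, j] at this
      have hord : ∀ (k : Fin m) (t : T), orderOf (Pi.mulSingle k t : Fin m → T) = orderOf t := by
        intro k t
        exact orderOf_injective (MonoidHom.mulSingle (fun _ : Fin m => T) k)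
          (Pi.mulSingle_injective (M := fun _ : Fin m => T) k) t
      have hc : Commute (Pi.mulSingle i a : Fin m → T) (Pi.mulSingle j b : Fin m → T) :=
        Pi.mulSingle_commute (f := fun _ : Fin m => T) hij a b
      have hQ' : Isolated (Fin m → T) r :=
        hQ.of_injective (M.subtype.comp e.symm.toMonoidHom)
          (M.subtype_injective.comp e.symm.injective)
      have h1 := eq_one_of_commute' hQ' hr ((hord i a).trans ha) hc (by
        rw [hord, hb]
        intro hd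
        exact hsr ((Nat.prime_dvd_prime_iff_eq hr hs).mp hd).symm)
      have h2 : orderOf (Pi.mulSingle j b : Fin m → T) = 1 := by rw [h1, orderOf_one]
      rw [hord, hb] at h2
      exact hs.one_lt.ne' h2
  · by_contra hcon
    exact hnc M (centralizer (M : Set (G ⧸ K))) hMnorm inferInstance hM1 hcon
      (fun x hx z hz => mem_centralizer_iff.mp hz x hx)
  · intro N hN hN1
    have h1 : M ⊓ N ≠ ⊥ := by
      intro h1
      apply hnc M N hMnorm hN hM1 hN1
      intro x hx z hz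
      have h3 : ⁅x, z⁆ ∈ M ⊓ N := by
        refine ⟨?_, ?_⟩
        · show x * z * x⁻¹ * z⁻¹ ∈ M
          have : x * z * x⁻¹ * z⁻¹ = x * (z * x⁻¹ * z⁻¹) := by group
          rw [this]
          exact M.mul_mem hx (hMnorm.conj_mem _ (M.inv_mem hx) z)
        · show x * z * x⁻¹ * z⁻¹ ∈ N
          exact N.mul_mem (hN.conj_mem z hz x) (N.inv_mem hz)
      rw [h1, mem_bot, commutatorElement_eq_one_iff_mul_comm] at h3
      exact h3
    rcases hMmin' (M ⊓ N) inferInstance inf_le_left with h3 | h3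
    · exact absurd h3 h1
    · rw [← h3]
      exact inf_le_right


/-- **The reduction.** -/
theorem exists_red' (hr : r.Prime) (hrG : r ∣ Nat.card G) (h : Isolated G r)
    (hno : ∀ K : Subgroup G, K.Normal → Group.IsSolvable K → ¬ r ∣ Nat.card K) :
    ∃ (X : Type u) (_ : Group X) (_ : Finite X) (π : G →* X) (S : Subgroup X), Red π S r := by
  obtain ⟨K, hKn, hKs, hKmax⟩ :=
    Cfsg.Agent.SignalizersComponents.ComponentExists.exists_solvableRadical G
  have hKn' : K.Normal := inferInstance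
  have hrK := hno K hKn' hKs
  obtain ⟨hKnil, S, hSn, hSs, hSna, hrS, hSc, hSmin⟩ := main' hKs hKmax h hr hrG hrK
  exact ⟨G ⧸ K, inferInstance, inferInstance, QuotientGroup.mk' K, S, QuotientGroup.mk'_surjective K,
    by rw [QuotientGroup.ker_mk']; exact hKnil, hSn, hSs, hSna, hSc, hSmin, hr, hrS,
    by rw [QuotientGroup.ker_mk']; exact hrK, h⟩

end Cfsg.Agent.H893.Rec
end

-- part: H541/RecM11
section
/-!
# S3484, the row `M₁₁`: recognition by the set of element orders (helper541)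
-/

set_option autoImplicit false

namespace Cfsg.Agent.H541.RecM11

open Subgroup Cfsg Cfsg.Agent.H58.Rec Cfsg.Agent.OrdDiv Cfsg.Agent.H455.Isolated

universe u v

variable {M : Type v} [Group M]

theorem ord_mem (hM : Spor.IsoM11 M) {n : ℕ} (h : HasOrd M n) : n ∈ [1, 2, 3, 4, 5, 6, 8, 11] := by
  obtain ⟨g, rfl⟩ := h
  exact Cfsg.Agent.H180.KM11.orders hM g

theorem card_eq (hM : Spor.IsoM11 M) : Nat.card M = 7920 := (Cfsg.Agent.Cit.Eleven.isM11 hM).2

theorem iso_five (hM : Spor.IsoM11 M) : Isolated M 5 := by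
  rw [isolated_iff]
  intro s hs _ h
  have h1 := ord_mem hM h
  have h2 := hs.two_le
  simp only [List.mem_cons, List.not_mem_nil, or_false] at h1
  omega

theorem iso_eleven (hM : Spor.IsoM11 M) : Isolated M 11 := by
  rw [isolated_iff]
  intro s hs _ h
  have h1 := ord_mem hM h
  have h2 := hs.two_le
  simp only [List.mem_cons, List.not_mem_nil, or_false] at h1
  omega

theorem good_five [Finite M] (hM : Spor.IsoM11 M) : _root_.Cfsg.Agent.H58.Rec.Good M 5 :=
  good_of_two (by norm_num) (by norm_num) (by rw [card_eq hM]; norm_num) (iso_five hM) (s := 11) (by norm_num)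
    (by norm_num) (by rw [card_eq hM]; norm_num) (iso_eleven hM) (by norm_num)

theorem good_eleven [Finite M] (hM : Spor.IsoM11 M) : _root_.Cfsg.Agent.H58.Rec.Good M 11 :=
  good_of_two (by norm_num) (by norm_num) (by rw [card_eq hM]; norm_num) (iso_eleven hM) (s := 5) (by norm_num)
    (by norm_num) (by rw [card_eq hM]; norm_num) (iso_five hM) (by norm_num)

/-- **The row `M₁₁`.** -/
theorem rec_m11 (hN : NameHyp.{u}) {G : Type u} [Group G] [Finite G] {M : Type v} [Group M] [Finite M]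
    (hM : Spor.IsoM11 M) (h : Same G M) : Nonempty (G ≃* M) := by
  have hno : ∀ n, n ∉ [1, 2, 3, 4, 5, 6, 8, 11] → ¬ HasOrd G n := fun n hn hg => hn (ord_mem hM ((h n).1 hg))
  have hG5 := (good_five hM).of_same h
  have hG11 := (good_eleven hM).of_same h
  have hcard := card_eq hM
  have hsol : ¬ Group.IsSolvable G :=
    not_solvable_of_same h (r := 2) (s := 5) (t := 11) (by norm_num) (by norm_num) (by norm_num) (by norm_num)
      (by norm_num) (by norm_num) (by rw [hcard]; norm_num) (by rw [hcard]; norm_num) (by rw [hcard]; norm_num)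
      (fun h1 => absurd (ord_mem hM h1) (by decide)) (fun h1 => absurd (ord_mem hM h1) (by decide))
      (fun h1 => absurd (ord_mem hM h1) (by decide))
  have h2 : 2 ∣ Nat.card G := (dvd_of_same h Nat.prime_two).2 (by rw [hcard]; norm_num)
  obtain ⟨X, _, _, π, S, hR⟩ := exists_red hsol h2 hG5
  have h5 := hR 5 hG5
  have h11 := hR 11 hG11
  have := h11.normal
  have := h11.simple
  -- the primes
  have hpr : ∀ p : ℕ, p.Prime → p ∣ Nat.card G → p ∈ [2, 3, 5, 11] := by
    intro p hp hpG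
    have h3 := ord_mem hM ((h p).1 ((hasOrd_prime hp).2 hpG))
    simp only [List.mem_cons, List.not_mem_nil, or_false] at h3 ⊢
    rcases h3 with h4 | h4 | h4 | h4 | h4 | h4 | h4 | h4
    · exact absurd (h4 ▸ hp) (by norm_num)
    · exact Or.inl h4
    · exact Or.inr (Or.inl h4)
    · exact absurd (h4 ▸ hp) (by norm_num)
    · exact Or.inr (Or.inr (Or.inl h4))
    · exact absurd (h4 ▸ hp) (by norm_num)
    · exact absurd (h4 ▸ hp) (by norm_num)
    · exact Or.inr (Or.inr (Or.inr h4))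
  have hprS : ∀ p : ℕ, p.Prime → p ∣ Nat.card S → p ∈ [2, 3, 5, 11] := by
    intro p hp hpS
    exact hpr p hp ((hasOrd_prime hp).1 (h11.hasOrd' ((hasOrd_prime hp).2 hpS)))
  -- the name
  obtain ⟨g, hg⟩ := hN S h11.nonab
  have hmem : g ∈ lst [2, 3, 5, 11] [5, 11] 11 7 :=
    mem_lst hg (by norm_num) (by decide) (by norm_num) (by decide) hprS (by
      intro r hr
      simp only [List.mem_cons, List.not_mem_nil, or_false] at hr
      rcases hr with rfl | rfl
      · exact h5.dvd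
      · exact h11.dvd)
  have hlst : ∀ g ∈ lst [2, 3, 5, 11] [5, 11] 11 7, g = .m11 ∨ g = .m12 ∨ g = .psu 5 2 ∨ g = .psl 2 11 := by
    decide +kernel
  -- `11` is isolated in `S`
  have hiS : Isolated S 11 := by
    rw [isolated_iff]
    intro s hs hs11 h3
    exact (isolated_iff.1 hG11.iso) s hs hs11 (h11.hasOrd' h3)
  -- the kernel
  have hker : HasFrob S 11 5 → ∀ p : ℕ, p.Prime → p ∣ Nat.card G → ¬ p ∣ Nat.card π.ker := by
    intro hF p hp hpG
    have h3 := hpr p hp hpG
    simp only [List.mem_cons, List.not_mem_nil, or_false] at h3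
    rcases h3 with rfl | rfl | rfl | rfl
    · exact h11.kill' hp (by norm_num) (by norm_num) hF (hno _ (by decide))
    · exact h11.kill' hp (by norm_num) (by norm_num) hF (hno _ (by decide))
    · exact h11.kill' hp (by norm_num) (by norm_num) hF (hno _ (by decide))
    · exact h11.not_dvd
  rcases hlst g hmem with rfl | rfl | rfl | rfl
  · -- `M₁₁`
    have hreal : Spor.IsoM11 S := hg.real
    have hF : HasFrob S 11 5 := hasFrob_of_isolated (by norm_num) (card_eq hreal) hiS (by norm_num) (by norm_num)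
      (by norm_num) (by decide)
    obtain ⟨e1⟩ := hreal
    obtain ⟨e2⟩ := hM
    refine finish h11 (hker hF) (e1.trans e2.symm) (Or.inl ?_)
    rw [Cfsg.Agent.H548.Crit.card_out_congr e2]
    exact Cfsg.Agent.S2060.result
  · -- `M₁₂`
    obtain ⟨e⟩ : Nonempty (S ≃* Spor.M12) := hg.real
    obtain ⟨x, hx⟩ := Cfsg.Agent.H251.Small.ten_M12
    exact absurd (h11.hasOrd' (HasOrd.congr ⟨x, hx⟩ e.symm)) (hno _ (by decide))
  · -- `U₅(2)`
    obtain ⟨F, _, _, hF, ⟨e⟩⟩ : ∃ (F : Type) (_ : Field F) (_ : Fintype F), Fintype.card F = 2 ^ 2 ∧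
      Nonempty (S ≃* PSU 5 F 2) := hg.real
    obtain ⟨x, hx⟩ := Cfsg.Agent.H541.RecU52.exists_fifteen hF
    exact absurd (h11.hasOrd' (HasOrd.congr ⟨x, hx⟩ e.symm)) (hno _ (by decide))
  · -- `L₂(11)`
    obtain ⟨F, _, _, hF, ⟨e⟩⟩ : ∃ (F : Type) (_ : Field F) (_ : Fintype F), Fintype.card F = 11 ∧
      Nonempty (S ≃* Matrix.ProjectiveSpecialLinearGroup (Fin 2) F) := hg.real
    exfalso
    have hc : Nat.card S = 660 := by
      rw [hg.ord]
      decide +kernel
    have hFr : HasFrob S 11 5 := hasFrob_of_isolated (by norm_num) hc hiS (by norm_num) (by norm_num)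
      (by norm_num) (by decide)
    have hinj := injective_of (hker hFr)
    have hfp : Fact (Nat.Prime 11) := ⟨by norm_num⟩
    have hchar : CharP F 11 := by
      have h3 : ringChar F = 11 := by
        obtain ⟨n, hp, hn⟩ := FiniteField.card F (ringChar F)
        rw [hF] at hn
        have h4 : ringChar F ∣ 11 := hn ▸ dvd_pow_self _ n.ne_zero
        rcases (Nat.dvd_prime (by norm_num)).1 h4 with h5 | h5
        · rw [h5] at hp
          exact absurd hp (by norm_num)
        · exact h5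
      rw [← h3]
      infer_instance
    -- an element of order 8
    have hM8 : HasOrd M 8 := Cfsg.Agent.H180.KM11.exists_eight hM
    obtain ⟨y, hy⟩ := (h 8).2 hM8
    have hy' : orderOf (π y) = 8 := by rw [orderOf_injective π hinj, hy]
    -- its square lies in `S`
    have hidx : S.index ∣ 2 := by
      have h3 := index_dvd_out S h11.cent
      rw [Cfsg.Agent.H548.Crit.card_out_congr e, Cfsg.Agent.H270.Crit.LTwo.card_out (p := 11) (f := 1) le_rfl
        (by rw [hF]; norm_num) (by norm_num)] at h3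
      exact h3
    have hsq : (π y) ^ 2 ∈ S := by
      rw [← QuotientGroup.eq_one_iff]
      have h3 : ((π y : X) : X ⧸ S) ^ Nat.card (X ⧸ S) = 1 := pow_card_eq_one'
      have h4 : Nat.card (X ⧸ S) ∣ 2 := hidx
      obtain ⟨k, hk⟩ := h4
      rw [QuotientGroup.mk_pow, hk, pow_mul, h3, one_pow]
    have h4 : orderOf (⟨(π y) ^ 2, hsq⟩ : S) = 4 := by
      rw [Subgroup.orderOf_mk, orderOf_pow, hy']
      decide
    have h5 : orderOf (e ⟨(π y) ^ 2, hsq⟩) = 4 := by rw [MulEquiv.orderOf_eq, h4]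
    have h6 := Cfsg.Agent.ClassicalGeometry.PSL2ElemOrder.orderOf_dvd hF 11 (e ⟨(π y) ^ 2, hsq⟩)
      (by rw [h5]; norm_num)
    rw [h5] at h6
    revert h6
    decide

end Cfsg.Agent.H541.RecM11
end

-- part: H893/Rec/RowM12
section
/-!
# S3484, the row `M₁₂`: recognition by the set of element orders (helper893, helper844)
-/

set_option autoImplicit false
set_option linter.unusedSectionVars false

namespace Cfsg.Agent.H893.Rec

open Subgroup Cfsg
open Cfsg.Agent.H58.Rec Cfsg.Agent.OrdDiv Cfsg.Agent.H455.Isolated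

universe u v

/-- **The row `M₁₂`.** -/
theorem rec_m12 (hN : NameHyp.{u}) {G : Type u} [Group G] [Finite G] {M : Type v} [Group M] [Finite M]
    (hM : Spor.IsoM12 M) (h : Same G M) : Nonempty (G ≃* M) := by
  have hno : ∀ n, n ∉ [1, 2, 3, 4, 5, 6, 8, 10, 11] → ¬ HasOrd G n := fun n hn hg => hn (ord_mem hM ((h n).1 hg))
  have hcard : Nat.card M = 95040 := NotCT.Orders.m12 hM
  have h11p : Nat.Prime 11 := by norm_num
  have hMiso : Isolated M 11 := by
    rw [isolated_iff]
    intro s hs _ h1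
    have h2 := ord_mem hM h1
    have h3 := hs.two_le
    simp only [List.mem_cons, List.not_mem_nil, or_false] at h2
    omega
  have hGiso : Isolated G 11 := isolated_of_same h hMiso
  have hsol : ¬ Group.IsSolvable G :=
    not_solvable_of_same h (r := 3) (s := 5) (t := 11) (by norm_num) (by norm_num) (by norm_num) (by norm_num)
      (by norm_num) (by norm_num) (by rw [hcard]; norm_num) (by rw [hcard]; norm_num) (by rw [hcard]; norm_num)
      (fun h1 => absurd (ord_mem hM h1) (by decide)) (fun h1 => absurd (ord_mem hM h1) (by decide))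
      (fun h1 => absurd (ord_mem hM h1) (by decide))
  have hdvd : ∀ p : ℕ, p.Prime → p ∣ 95040 → p ∣ Nat.card G := fun p hp hd =>
    (dvd_of_same h hp).2 (by rw [hcard]; exact hd)
  -- the primes
  have hpr : ∀ p : ℕ, p.Prime → p ∣ Nat.card G → p ∈ [2, 3, 5, 11] := by
    intro p hp hpG
    have h3 := ord_mem hM ((h p).1 ((hasOrd_prime hp).2 hpG))
    simp only [List.mem_cons, List.not_mem_nil, or_false] at h3 ⊢
    rcases h3 with h4 | h4 | h4 | h4 | h4 | h4 | h4 | h4 | h4
    · exact absurd (h4 ▸ hp) (by norm_num)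
    · exact Or.inl h4
    · exact Or.inr (Or.inl h4)
    · exact absurd (h4 ▸ hp) (by norm_num)
    · exact Or.inr (Or.inr (Or.inl h4))
    · exact absurd (h4 ▸ hp) (by norm_num)
    · exact absurd (h4 ▸ hp) (by norm_num)
    · exact absurd (h4 ▸ hp) (by norm_num)
    · exact Or.inr (Or.inr (Or.inr h4))
  have h8 : HasOrd G 8 := by
    obtain ⟨T, c, -, -, -, hc, -⟩ := hasFrob_m12 hM
    exact (h 8).2 ⟨c, hc⟩
  have h10 : HasOrd G 10 := by
    obtain ⟨e⟩ := hM
    obtain ⟨x, hx⟩ := Cfsg.Agent.H251.Small.ten_M12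
    exact (h 10).2 (HasOrd.congr ⟨x, hx⟩ e.symm)
  -- the reduction
  obtain ⟨X, _, _, π, S, hR⟩ := exists_red' h11p (hdvd 11 h11p (by norm_num)) hGiso (by
    intro K hKn hKs hrK
    obtain ⟨V, hVn, hVp, hV1, hVab⟩ := exists_normal_of_dvd hGiso h11p hsol K hKs hrK
    exact no_normal hGiso h11p (by norm_num) hsol (fun p hp hd => by
        have h1 := hpr p hp hd
        simpa only [List.mem_cons, List.not_mem_nil, or_false] using h1)
      (hdvd 3 (by norm_num) (by norm_num)) (hdvd 5 (by norm_num) (by norm_num)) h8 (hno 9 (by decide))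
      (hno 12 (by decide)) (hno 15 (by decide)) (hno 16 (by decide)) (hno 25 (by decide)) hVp hV1 hVab)
  have := hR.normal
  have := hR.simple
  have hprS : ∀ p : ℕ, p.Prime → p ∣ Nat.card S → p ∈ [2, 3, 5, 11] := by
    intro p hp hpS
    exact hpr p hp ((hasOrd_prime hp).1 (hR.hasOrd' ((hasOrd_prime hp).2 hpS)))
  -- the name
  obtain ⟨g, hg⟩ := hN S hR.nonab
  have hmem : g ∈ lst [2, 3, 5, 11] [11] 11 7 :=
    mem_lst hg (by norm_num) (by decide) (by norm_num) (by decide) hprS (by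
      intro r hr
      simp only [List.mem_cons, List.not_mem_nil, or_false] at hr
      rw [hr]
      exact hR.dvd)
  have hlst : ∀ g ∈ lst [2, 3, 5, 11] [11] 11 7, g = .m11 ∨ g = .m12 ∨ g = .psu 5 2 ∨ g = .psl 2 11 := by
    decide +kernel
  have hiS : Isolated S 11 := by
    rw [isolated_iff]
    intro s hs hs11 h3
    exact (isolated_iff.1 hGiso) s hs hs11 (hR.hasOrd' h3)
  -- the kernel
  have hker0 : HasFrob S 11 5 → ∀ p : ℕ, p.Prime → p ∣ Nat.card G → p ≠ 2 → ¬ p ∣ Nat.card π.ker := by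
    intro hF p hp hpG hp2
    have h3 := hpr p hp hpG
    simp only [List.mem_cons, List.not_mem_nil, or_false] at h3
    rcases h3 with rfl | rfl | rfl | rfl
    · exact absurd rfl hp2
    · exact hR.kill' hp h11p (by norm_num) hF (hno _ (by decide))
    · exact hR.kill' hp h11p (by norm_num) hF (hno _ (by decide))
    · exact hR.not_dvd
  have hker : HasFrob S 11 5 → HasFrob S 3 8 → ∀ p : ℕ, p.Prime → p ∣ Nat.card G → ¬ p ∣ Nat.card π.ker := by
    intro hF hF2 p hp hpG
    by_cases hp2 : p = 2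
    · subst hp2
      exact hR.kill' hp (by norm_num) (by norm_num) hF2 (hno _ (by decide))
    · exact hker0 hF p hp hpG hp2
  rcases hlst g hmem with rfl | rfl | rfl | rfl
  · -- `M₁₁`
    exfalso
    have hreal : Spor.IsoM11 S := hg.real
    have hF : HasFrob S 11 5 := hasFrob_of_isolated (by norm_num) (Cfsg.Agent.H541.RecM11.card_eq hreal) hiS
      (by norm_num) (by norm_num) (by norm_num) (by decide)
    obtain ⟨e1⟩ := hreal
    obtain ⟨e⟩ := finish hR (hker hF (hasFrob_m11 ⟨e1⟩)) e1 (Or.inl Cfsg.Agent.S2060.result)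
    exact absurd (Cfsg.Agent.H541.RecM11.ord_mem ⟨e⟩ h10) (by decide)
  · -- `M₁₂`
    have hreal : Spor.IsoM12 S := hg.real
    have hF : HasFrob S 11 5 := hasFrob_of_isolated (by norm_num) (NotCT.Orders.m12 hreal) hiS
      (by norm_num) (by norm_num) (by norm_num) (by decide)
    have hF2 := hasFrob_m12 hreal
    obtain ⟨e1⟩ := hreal
    obtain ⟨e2⟩ := hM
    refine finish hR (hker hF hF2) (e1.trans e2.symm) (Or.inr ⟨?_, ?_⟩)
    · rw [Cfsg.Agent.H548.Crit.card_out_congr e2]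
      exact Cfsg.Agent.S2061.result
    · intro _ hidx _ hXG
      exact hno 12 (by decide) (hXG 12 (Cfsg.Agent.H844.Rec.absurd_m12 S hR.cent hidx e1))
  · -- `U₅(2)`
    obtain ⟨F, _, _, hF, ⟨e⟩⟩ : ∃ (F : Type) (_ : Field F) (_ : Fintype F), Fintype.card F = 2 ^ 2 ∧
      Nonempty (S ≃* PSU 5 F 2) := hg.real
    obtain ⟨x, hx⟩ := Cfsg.Agent.H541.RecU52.exists_fifteen hF
    exact absurd (hR.hasOrd' (HasOrd.congr ⟨x, hx⟩ e.symm)) (hno _ (by decide))
  · -- `L₂(11)`
    obtain ⟨F, _, _, hF, ⟨e⟩⟩ : ∃ (F : Type) (_ : Field F) (_ : Fintype F), Fintype.card F = 11 ∧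
      Nonempty (S ≃* Matrix.ProjectiveSpecialLinearGroup (Fin 2) F) := hg.real
    exfalso
    have hc : Nat.card S = 660 := by
      rw [hg.ord]
      decide +kernel
    have hFr : HasFrob S 11 5 := hasFrob_of_isolated (by norm_num) hc hiS (by norm_num) (by norm_num)
      (by norm_num) (by decide)
    have hfp : Fact (Nat.Prime 11) := ⟨h11p⟩
    have e' : S ≃* Cfsg.Agent.H844.Rec.PSL11 :=
      e.trans (Cfsg.Agent.SporadicA.FieldFour.pslCongr (FiniteField.ringEquivOfCardEq (hF.trans (ZMod.card 11).symm)))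
    -- the kernel is a 2-group
    have hk2 : IsPGroup 2 π.ker := by
      have h2 : Nat.card π.ker = 2 ^ (Nat.card π.ker).primeFactorsList.length := by
        apply Nat.eq_prime_pow_of_unique_prime_dvd Nat.card_pos.ne'
        intro s hs hsk
        by_contra hs2
        exact hker0 hFr s hs (hsk.trans (card_subgroup_dvd_card _)) hs2 hsk
      exact IsPGroup.of_card h2
    have hidx : S.index ∣ 2 := by
      have h3 := index_dvd_out S hR.cent
      rw [Cfsg.Agent.H548.Crit.card_out_congr e, Cfsg.Agent.H270.Crit.LTwo.card_out (p := 11) (f := 1) le_rfl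
        (by rw [hF]; norm_num) (by norm_num)] at h3
      exact h3
    rcases (Nat.dvd_prime Nat.prime_two).1 hidx with h1 | h1
    · rw [index_eq_one] at h1
      have e2 : X ≃* S := (topEquiv (G := X)).symm.trans (MulEquiv.subgroupCongr h1.symm)
      exact Cfsg.Agent.H844.Rec.kill_psl π hR.surj hk2 (e2.trans e') (hno 12 (by decide)) (hno 20 (by decide))
        (hno 22 (by decide)) h8
    · exact hno 12 (by decide) (hR.hasOrd (Cfsg.Agent.H844.Rec.absurd_pgl S hR.cent h1 e'))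

end Cfsg.Agent.H893.Rec
end

-- part: H16/Rec/McLEven
section
/-!
# Recognition by spectrum: even element orders of `McL` and of `McL.2` (helper16)

* `orders_alt_eight` : the element orders of `A₈` are 1, ..., 7, 15;
* `hasOrd_two_mul` : in a group of type `MT 8` an element of order `2 k` gives an element of order `k` of `A₈`;
* `outer_twentyfour` : a group `X` with a normal subgroup `S ≅ McL` of index 2, `C_X(S) = 1`, has an element of order 24.
-/

set_option autoImplicit false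

namespace Cfsg.Agent.H16.Rec

open Subgroup Equiv Cfsg Cfsg.Agent.H58.Rec Cfsg.Agent.SporRec.TwoAn Cfsg.Agent.TypeM Cfsg.Agent.TypeM.FactsAut
open Cfsg.Agent.TypeM.Two (MT)

universe u v

/-! ### Element orders of `A₈` -/

/-- lists of integers at least 2 with sum at most `n` (`f` bounds the length) -/
def enum : ℕ → ℕ → List (List ℕ)
  | 0, _ => [[]]
  | f + 1, n => [] :: ((List.range (n + 1)).filter fun a => Nat.ble 2 a).flatMap fun a => (enum f (n - a)).map (a :: ·)

theorem mem_enum : ∀ (f n : ℕ) (l : List ℕ), l.length ≤ f → l.sum ≤ n → (∀ a ∈ l, 2 ≤ a) → l ∈ enum f n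
  | 0, n, l, h, _, _ => by
    have : l = [] := List.length_eq_zero_iff.1 (Nat.le_zero.1 h)
    rw [this, enum]
    exact List.mem_singleton.2 rfl
  | f + 1, n, [], _, _, _ => by rw [enum]; exact List.mem_cons_self
  | f + 1, n, a :: l, h, hs, h2 => by
    rw [List.sum_cons] at hs
    rw [List.length_cons] at h
    rw [enum]
    refine List.mem_cons_of_mem _ (List.mem_flatMap.2 ⟨a, ?_, List.mem_map.2 ⟨l, ?_, rfl⟩⟩)
    · rw [List.mem_filter]
      exact ⟨List.mem_range.2 (by omega), by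
        rw [Nat.ble_eq]; exact h2 a List.mem_cons_self⟩
    · exact mem_enum f (n - a) l (by omega) (by omega) fun b hb => h2 b (List.mem_cons_of_mem _ hb)

/-- the test -/
def chk8 (l : List ℕ) : Bool :=
  !(Nat.beq ((l.sum + l.length) % 2) 0) || [1, 2, 3, 4, 5, 6, 7, 15].contains (l.foldr Nat.lcm 1)

theorem all8 : (enum 4 8).all chk8 = true := by decide +kernel

theorem orders_alt_eight {σ : Perm (Fin 8)} (hσ : σ ∈ alternatingGroup (Fin 8)) :
    orderOf σ ∈ [1, 2, 3, 4, 5, 6, 7, 15] := by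
  have hl : (σ.cycleType.toList : Multiset ℕ) = σ.cycleType := Multiset.coe_toList _
  set l := σ.cycleType.toList with hld
  have hsum : l.sum ≤ 8 := by
    have h1 : σ.cycleType.sum ≤ 8 := by
      rw [Perm.sum_cycleType]
      have := Finset.card_le_univ σ.support
      rwa [Fintype.card_fin] at this
    rw [← hl, Multiset.sum_coe] at h1
    exact h1
  have h2 : ∀ a ∈ l, 2 ≤ a := by
    intro a ha
    have h3 : a ∈ σ.cycleType := by rw [← hl]; exact ha
    exact Perm.two_le_of_mem_cycleType h3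
  have hlen : l.length ≤ 4 := by
    have h3 : 2 * l.length ≤ l.sum := by
      have := List.card_nsmul_le_sum l 2 h2
      rw [smul_eq_mul] at this
      omega
    omega
  have h4 := List.all_eq_true.1 all8 l (mem_enum 4 8 l hlen hsum h2)
  have h5 : (l.sum + l.length) % 2 = 0 := by
    have h6 := Perm.mem_alternatingGroup.1 hσ
    rw [Perm.sign_of_cycleType, ← hl, Multiset.sum_coe, Multiset.coe_card] at h6
    by_contra h7
    have h8 : Odd (l.sum + l.length) := Nat.odd_iff.2 (by omega)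
    rw [h8.neg_one_pow] at h6
    exact absurd h6 (by decide)
  have h6 : orderOf σ = l.foldr Nat.lcm 1 := by
    rw [← Perm.lcm_cycleType, ← hl]
    rfl
  rw [h6]
  unfold chk8 at h4
  rw [Bool.or_eq_true] at h4
  rcases h4 with h4 | h4
  · rw [h5] at h4
    exact absurd h4 (by decide)
  · exact List.contains_iff_mem.1 h4

/-! ### Elements of even order -/

section MT

variable {M : Type*} [Group M]

/-- elements of even order -/
theorem hasOrd_two_mul {n : ℕ} (L : MT n M) {k : ℕ} (hk : 0 < k) (h : HasOrd M (2 * k)) :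
    ∃ σ ∈ alternatingGroup (Fin n), orderOf σ = k := by
  obtain ⟨g, hg⟩ := h
  have h1 : g ^ k * g ^ k = 1 := by
    rw [← pow_add, ← two_mul, ← hg, pow_orderOf_eq_one]
  have h2 : g ^ k ≠ 1 := by
    intro h3
    have h4 := Nat.le_of_dvd hk (orderOf_dvd_of_pow_eq_one h3)
    omega
  obtain ⟨x, hx⟩ := L.one _ h1 h2
  -- `y = x⁻¹ g x` has `y ^ k = t`
  set y := x⁻¹ * g * x with hy
  have hyk : ∀ m : ℕ, y ^ m = x⁻¹ * g ^ m * x := by
    intro m
    have := conj_pow (i := m) (a := x⁻¹) (b := g)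
    rw [inv_inv] at this
    exact this
  have h3 : y ^ k = L.t := by
    rw [hyk, ← hx]; group
  have h4 : y * L.t = L.t * y := by
    rw [← h3, ← pow_succ, ← pow_succ']
  have h5 : orderOf y = 2 * k := by
    rw [← hg, hy]
    have := (MulAut.conj x⁻¹).orderOf_eq g
    rw [← this]
    congr 1
    rw [MulAut.conj_apply, inv_inv]
  let c : centralizer ({L.t} : Set M) := ⟨y, mem_centralizer_singleton_iff.2 h4⟩
  have hc : ∀ m, L.K.π c ^ m = 1 ↔ k ∣ m := by
    intro m
    rw [← map_pow, L.K.ker]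
    have h6 : (c ^ m = 1 ∨ c ^ m = L.K.z) ↔ (y ^ m = 1 ∨ y ^ m = L.t) := by
      rw [Subtype.ext_iff, Subtype.ext_iff, L.hz]
      rfl
    rw [h6]
    constructor
    · rintro (h7 | h7)
      · have h8 := orderOf_dvd_of_pow_eq_one h7
        rw [h5] at h8
        exact (dvd_mul_left k 2).trans h8
      · have h8 : y ^ (2 * m) = 1 := by
          rw [mul_comm, pow_mul, h7, pow_two, L.t_mul_t]
        have h9 := orderOf_dvd_of_pow_eq_one h8
        rw [h5] at h9
        exact Nat.dvd_of_mul_dvd_mul_left two_pos h9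
    · rintro ⟨j, rfl⟩
      rw [pow_mul, h3]
      rcases Nat.even_or_odd' j with ⟨i, rfl | rfl⟩
      · left
        rw [pow_mul, pow_two, L.t_mul_t, one_pow]
      · right
        rw [pow_succ, pow_mul, pow_two, L.t_mul_t, one_pow, one_mul]
  refine ⟨L.K.π c, L.K.mem_alternating c, ?_⟩
  apply Nat.dvd_antisymm
  · exact orderOf_dvd_of_pow_eq_one ((hc k).2 dvd_rfl)
  · exact (hc _).1 (pow_orderOf_eq_one _)

theorem not_hasOrd_even (L : MT 8 M) {k : ℕ} (hk : 0 < k) (hn : k ∉ [1, 2, 3, 4, 5, 6, 7, 15]) :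
    ¬ HasOrd M (2 * k) := by
  intro h
  obtain ⟨σ, hσ, h1⟩ := hasOrd_two_mul L hk h
  apply hn
  rw [← h1]
  exact orders_alt_eight hσ

end MT

/-! ### The outer elements -/

/-- the odd permutation `(0 1 2 3) (4 5 6)` -/
def tau : Perm (Fin 8) := c[0, 1, 2, 3] * c[4, 5, 6]

theorem sign_tau : Perm.sign tau = -1 := by decide +kernel
theorem tau_three : (tau * tau) ^ 3 * (tau * tau) ^ 3 = 1 := by decide +kernel
theorem tau_supp : ((tau * tau) ^ 3).support.card = 4 := by decide +kernel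
theorem tau_four : (tau * tau) ^ 4 ≠ 1 := by decide +kernel

theorem outer_twentyfour {X : Type u} [Group X] [Finite X] (S : Subgroup X) [hSn : S.Normal] (hidx : S.index = 2)
    (hC : centralizer (S : Set X) = ⊥) (hS : Spor.IsoMcL S) : HasOrd X 24 := by
  obtain ⟨-, -, hcard, ⟨L⟩⟩ := FactsMcL.facts hS
  have hG : Gen L := gen L (Or.inl ⟨rfl, hcard⟩)
  obtain ⟨x, hx⟩ : ∃ x : X, x ∉ S := by
    by_contra hno
    push Not at hno
    have : S = ⊤ := eq_top_iff.2 fun x _ => hno x
    rw [this, index_top] at hidx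
    omega
  let φ : X →* MulAut S := MulAut.conjNormal (H := S)
  have hφ : ∀ (x : X) (s : S), ((φ x s : S) : X) = x * s * x⁻¹ := fun x s => MulAut.conjNormal_apply x s
  have hφS : ∀ s : S, φ (s : X) = MulAut.conj s := by
    intro s
    ext y
    rw [hφ, MulAut.conj_apply]
    rfl
  -- outer elements are not inner
  have hout : ∀ x : X, x ∉ S → ∀ g : S, φ x ≠ MulAut.conj g := by
    intro x hx g hg
    apply hx
    have h1 : (g : X)⁻¹ * x ∈ centralizer (S : Set X) := by
      rw [mem_centralizer_iff]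
      intro y hy
      have h2 := congrArg (fun f : MulAut S => ((f ⟨y, hy⟩ : S) : X)) hg
      simp only [hφ, MulAut.conj_apply, Subgroup.coe_mul, InvMemClass.coe_inv] at h2
      calc y * ((g : X)⁻¹ * x) = (g : X)⁻¹ * ((g : X) * y * (g : X)⁻¹) * x := by group
        _ = (g : X)⁻¹ * (x * y * x⁻¹) * x := by rw [h2]
        _ = (g : X)⁻¹ * x * y := by group
    rw [hC, mem_bot] at h1
    have h2 : (g : X) = x := inv_mul_eq_one.1 h1
    rw [← h2]
    exact g.2
  -- an outer element commuting with `t`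
  obtain ⟨a, ha⟩ := exists_conj_fix L (φ x)
  obtain ⟨x1, hx1, ht1⟩ : ∃ x1 : X, x1 ∉ S ∧ φ x1 L.t = L.t := by
    refine ⟨a * x, fun h => hx ?_, ?_⟩
    · have : x = (a : X)⁻¹ * (a * x) := by group
      rw [this]
      exact S.mul_mem (S.inv_mem a.2) h
    · rw [map_mul, hφS]
      exact ha
  obtain ⟨σ, hσ⟩ := exists_sigma L (by norm_num) ht1
  have hs := sign_eq L (Or.inl rfl) hG (hout x1 hx1) ht1 hσ
  -- correct the permutation
  have hev : tau * σ⁻¹ ∈ alternatingGroup (Fin 8) := by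
    rw [Perm.mem_alternatingGroup, Perm.sign_mul, Perm.sign_inv, hs, sign_tau]
    decide
  obtain ⟨c, hc⟩ := L.K.exists_lift hev
  have hct : (c : S) * L.t = L.t * c := L.mem_iff.1 c.2
  have ht2 : φ ((c : S) * x1 : X) L.t = L.t := by
    rw [map_mul, hφS, MulAut.mul_apply, ht1, MulAut.conj_apply, hct, mul_inv_cancel_right]
  have hx2 : ((c : S) * x1 : X) ∉ S := by
    intro h
    apply hx1
    have : x1 = ((c : S) : X)⁻¹ * ((c : S) * x1) := by group
    rw [this]
    exact S.mul_mem (S.inv_mem (c : S).2) h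
  have hσ2 : ∀ g, L.K.π (resAut L.t (φ ((c : S) * x1 : X)) ht2 g) = tau * L.K.π g * tau⁻¹ := by
    intro g
    have h1 : resAut L.t (φ ((c : S) * x1 : X)) ht2 g = c * resAut L.t (φ x1) ht1 g * c⁻¹ := by
      apply Subtype.ext
      rw [resAut_coe, map_mul, hφS, MulAut.mul_apply, MulAut.conj_apply]
      rfl
    rw [h1, map_mul, map_mul, map_inv, hσ, hc]
    group
  set x2 : X := (c : S) * x1 with hx2d
  -- the square
  have hsq : x2 * x2 ∈ S := by
    have := S.mul_self_mem_of_index_two hidx x2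
    exact this
  set y : S := ⟨x2 * x2, hsq⟩ with hy
  have hφy : MulAut.conj y = φ x2 * φ x2 := by
    rw [← map_mul, ← hφS y]
  have hyt : y * L.t = L.t * y := by
    have h1 : MulAut.conj y L.t = L.t := by rw [hφy, MulAut.mul_apply, ht2, ht2]
    rw [MulAut.conj_apply] at h1
    exact mul_inv_eq_iff_eq_mul.1 h1
  let y' : centralizer ({L.t} : Set S) := ⟨y, L.mem_iff.2 hyt⟩
  have hπ : L.K.π y' = tau * tau := by
    refine Cfsg.Agent.TypeM.CoverAut.perm_unique L.K (by norm_num) (e := MulAut.conj y') ?_ ?_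
    · intro g
      rw [MulAut.conj_apply, map_mul, map_mul, map_inv]
    · intro g
      have h1 : MulAut.conj y' g = resAut L.t (φ x2) ht2 (resAut L.t (φ x2) ht2 g) := by
        apply Subtype.ext
        rw [resAut_coe, resAut_coe]
        have h2 := congrArg (fun f : MulAut S => f g) hφy
        exact h2
      rw [h1, hσ2, hσ2]
      group
  -- the order of `y`
  have h3 : L.K.π (y' ^ 3) * L.K.π (y' ^ 3) = 1 := by rw [map_pow, hπ]; exact tau_three
  have h3' : y' ^ 3 * y' ^ 3 = L.K.z := by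
    have h4 : L.K.π (y' ^ 3 * y' ^ 3) = 1 := by rw [map_mul, h3]
    rcases (L.K.ker _).1 h4 with h5 | h5
    · exfalso
      have h6 := (L.K.sq_eq_one_iff.1 h5).2
      rw [map_pow, hπ, tau_supp] at h6
      omega
    · exact h5
  have h6 : x2 ^ 12 = (L.t : S) := by
    have h7 : ((y' ^ 3 * y' ^ 3 : centralizer ({L.t} : Set S)) : S) = L.t := by rw [h3', L.hz]
    have h8 : (((y' ^ 3 * y' ^ 3 : centralizer ({L.t} : Set S)) : S) : X) = x2 ^ 12 := by
      show (x2 * x2) ^ 3 * (x2 * x2) ^ 3 = x2 ^ 12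
      rw [← pow_add, ← pow_two, ← pow_mul]
    rw [← h8, h7]
  have h8 : x2 ^ 8 ≠ 1 := by
    intro h9
    apply tau_four
    rw [← hπ, ← map_pow]
    have h10 : y' ^ 4 = 1 := by
      apply Subtype.ext
      apply Subtype.ext
      show (x2 * x2) ^ 4 = 1
      rw [← pow_two, ← pow_mul]
      exact h9
    rw [h10, map_one]
  refine ⟨x2, orderOf_eq_of_pow_and_pow_div_prime (by norm_num) ?_ ?_⟩
  · have : x2 ^ 24 = x2 ^ 12 * x2 ^ 12 := by rw [← pow_add]
    rw [this, h6]
    exact congrArg Subtype.val L.t_mul_t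
  · intro p hp hd
    have h1 : p = 2 ∨ p = 3 := by
      have h2 : p ∣ 2 ^ 3 * 3 := by simpa using hd
      rcases hp.dvd_mul.1 h2 with h3 | h3
      · exact Or.inl ((Nat.prime_dvd_prime_iff_eq hp Nat.prime_two).1 (hp.dvd_of_dvd_pow h3))
      · exact Or.inr ((Nat.prime_dvd_prime_iff_eq hp (by norm_num)).1 h3)
    rcases h1 with rfl | rfl
    · show x2 ^ 12 ≠ 1
      rw [h6]
      intro h9
      exact L.t_ne (Subtype.ext h9)
    · exact h8

end Cfsg.Agent.H16.Rec
end

-- part: H16/Rec/McLTab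
section
/-!
# Recognition by spectrum: `3^2:8` and an element of order 9 in `McL` (helper16)

* `hasFrob_three_eight` : a Frobenius group `3^2:8` from relations;
* `mcl_frob38`, `mcl_nine`.
-/

set_option autoImplicit false

namespace Cfsg.Agent.H16.Rec

open Subgroup Cfsg Cfsg.Agent.H58.Rec

/-- **`3^2:8`** : `c a c⁻¹ = b`, `c b c⁻¹ = a b`, `[a, b] = 1`, `a ^ 3 = 1`, `c ^ 8 = 1`. -/
theorem hasFrob_three_eight {X : Type*} [Group X] {a b c : X} (ha : a ^ 3 = 1) (ha1 : a ≠ 1) (hab : a * b = b * a)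
    (h1 : c * a = b * c) (h2 : c * b = a * b * c) (hc : c ^ 8 = 1) : HasFrob X 3 8 := by
  have hb : b ^ 3 = 1 := by
    have h3 : b = c * a * c⁻¹ := by rw [h1]; group
    rw [h3, conj_pow, ha]; group
  have hcomm : Commute a b := hab
  have hpw : ∀ i j : ℕ, (a ^ i * b ^ j) ^ 3 = 1 := by
    intro i j
    rw [(hcomm.pow_pow i j).mul_pow, ← pow_mul, ← pow_mul, mul_comm i, mul_comm j, pow_mul, pow_mul, ha, hb, one_pow,
      one_pow, mul_one]
  have hmul : ∀ i j k l : ℕ, (a ^ i * b ^ j) * (a ^ k * b ^ l) = a ^ (i + k) * b ^ (j + l) := by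
    intro i j k l
    rw [pow_add, pow_add]
    calc (a ^ i * b ^ j) * (a ^ k * b ^ l) = a ^ i * (b ^ j * a ^ k) * b ^ l := by simp only [mul_assoc]
      _ = a ^ i * (a ^ k * b ^ j) * b ^ l := by rw [(hcomm.pow_pow k j).eq]
      _ = _ := by simp only [mul_assoc]
  let T : Subgroup X :=
    { carrier := {x | ∃ i j : ℕ, x = a ^ i * b ^ j}
      one_mem' := ⟨0, 0, by simp⟩
      mul_mem' := by
        rintro _ _ ⟨i, j, rfl⟩ ⟨k, l, rfl⟩
        exact ⟨_, _, hmul i j k l⟩
      inv_mem' := by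
        rintro _ ⟨i, j, rfl⟩
        refine ⟨i + i, j + j, ?_⟩
        rw [inv_eq_iff_mul_eq_one, ← hmul, ← mul_assoc]
        have := hpw i j
        rwa [pow_succ, pow_two] at this }
  have hT : ∀ x, x ∈ T ↔ ∃ i j : ℕ, x = a ^ i * b ^ j := fun x => Iff.rfl
  -- conjugation by `c`
  have hca : ∀ i : ℕ, c * a ^ i * c⁻¹ = b ^ i := by
    intro i
    rw [← conj_pow, h1]; congr 1; group
  have hcb : ∀ i : ℕ, c * b ^ i * c⁻¹ = a ^ i * b ^ i := by
    intro i
    rw [← conj_pow, h2, ← hcomm.mul_pow]; congr 1; group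
  have hfwd : ∀ x ∈ T, c * x * c⁻¹ ∈ T := by
    rintro x ⟨i, j, rfl⟩
    refine ⟨j, i + j, ?_⟩
    calc c * (a ^ i * b ^ j) * c⁻¹ = (c * a ^ i * c⁻¹) * (c * b ^ j * c⁻¹) := by group
      _ = b ^ i * (a ^ j * b ^ j) := by rw [hca, hcb]
      _ = (a ^ 0 * b ^ i) * (a ^ j * b ^ j) := by simp
      _ = _ := by rw [hmul, zero_add]
  have hfw : ∀ (n : ℕ), ∀ x ∈ T, c ^ n * x * (c ^ n)⁻¹ ∈ T := by
    intro n
    induction n with
    | zero => intro x hx; simpa using hx
    | succ n ih =>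
      intro x hx
      have h3 : c ^ (n + 1) * x * (c ^ (n + 1))⁻¹ = c * (c ^ n * x * (c ^ n)⁻¹) * c⁻¹ := by
        rw [pow_succ']; group
      rw [h3]
      exact hfwd _ (ih x hx)
  have hc7 : c ^ 7 = c⁻¹ := by
    rw [eq_inv_iff_mul_eq_one, ← pow_succ]; exact hc
  -- the fourth power inverts
  have hcab : ∀ i j : ℕ, c * (a ^ i * b ^ j) * c⁻¹ = a ^ j * b ^ (i + j) := by
    intro i j
    calc c * (a ^ i * b ^ j) * c⁻¹ = (c * a ^ i * c⁻¹) * (c * b ^ j * c⁻¹) := by group
      _ = b ^ i * (a ^ j * b ^ j) := by rw [hca, hcb]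
      _ = (a ^ 0 * b ^ i) * (a ^ j * b ^ j) := by simp
      _ = _ := by rw [hmul, zero_add]
  have hinv : ∀ x ∈ T, c ^ 4 * x = x * x * c ^ 4 := by
    rintro x ⟨i, j, rfl⟩
    have e : c ^ 4 * (a ^ i * b ^ j) * (c ^ 4)⁻¹ =
        c * (c * (c * (c * (a ^ i * b ^ j) * c⁻¹) * c⁻¹) * c⁻¹) * c⁻¹ := by
      generalize a ^ i * b ^ j = w
      have e0 : c ^ 4 = c * c * c * c := by rw [pow_succ, pow_succ, pow_two]
      rw [e0]
      group
    rw [hcab, hcab, hcab, hcab] at e
    have e1 : a ^ (i + j + (j + (i + j))) = a ^ (i + i) := by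
      have : i + j + (j + (i + j)) = i + i + 3 * j := by ring
      rw [this, pow_add, pow_mul, ha, one_pow, mul_one]
    have e2 : b ^ (j + (i + j) + (i + j + (j + (i + j)))) = b ^ (j + j) := by
      have : j + (i + j) + (i + j + (j + (i + j))) = j + j + 3 * (i + j) := by ring
      rw [this, pow_add, pow_mul, hb, one_pow, mul_one]
    rw [e1, e2, ← hmul] at e
    exact mul_inv_eq_iff_eq_mul.1 e
  have h5 : c ^ 4 * a = a * a * c ^ 4 := hinv a ⟨1, 0, by simp⟩
  have hc4 : c ^ 4 ≠ 1 := by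
    intro h7
    rw [h7, one_mul, mul_one] at h5
    exact ha1 (mul_eq_left.1 h5.symm)
  have hord : orderOf c = 8 := by
    have : orderOf c = 2 ^ (2 + 1) := orderOf_eq_prime_pow (by simpa using hc4) (by simpa using hc)
    simpa using this
  refine ⟨T, c, ?_, ?_, ?_, hord, ?_⟩
  · rintro ⟨x, i, j, rfl⟩
    refine ⟨1, Subtype.ext ?_⟩
    rw [pow_one]
    exact hpw i j
  · intro h7
    have h8 : a ∈ T := ⟨1, 0, by simp⟩
    rw [h7, mem_bot] at h8
    exact ha1 h8
  · rw [mem_normalizer_iff]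
    intro x
    constructor
    · exact hfwd x
    · intro hx
      have h7 := hfw 7 _ hx
      rw [hc7] at h7
      have h8 : c⁻¹ * (c * x * c⁻¹) * c⁻¹⁻¹ = x := by group
      rwa [h8] at h7
  · intro j h0 hj x hx h7
    have h8 : Commute x (c ^ j) := h7
    have h9 : Commute x (c ^ 4) := by
      have e : ∃ m q, j * m = 4 + 8 * q := by
        interval_cases j
        · exact ⟨4, 0, rfl⟩
        · exact ⟨2, 0, rfl⟩
        · exact ⟨4, 1, rfl⟩
        · exact ⟨1, 0, rfl⟩
        · exact ⟨4, 2, rfl⟩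
        · exact ⟨2, 1, rfl⟩
        · exact ⟨4, 3, rfl⟩
      obtain ⟨m, q, hm⟩ := e
      have h10 := h8.pow_right m
      rwa [← pow_mul, hm, pow_add, pow_mul, hc, one_pow, mul_one] at h10
    have h10 := hinv x hx
    rw [← h9.eq] at h10
    have h11 := mul_right_cancel h10
    exact (mul_eq_left.1 h11.symm)

end Cfsg.Agent.H16.Rec

namespace Cfsg.Agent.H16.Rec.McLTab

open Cfsg.Agent.SporadicA.PermTab Cfsg.Agent.McLType.X275 Cfsg.Agent.McLType.Gens Cfsg.Agent.H904.McLCent Subgroup Equiv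
open Cfsg Cfsg.Agent.H58.Rec Cfsg.Agent.H16.Rec

universe u

/-- an element of order 8 -/
def t8 : ℕ := 0x378778a41ba34075909224288881051282447f84519437c4d0cf1a43a4500f11163a05e07a0661f0688421c01201b8a91f41c8030011da1240f90f18e1543103508e3c80a0412041dc738881e00f07e8b51002ac5e846022430620590da3e05f05704a2604f04a2222e41306e1ee1cc1410415c324318e11c42dc718ea1c80707b06c0523b06b83b118208668ee1840743a85d1ca2fc2b1081121c02209214e26c098391b8150550d901c080428cc200228540ce16c32c1c0341cc40c3a0ad20234c288fc18036c078790860880f09f162358518a12162e05307b1201608707109e3ec4382312e2b01f8fe1861f8260b00d4360798041323508390a10c0e82e0d520c0087a89314a2542906b12c2705a01a0620d8308c61760584180805405c3b06616612c0187d016274158600ce06c7c8071080f81902f18a0346407f0bc0602d03002a09c0802e0a6100478500d02342d80c1e80b00286505a138608ba0d20242f8af1021bc090b20f00900c86411c434050da07a13410800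
/-- an element of order 3 -/
def ta : ℕ := 0x2e87f0dd2223dc608c71d42103a0ee1c83cc318650624083b0b70f643c818c31b0354890ae0ce394260f41c22c0850ce1fe3a06d8b90e6380351081620b0600b80d22d88310b1be1743c8c914c0f81c0431122585189c00a07c4585c1340544409309c0104d8c817a2cc868b41021bc628f605e334861011643e4321070c21e02681811e2745605a11c140000e717e0b4610490543b4730d21f40cc718341ea2b45d8321b81dc0b83912009c238140820402a03018c12c6d0601060ac340be150064058f11a20a07e1052081f86586e1de3ac880e219e2f0358720f44245100f1521584a05504c160508d721c1983f8ec1001b08005e0482302b8370943c8380e91bc1f03103514e070098f81041f40d09f15e024438950902480103a1f617c660400762341e88a018084038161a02184881e0e23507e897156264068a507814c2884f1ac1d46504208a088220061482800e8011a62d41b0c405c3647806d052048088460b20805503f0100282d8851300380d82500608c2909e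
/-- its conjugate -/
def tb : ℕ := 0x1243187b20a1c0378680da19c8890c20c1dc3907c0bc4082e8760d420030037004348540c101e2d06c01119e0707b8bf1d231c480130502506e8bd1463000c0f31603b04d0141be2dc77888060040158231dc3b40f83400a2c40d0331c80bc000ba0620c85f0121ae214610e61a02b8548c400c2b4448de18c21c148e11782e41502c0162cc7d00102c314648d50400b47c0931a225c728e71483f0790ca1f63704781e19a2e0170da04e36c060351f201c700d6010364490cb16a2bc7409e1980d85d90e09a1ac2e0740ac1f8818620b02087f86420e15c398fe09e43c408840a01b02a0650f41e42d1080b2198370512124108084e0be1f4308710b6148851102001543f90b1061a43c10d0ea3f4298430701282083b07e0e42604708a108890400881181e84b0741201f03c144064750041862804609601c05c068f611c22c5b02614c3ac4e0241ea0884a815158094640a11a629c430a5132228558911c4074050981e2338550211643d00489d11a3c00d8d400627c7189b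
/-- an element of order 9 -/
def t9 : ℕ := 0x3fc550e31044100b9031204345c90f1c81686407e1ee270460651e41802a85f1302802a0ce1a63787d0590760883a9091944048806c16a3a46a08a1ea3d84183408a0cc1285217c3ac7d8ac124258458ed16c27c468011e2448850fd1c03081c89b01236c4d07017e2882887a1882ac4090c21c2508004f0b82a00880c168200430b30ac224830970a0394218ad0c41b8398ea18639c3090b20e444350ef0ee0103a030028334570dd0d2384810b01742985c0d809a18c2c02820a31c3207b11019c7f0e614e1283e8030140d8130991b41f04f00b08e0640d84b1f01e05d8f413a108508cb18a0f41388e0b61980901a1d83f009824152014478c61080707103216e1fc168f309c0f8188760bc060608cc01c3404a8a41a4244240790da1c46f9081620080f85d19e21c6a8bd1e00741d0461b208c1004410a14c200161dc2941e02e0420a41a82a192358208b21b801c7404c00c1ac6b82b06e15c3403f05e034688a315e2f0390100700b0040151263003784901e3e40f000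

theorem inAll' {L : List ℕ} (h : (L.all fun P => e7.contains P) = true) {S : ℕ} (hS : chkWord 275 S L = true) :
    InG K0 S := by
  refine InG.word (fun P hP => inAll P ?_) hS
  rw [List.all_eq_true] at h
  exact List.contains_iff_mem.1 (h P hP)

theorem in_t8 : InG K0 t8 := inAll' (L := [e_c, e_b, e_a]) (by decide +kernel) (by decide +kernel)

theorem in_ta : InG K0 ta := inAll' (L := [e_y, e_w, e_g, e_w, e_x, e_g, e_w, e_a, e_x, e_g, e_c, e_b, e_a, e_c, e_b, e_a, e_c,
  e_b, e_a, e_c, e_b, e_a, e_g, e_x, e_a, e_w, e_g, e_x, e_w, e_g, e_w, e_y, e_c, e_b, e_a, e_c, e_b, e_a, e_c, e_b, e_a,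
  e_c, e_b, e_a]) (by decide +kernel) (by decide +kernel)

theorem in_t9 : InG K0 t9 := inAll' (L := [e_g, e_x, e_g, e_w, e_a]) (by decide +kernel) (by decide +kernel)

theorem in_tb : InG K0 tb := by
  refine InG.word (L := [e_a, e_b, e_c, ta, e_c, e_b, e_a]) (fun P hP => ?_) (by decide +kernel)
  simp only [List.mem_cons, List.not_mem_nil, or_false] at hP
  rcases hP with rfl | rfl | rfl | rfl | rfl | rfl | rfl
  all_goals first
    | exact in_ta
    | exact inAll _ (by simp [e7])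

theorem rel_ab : allB (fun i => Nat.beq (lk ta (lk tb i)) (lk tb (lk ta i))) 275 = true := by decide +kernel
theorem rel_1 : allB (fun i => Nat.beq (lk t8 (lk ta i)) (lk tb (lk t8 i))) 275 = true := by decide +kernel
theorem rel_2 : allB (fun i => Nat.beq (lk t8 (lk tb i)) (lk ta (lk tb (lk t8 i)))) 275 = true := by decide +kernel
theorem rel_a : allB (fun i => Nat.beq ((lk ta)^[3] i) i) 275 = true := by decide +kernel
theorem rel_8 : allB (fun i => Nat.beq ((lk t8)^[8] i) i) 275 = true := by decide +kernel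
theorem rel_9 : allB (fun i => Nat.beq ((lk t9)^[9] i) i) 275 = true := by decide +kernel

variable {L : Type u} [Group L] {θ : L →* Perm (Fin 275)}

theorem frob_of_rep (R : _root_.Cfsg.Agent.H904.McLCent.Rep L θ) : HasFrob L 3 8 := by
  obtain ⟨a, ha⟩ := R.exists_of in_ta
  obtain ⟨b, hb⟩ := R.exists_of in_tb
  obtain ⟨c, hc⟩ := R.exists_of in_t8
  refine hasFrob_three_eight (a := a) (b := b) (c := c) ?_ ?_ ?_ ?_ ?_ ?_
  · apply R.inj
    rw [map_pow, map_one]
    refine Equiv.ext fun i => Fin.ext ?_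
    rw [pow_val ha, Perm.one_apply]
    exact Nat.eq_of_beq_eq_true ((allB_iff _ _).1 rel_a i i.2)
  · rintro rfl
    have h1 := ha 0
    rw [map_one, Perm.one_apply] at h1
    revert h1
    decide +kernel
  · apply R.inj
    refine Equiv.ext fun i => Fin.ext ?_
    rw [map_mul, map_mul, Perm.mul_apply, Perm.mul_apply, ha, hb, hb, ha]
    exact Nat.eq_of_beq_eq_true ((allB_iff _ _).1 rel_ab i i.2)
  · apply R.inj
    refine Equiv.ext fun i => Fin.ext ?_
    rw [map_mul, map_mul, Perm.mul_apply, Perm.mul_apply, hc, ha, hb, hc]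
    exact Nat.eq_of_beq_eq_true ((allB_iff _ _).1 rel_1 i i.2)
  · apply R.inj
    refine Equiv.ext fun i => Fin.ext ?_
    rw [map_mul, map_mul, map_mul, Perm.mul_apply, Perm.mul_apply, Perm.mul_apply, hc, hb, ha, hb, hc]
    exact Nat.eq_of_beq_eq_true ((allB_iff _ _).1 rel_2 i i.2)
  · apply R.inj
    rw [map_pow, map_one]
    refine Equiv.ext fun i => Fin.ext ?_
    rw [pow_val hc, Perm.one_apply]
    exact Nat.eq_of_beq_eq_true ((allB_iff _ _).1 rel_8 i i.2)

theorem nine_of_rep (R : _root_.Cfsg.Agent.H904.McLCent.Rep L θ) : HasOrd L 9 := by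
  obtain ⟨a, ha⟩ := R.exists_of in_t9
  refine ⟨a, ?_⟩
  have : Fact (Nat.Prime 3) := ⟨by norm_num⟩
  have h1 : orderOf a = 3 ^ (1 + 1) := by
    apply orderOf_eq_prime_pow
    · intro h2
      have h3 := pow_val ha 3 1
      have h4 : θ a ^ 3 = 1 := by rw [← map_pow]; rw [show (3 : ℕ) = 3 ^ 1 from rfl, h2, map_one]
      rw [h4, Perm.one_apply] at h3
      revert h3
      decide +kernel
    · apply R.inj
      rw [map_pow, map_one]
      refine Equiv.ext fun i => Fin.ext ?_
      rw [pow_val ha, Perm.one_apply]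
      exact Nat.eq_of_beq_eq_true ((allB_iff _ _).1 rel_9 i i.2)
  exact h1

theorem mcl_frob38 (h : Spor.IsoMcL L) : HasFrob L 3 8 := by
  obtain ⟨θ, R⟩ := exists_rep h
  exact frob_of_rep R

theorem mcl_nine (h : Spor.IsoMcL L) : HasOrd L 9 := by
  obtain ⟨θ, R⟩ := exists_rep h
  exact nine_of_rep R

end Cfsg.Agent.H16.Rec.McLTab
end

-- part: H16/Rec/FrobTS
section
/-!
# Recognition by spectrum: Frobenius groups `2^3:7` and some element orders (helper16)

* `hasFrob_two_seven` : the groups `2^3:7` of helper852 are Frobenius groups (`M22`, `M23`, `McL`, `HS`);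
* `hs_twenty` : `HS` has elements of order 20.
-/

set_option autoImplicit false

namespace Cfsg.Agent.H16.Rec

open Subgroup Cfsg Cfsg.Agent.H58.Rec

/-- a group of order 8 with a nontrivial action of an element of order 7 -/
theorem hasFrob_two_seven {X : Type*} [Group X] (h : Cfsg.Agent.H852.FrobElts.HasFrob X) : HasFrob X 2 7 := by
  classical
  obtain ⟨E, x, hE, h2, hx, h7, e, he, hne⟩ := h
  have hfin : Finite E := Nat.finite_of_card_ne_zero (by rw [hE]; norm_num)
  have h7' : Fact (Nat.Prime 7) := ⟨by norm_num⟩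
  -- the powers of `x` normalize `E`
  have hxj : ∀ (j : ℕ), ∀ a ∈ E, x ^ j * a * (x ^ j)⁻¹ ∈ E := by
    intro j
    induction j with
    | zero => intro a ha; simpa using ha
    | succ j ih =>
      intro a ha
      have h3 := hx _ (ih a ha)
      have h4 : x ^ (j + 1) * a * (x ^ (j + 1))⁻¹ = x * (x ^ j * a * (x ^ j)⁻¹) * x⁻¹ := by
        rw [pow_succ']; group
      rw [h4]
      exact h3
  -- a power of `x` commuting with an element
  have hcomm : ∀ j : ℕ, 0 < j → j < 7 → ∀ a : X, a * x ^ j = x ^ j * a → a * x = x * a := by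
    intro j h0 hj a ha
    have h3 : Commute a (x ^ j) := ha
    have h4 : (orderOf x).Coprime j := by
      rw [h7]
      exact (Nat.Prime.coprime_iff_not_dvd (by norm_num)).2 (fun h => by
        have := Nat.le_of_dvd h0 h; omega)
    obtain ⟨m, hm⟩ := exists_pow_eq_self_of_coprime (x := x) (n := j) h4.symm
    have h5 := h3.pow_right m
    rw [hm] at h5
    exact h5
  have he1 : e ≠ 1 := by
    rintro rfl
    exact hne (by rw [mul_one, one_mul])
  -- the orbit of `e`
  let f : Fin 7 → {z : E // z ≠ 1} := fun j =>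
    ⟨⟨x ^ (j : ℕ) * e * (x ^ (j : ℕ))⁻¹, hxj j e he⟩, by
      intro h
      exact he1 (conj_eq_one_iff.1 (congrArg Subtype.val h))⟩
  have hfz : Fintype {z : E // z ≠ 1} := Fintype.ofFinite _
  have hinj : Function.Injective f := by
    have key : ∀ i j : Fin 7, (i : ℕ) < j → f i ≠ f j := by
      intro i j hij h
      have h1 : x ^ (i : ℕ) * e * (x ^ (i : ℕ))⁻¹ = x ^ (j : ℕ) * e * (x ^ (j : ℕ))⁻¹ :=
        congrArg (fun z : {z : E // z ≠ 1} => ((z : E) : X)) h
      apply hne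
      refine (hcomm ((j : ℕ) - i) (by omega) (by have := j.2; omega) e ?_).symm
      have h2 : x ^ (j : ℕ) = x ^ (i : ℕ) * x ^ ((j : ℕ) - i) := by rw [← pow_add]; congr 1; omega
      rw [h2] at h1
      generalize x ^ (i : ℕ) = A at h1
      generalize x ^ ((j : ℕ) - i) = B at h1 ⊢
      calc e * B = A⁻¹ * (A * e * A⁻¹) * A * B := by group
        _ = A⁻¹ * (A * B * e * (A * B)⁻¹) * A * B := by rw [h1]
        _ = B * e := by group
    intro i j h
    rcases lt_trichotomy (i : ℕ) j with h1 | h1 | h1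
    · exact absurd h (key i j h1)
    · exact Fin.ext h1
    · exact absurd h.symm (key j i h1)
  have hcard : Fintype.card (Fin 7) = Fintype.card {z : E // z ≠ 1} := by
    have h1 : Fintype.card {z : E // z ≠ 1} = Nat.card E - 1 := by
      have hfT : Fintype E := Fintype.ofFinite _
      rw [Nat.card_eq_fintype_card, Fintype.card_subtype_compl, Fintype.card_subtype_eq]
    rw [h1, hE, Fintype.card_fin]
  have hbij := (Fintype.bijective_iff_injective_and_card f).2 ⟨hinj, hcard⟩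
  refine ⟨E, x, IsPGroup.of_card (n := 3) (by rw [hE]; norm_num), ?_, ?_, h7, ?_⟩
  · rintro rfl
    rw [card_bot] at hE
    omega
  · rw [mem_normalizer_iff]
    intro a
    constructor
    · exact hx a
    · intro ha
      have h3 := hxj 6 _ ha
      have h4 : x ^ 6 * (x * a * x⁻¹) * (x ^ 6)⁻¹ = a := by
        have h5 : x ^ 6 = x⁻¹ := by
          rw [eq_inv_iff_mul_eq_one, ← pow_succ, show 6 + 1 = orderOf x from h7.symm, pow_orderOf_eq_one]
        rw [h5]; group
      rwa [h4] at h3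
  · intro j h0 hj a ha h1
    by_contra ha1
    have h3 := hcomm j h0 hj a h1
    obtain ⟨i, hi⟩ := hbij.2 ⟨⟨a, ha⟩, fun h => ha1 (congrArg Subtype.val h)⟩
    have h4 : x ^ (i : ℕ) * e * (x ^ (i : ℕ))⁻¹ = a :=
      congrArg (fun z : {z : E // z ≠ 1} => ((z : E) : X)) hi
    apply hne
    have h5 : Commute a x := h3
    have h6 : Commute ((x ^ (i : ℕ))⁻¹ * a * x ^ (i : ℕ)) x := by
      have h7 : Commute (x ^ (i : ℕ)) x := (Commute.refl x).pow_left _
      exact (h7.inv_left.mul_left h5).mul_left h7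
    have h7 : (x ^ (i : ℕ))⁻¹ * a * x ^ (i : ℕ) = e := by rw [← h4]; group
    rw [h7] at h6
    exact h6.symm

theorem m22_frob : HasFrob Spor.M22 2 7 := hasFrob_two_seven Cfsg.Agent.H852.FrobElts.m22
theorem mcl_frob : HasFrob Spor.McL 2 7 := hasFrob_two_seven Cfsg.Agent.H852.FrobElts.mcl
theorem hs_twenty {M : Type*} [Group M] (h : Spor.IsoHS M) : HasOrd M 20 := by
  obtain ⟨e⟩ := h
  obtain ⟨g, hg⟩ := Cfsg.Agent.H559.HSElt.exists_twenty
  exact HasOrd.congr ⟨g, hg⟩ e.symm

end Cfsg.Agent.H16.Rec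
end

-- part: H16/Rec/RowMcL
section
/-!
# Recognition by spectrum: the McLaughlin group (helper16)

`rec_mcl` : a finite group with the same element orders as `McL` is isomorphic to `McL`.
-/

set_option autoImplicit false
set_option linter.unusedSectionVars false

namespace Cfsg.Agent.H16.Rec

open Subgroup Cfsg Cfsg.Agent.OrdDiv Cfsg.Agent.H436 Cfsg.Agent.H58.Rec Cfsg.Agent.H455.Isolated Cfsg.Agent.TypeM
open Cfsg.Agent.TypeM.Two (MT)

universe u v

/-! ### element orders of alternating groups -/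

theorem alt_twentyone_of {α : Type*} [Fintype α] [DecidableEq α] {z : Equiv.Perm α} (hz : z ∈ alternatingGroup α)
    (h21 : z ^ 21 = 1) (h7 : z ^ 7 ≠ 1) (h3 : z ^ 3 ≠ 1) : HasOrd (alternatingGroup α) 21 := by
  refine ⟨⟨z, hz⟩, ?_⟩
  rw [Subgroup.orderOf_mk]
  refine orderOf_eq_of_pow_and_pow_div_prime (by norm_num) h21 fun p hp hd => ?_
  have h1 : p = 3 ∨ p = 7 := by
    have h2 : p ∣ 3 * 7 := hd
    rcases (Nat.Prime.dvd_mul hp).1 h2 with h3 | h3
    · exact Or.inl ((Nat.prime_dvd_prime_iff_eq hp (by norm_num)).1 h3)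
    · exact Or.inr ((Nat.prime_dvd_prime_iff_eq hp (by norm_num)).1 h3)
  rcases h1 with rfl | rfl
  · exact h7
  · exact h3

theorem alt_eleven_twentyone : HasOrd (alternatingGroup (Fin 11)) 21 :=
  alt_twentyone_of (z := c[0, 1, 2, 3, 4, 5, 6] * c[7, 8, 9]) (Equiv.Perm.mem_alternatingGroup.2 (by decide +kernel))
    (by decide +kernel) (by decide +kernel) (by decide +kernel)

theorem alt_twelve_twentyone : HasOrd (alternatingGroup (Fin 12)) 21 :=
  alt_twentyone_of (z := c[0, 1, 2, 3, 4, 5, 6] * c[7, 8, 9]) (Equiv.Perm.mem_alternatingGroup.2 (by decide +kernel))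
    (by decide +kernel) (by decide +kernel) (by decide +kernel)

/-- no element of order 9 in `M22` -/
theorem m22_nine {S : Type*} [Group S] [Finite S] (h : Spor.IsoM22 S) (hc : Nat.card S = 443520) : ¬ HasOrd S 9 := by
  rintro ⟨g, hg⟩
  obtain ⟨e⟩ := h
  obtain ⟨x, y, hx, hy, hxy, hx1, hy1, hyx, hyx2⟩ := Cfsg.Agent.H559.MElts.three
  refine Cfsg.Agent.H559.SixMain.no_nine (S := S) (by rw [hc]; norm_num) (x := e.symm x) (y := e.symm y)
    (by rw [← map_pow, hx, map_one])
    (by rw [← map_pow, hy, map_one]) (by rw [← map_mul, ← map_mul, hxy])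
    (fun h1 => hx1 ((MulEquiv.map_eq_one_iff _).1 h1)) (fun h1 => hy1 ((MulEquiv.map_eq_one_iff _).1 h1))
    (fun h1 => hyx (e.symm.injective h1)) (fun h1 => hyx2 (e.symm.injective (by rw [h1, map_mul]))) _ hg

/-! ### tools -/

theorem card_cent_of {M : Type*} [Group M] (x : M) : Nat.card (centralizer ({x} : Set M)) =
    Nat.card (centralizer ((zpowers x : Subgroup M) : Set M)) := by
  rw [zpowers_eq_closure, centralizer_closure]

/-- an element of order `r s` is in the centralizer of one of order `r` -/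
theorem not_hasOrd_of_cent {M : Type*} [Group M] [Finite M] {r s m : ℕ} (hr : 0 < r) (hs : 0 < s)
    (h : ∀ x : M, orderOf x = r → Nat.card (centralizer ({x} : Set M)) ∣ m) (hm : ¬ r * s ∣ m) : ¬ HasOrd M (r * s) := by
  rintro ⟨g, hg⟩
  have hpos : 0 < r * s := Nat.mul_pos hr hs
  have h1 : orderOf (g ^ s) = r := by
    rw [orderOf_pow_of_dvd hs.ne' (by rw [hg]; exact dvd_mul_left s r), hg]
    exact Nat.mul_div_cancel _ hs
  have h3 : orderOf (⟨g, mem_centralizer_singleton_iff.2 ((Commute.refl g).pow_right s).eq⟩ :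
      centralizer ({g ^ s} : Set M)) ∣ Nat.card (centralizer ({g ^ s} : Set M)) := _root_.orderOf_dvd_natCard _
  rw [Subgroup.orderOf_mk, hg] at h3
  exact hm (h3.trans (h _ h1))

theorem Red_isolated {G : Type u} [Group G] [Finite G] {X : Type v} [Group X] {π : G →* X} {S : Subgroup X} {s : ℕ}
    (h : Red π S s) : Isolated S s := by
  rw [isolated_iff]
  intro t ht hts h1
  exact (isolated_iff.1 h.iso) t ht hts (h.hasOrd' h1)

/-- primes dividing `898128000` -/
theorem primes_mcl {q : ℕ} (hq : q.Prime) (h : q ∣ 898128000) : q ∈ [2, 3, 5, 7, 11] := by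
  have h1 : q ∣ (2 * 3 * 5 * 7 * 11) ^ 7 := h.trans (by norm_num)
  have h2 := hq.dvd_of_dvd_pow h1
  have e : ∀ r : ℕ, r.Prime → q ∣ r → q = r := fun r hr hd => (Nat.prime_dvd_prime_iff_eq hq hr).1 hd
  simp only [List.mem_cons, List.not_mem_nil, or_false]
  rcases hq.dvd_mul.1 h2 with h3 | h3
  · rcases hq.dvd_mul.1 h3 with h4 | h4
    · rcases hq.dvd_mul.1 h4 with h5 | h5
      · rcases hq.dvd_mul.1 h5 with h6 | h6
        · exact Or.inl (e 2 (by norm_num) h6)
        · exact Or.inr (Or.inl (e 3 (by norm_num) h6))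
      · exact Or.inr (Or.inr (Or.inl (e 5 (by norm_num) h5)))
    · exact Or.inr (Or.inr (Or.inr (Or.inl (e 7 (by norm_num) h4))))
  · exact Or.inr (Or.inr (Or.inr (Or.inr (e 11 (by norm_num) h3))))

theorem lst_eleven : lst [2, 3, 5, 7, 11] [11] 11 13 =
    [.alt 11, .alt 12, .m11, .m12, .m22, .mcl, .hs, .psu 5 2, .psu 6 2, .psl 2 11] := by decide +kernel

theorem not_eleven : ∀ n ∈ [7920, 95040, 13685760, 660, 898128000], ∀ f ∈ List.range 11, f ∣ 11 - 1 → 11 * f ∣ n →
    n / (11 * f) % 11 = 1 → f = 5 := by decide +kernel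

theorem not_sq : ∀ n ∈ [7920, 95040, 13685760, 660, 898128000], ¬ 11 * 11 ∣ n := by decide +kernel

/-- the Frobenius group `11:5` -/
theorem frob_eleven {G : Type u} [Group G] [Finite G] {X : Type v} [Group X] {π : G →* X} {S : Subgroup X}
    (h : Red π S 11) {n : ℕ} (hn : Nat.card S = n) (hm : n ∈ [7920, 95040, 13685760, 660, 898128000]) :
    HasFrob S 11 5 := by
  have hfX : Finite X := Finite.of_surjective π h.surj
  exact hasFrob_of_isolated (by norm_num) hn (Red_isolated h) (hn ▸ h.dvd) (not_sq n hm) (by norm_num) (not_eleven n hm)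

/-- **The McLaughlin group.** -/
theorem rec_mcl (hN : NameHyp.{u}) {G : Type u} [Group G] [Finite G] {M : Type v} [Group M] [Finite M]
    (hM : Spor.IsoMcL M) (h : Same G M) : Nonempty (G ≃* M) := by
  classical
  obtain ⟨-, hMs, hMc, ⟨L⟩⟩ := FactsMcL.facts hM
  -- orders which do not occur
  have hev : ∀ k, 0 < k → k ∉ [1, 2, 3, 4, 5, 6, 7, 15] → ¬ HasOrd M (2 * k) := fun k hk hn => not_hasOrd_even L hk hn
  have hcM11 : ∀ x : M, orderOf x = 11 → Nat.card (centralizer ({x} : Set M)) = 11 := by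
    intro x hx
    rw [card_cent_of]
    exact (Cfsg.Agent.H904.McLCent.eleven hM (zpowers x) (by rw [Nat.card_zpowers, hx])).1
  have hcM7 : ∀ x : M, orderOf x = 7 → Nat.card (centralizer ({x} : Set M)) ∣ 14 := by
    intro x hx
    rw [card_cent_of]
    exact (Cfsg.Agent.H904.McLCent.seven hM (zpowers x) (by rw [Nat.card_zpowers, hx])).1
  have n18 : ¬ HasOrd M 18 := hev 9 (by norm_num) (by decide)
  have n16 : ¬ HasOrd G 16 := fun h1 => hev 8 (by norm_num) (by decide) ((h _).1 h1)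
  have n20 : ¬ HasOrd G 20 := fun h1 => hev 10 (by norm_num) (by decide) ((h _).1 h1)
  have n24 : ¬ HasOrd G 24 := fun h1 => hev 12 (by norm_num) (by decide) ((h _).1 h1)
  have n40 : ¬ HasOrd G 40 := fun h1 => hev 20 (by norm_num) (by decide) ((h _).1 h1)
  have m35 : ¬ HasOrd M (7 * 5) := not_hasOrd_of_cent (by norm_num) (by norm_num) hcM7 (by norm_num)
  have m21 : ¬ HasOrd M (7 * 3) := not_hasOrd_of_cent (by norm_num) (by norm_num) hcM7 (by norm_num)
  have m77 : ¬ HasOrd M (11 * 7) := not_hasOrd_of_cent (by norm_num) (by norm_num)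
    (fun x hx => (hcM11 x hx).dvd) (by norm_num)
  have m55 : ¬ HasOrd M (11 * 5) := not_hasOrd_of_cent (by norm_num) (by norm_num)
    (fun x hx => (hcM11 x hx).dvd) (by norm_num)
  have n35 : ¬ HasOrd G 35 := fun h1 => m35 ((h _).1 h1)
  have n21 : ¬ HasOrd G 21 := fun h1 => m21 ((h _).1 h1)
  have n18' : ¬ HasOrd G 18 := fun h1 => n18 ((h _).1 h1)
  have y9 : HasOrd G 9 := (h _).2 (McLTab.mcl_nine hM)
  -- the good prime 11
  have hgM : _root_.Cfsg.Agent.H58.Rec.Good M 11 := ⟨by norm_num, by norm_num, by rw [hMc]; norm_num, isolated_of_sc (by norm_num) hcM11,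
    9, by decide, by norm_num, McLTab.mcl_nine hM, n18⟩
  have hgG := Good.of_same h hgM
  have hcards : ∀ p : ℕ, p.Prime → p ∣ Nat.card G → p ∈ [2, 3, 5, 7, 11] := by
    intro p hp hpG
    have h1 := (dvd_of_same h hp).1 hpG
    rw [hMc] at h1
    exact primes_mcl hp h1
  have h2G : 2 ∣ Nat.card G := (dvd_of_same h Nat.prime_two).2 (by rw [hMc]; norm_num)
  have h7G : 7 ∣ Nat.card G := (dvd_of_same h (by norm_num)).2 (by rw [hMc]; norm_num)
  have hns : ¬ Group.IsSolvable G := not_solvable_of_same h (r := 11) (s := 7) (t := 5) (by norm_num) (by norm_num)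
    (by norm_num) (by norm_num) (by norm_num) (by norm_num) (by rw [hMc]; norm_num) (by rw [hMc]; norm_num)
    (by rw [hMc]; norm_num) m77 m55 m35
  obtain ⟨X, _, _, π, S, hred⟩ := exists_red hns h2G hgG
  have R := hred 11 hgG
  obtain ⟨g, hg, hgS⟩ := R.exists_name hN (ps := [2, 3, 5, 7, 11]) (rs := [11]) (B := 11) (N := 13) (by norm_num)
    (by decide) (by norm_num) (by decide) hcards (by
      intro q hq
      rw [List.mem_singleton] at hq
      subst hq
      exact R.dvd)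
  rw [lst_eleven] at hg
  have hfX : Finite X := inferInstance
  have key7 : ∀ n, Nat.card S = n → n ∈ [7920, 95040, 13685760, 660, 898128000] → ¬ 7 ∣ Nat.card π.ker :=
    fun n hn hm => R.kill' (by norm_num) (q := 11) (n := 5) (by norm_num) (by norm_num) (frob_eleven R hn hm) n35
  simp only [List.mem_cons, List.not_mem_nil, or_false] at hg
  rcases hg with rfl | rfl | rfl | rfl | rfl | rfl | rfl | rfl | rfl | rfl
  · -- `A₁₁`
    obtain ⟨e⟩ := hgS.real
    exact absurd (R.hasOrd' (alt_eleven_twentyone.congr e.symm)) n21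
  · -- `A₁₂`
    obtain ⟨e⟩ := hgS.real
    exact absurd (R.hasOrd' (alt_twelve_twentyone.congr e.symm)) n21
  · -- `M₁₁`
    have hc : Nat.card S = 7920 := hgS.ord.trans (by decide +kernel)
    exact (R.absurd_of hc (r := 7) (by norm_num) h7G (key7 _ hc (by decide)) (by decide +kernel)).elim
  · -- `M₁₂`
    have hc : Nat.card S = 95040 := hgS.ord.trans (by decide +kernel)
    exact (R.absurd_of hc (r := 7) (by norm_num) h7G (key7 _ hc (by decide)) (by decide +kernel)).elim
  · -- `M₂₂`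
    have hc : Nat.card S = 443520 := hgS.ord.trans (by decide +kernel)
    have hiso : Spor.IsoM22 S := hgS.real
    have h3 : ¬ 3 ∣ Nat.card π.ker := by
      obtain ⟨e⟩ := hiso
      exact R.kill' (by norm_num) (q := 2) (n := 7) (by norm_num) (by norm_num) (m22_frob.congr e.symm) n21
    have hX : HasOrd X 9 := y9.map_of_coprime π (by
      have : Nat.Coprime (3 ^ 2) (Nat.card π.ker) :=
        Nat.Coprime.pow_left 2 ((Nat.Prime.coprime_iff_not_dvd (by norm_num)).2 h3)
      exact this)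
    have hSn := R.normal
    have hidx := R.index_mem hc (by decide +kernel)
    have hS : HasOrd S 9 := hX.subgroup_of_coprime S (by
      have h4 : ∀ i ∈ idxs 11 443520, Nat.Coprime 9 i := by decide +kernel
      exact h4 _ hidx)
    exact absurd hS (m22_nine hiso hc)
  · -- `McL`
    have hc : Nat.card S = 898128000 := hgS.ord.trans (by decide +kernel)
    have hiso : Spor.IsoMcL S := hgS.real
    have hf38 : HasFrob S 3 8 := McLTab.mcl_frob38 hiso
    have hf27 : HasFrob S 2 7 := by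
      obtain ⟨e⟩ := hiso
      exact mcl_frob.congr e.symm
    have hker : ∀ p : ℕ, p.Prime → p ∣ Nat.card G → ¬ p ∣ Nat.card π.ker := by
      intro p hp hpG
      have h1 := hcards p hp hpG
      simp only [List.mem_cons, List.not_mem_nil, or_false] at h1
      rcases h1 with rfl | rfl | rfl | rfl | rfl
      · exact R.kill' hp (q := 3) (n := 8) (by norm_num) (by norm_num) hf38 n16
      · exact R.kill' hp (q := 2) (n := 7) (by norm_num) (by norm_num) hf27 n21
      · exact R.kill' hp (q := 3) (n := 8) (by norm_num) (by norm_num) hf38 n40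
      · exact key7 _ hc (by decide)
      · exact R.not_dvd
    have hinj := injective_of hker
    have hSn := R.normal
    have hidx := R.index_mem hc (by decide +kernel)
    have h4 : ∀ i ∈ idxs 11 898128000, i = 1 ∨ i = 2 := by decide +kernel
    have h5 : S.index = 1 := by
      rcases h4 _ hidx with h5 | h5
      · exact h5
      · exact absurd (R.hasOrd (outer_twentyfour S h5 R.cent hiso)) n24
    rw [index_eq_one] at h5
    obtain ⟨e1⟩ := hiso
    obtain ⟨e2⟩ := hM
    have e3 : G ≃* X := MulEquiv.ofBijective π ⟨hinj, R.surj⟩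
    have e4 : X ≃* S := (topEquiv (G := X)).symm.trans (MulEquiv.subgroupCongr h5.symm)
    exact ⟨((e3.trans e4).trans e1).trans e2.symm⟩
  · -- `HS`
    exact absurd (R.hasOrd' (hs_twenty hgS.real)) n20
  · -- `U₅(2)`
    have hc : Nat.card S = 13685760 := hgS.ord.trans (by decide +kernel)
    exact (R.absurd_of hc (r := 7) (by norm_num) h7G (key7 _ hc (by decide)) (by decide +kernel)).elim
  · -- `U₆(2)`
    obtain ⟨F, _, _, hF, ⟨e⟩⟩ := hgS.real
    exact absurd (R.hasOrd' ((usix_eighteen (F := F) (by rw [hF]; norm_num)).congr e.symm)) n18'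
  · -- `L₂(11)`
    have hc : Nat.card S = 660 := hgS.ord.trans (by decide +kernel)
    exact (R.absurd_of hc (r := 7) (by norm_num) h7G (key7 _ hc (by decide)) (by decide +kernel)).elim

end Cfsg.Agent.H16.Rec
end

private theorem dce_0f038f7b14de : _root_.True := by
  try have : _root_.True := by simp only [_root_.Cfsg.Agent.H16.Rec.enum.eq_def]
  try have : _root_.True := by simp only [_root_.Cfsg.Agent.H16.Rec.enum.eq_2]
  try have : _root_.True := by simp only [_root_.Cfsg.Agent.H16.Rec.enum.eq_1]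
  exact _root_.True.intro
end

-- part: H359/Rec/SuzTwo_mg
section

end
end
end
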